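import Cfsg.Agent.Lib.SE.Red
import Cfsg.Prelude.Def_Involutions

/-! Project SE: the action on the cosets of a strongly embedded subgroup. -/

set_option autoImplicit false

namespace CfsgLib.SE

open Subgroup MulAction Cfsg CfsgLib.Cop CfsgLib.H1

universe u

variable {G : Type*} [Group G]

theorem smul_mk_eq_iff {M : Subgroup G} {u g : G} :
    u • (g : G ⧸ M) = (g : G ⧸ M) ↔ g⁻¹ * u * g ∈ M := by
  rw [Quotient.smul_mk, eq_comm, QuotientGroup.eq, smul_eq_mul, mul_assoc]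

theorem sea_quot [Finite G] {M : Subgroup G} (hM : M ≠ ⊤) {a : G} (ha : IsInv a) (haM : a ∈ M)
    (h : ∀ u g : G, IsInv u → u ∈ M → g * u * g⁻¹ ∈ M → g ∈ M) : SEA G (G ⧸ M) where
  trans := fun α β => exists_smul_eq G α β
  nontriv := by
    obtain ⟨g, -, hg⟩ := SetLike.exists_of_lt (lt_top_iff_ne_top.2 hM)
    exact ⟨(1 : G), g, fun e => hg (by simpa using QuotientGroup.eq.1 e)⟩
  fix := fun u hu => by
    by_cases ho : Odd (orderOf (a * u))
    · obtain ⟨s, -, rfl⟩ := Invol.exists_conj_of_odd ha.1 hu.1 ho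
      exact ⟨(s : G ⧸ M), smul_mk_eq_iff.2 (by simpa [mul_assoc] using haM)⟩
    · obtain ⟨z, h1, h2, h3, h4⟩ := Suz.exists_comm_of_even ha.1 hu.1 (Nat.not_odd_iff_even.1 ho)
      have h5 : z ∈ M := h a z ha haM (by rwa [h3, mul_inv_cancel_right])
      have h6 : u ∈ M := h z u ⟨h2, h1⟩ h5 (by rwa [← h4, mul_inv_cancel_right])
      exact ⟨((1 : G) : G ⧸ M), smul_mk_eq_iff.2 (by simpa using h6)⟩
  uniq := fun u hu α β h1 h2 => by
    obtain ⟨x, rfl⟩ := QuotientGroup.mk_surjective α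
    obtain ⟨y, rfl⟩ := QuotientGroup.mk_surjective β
    rw [smul_mk_eq_iff] at h1 h2
    refine QuotientGroup.eq.2 (h (y⁻¹ * u * y) _ (by simpa using hu.conj y⁻¹) h2 ?_)
    simpa [mul_assoc] using h1
  even := ⟨a, ha⟩

theorem sea_of_isStronglyEmbedded [Finite G] {H : Subgroup G} (h : IsStronglyEmbedded H) :
    SEA G (G ⧸ H) := by
  obtain ⟨a, ha, h1, h2⟩ := Suz.exists_invol_of_even h.2.1
  refine sea_quot h.1 ⟨h2, h1⟩ ha fun u g hu a b => ?_
  by_contra hg
  exact (hu.conj g).not_odd (mem_inf.2 ⟨b, conj_mem_map_conj a⟩) (h.2.2 g hg)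

theorem stab_quot (H : Subgroup G) (g : G) :
    stabilizer G (g : G ⧸ H) = H.map (MulAut.conj g).toMonoidHom := by
  ext u
  rw [mem_stabilizer_iff, smul_mk_eq_iff, mem_map_conj_iff]

theorem stab_quot_one (H : Subgroup G) : stabilizer G ((1 : G) : G ⧸ H) = H := by
  rw [stab_quot, map_conj_one]

theorem solv_quot {H : Subgroup G} (h : Group.IsSolvable H) (ω : G ⧸ H) :
    Group.IsSolvable (stabilizer G ω) := by
  obtain ⟨x, rfl⟩ := QuotientGroup.mk_surjective ω
  rw [stab_quot]; exact isSolvable_map h _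

theorem faithful_quot {H : Subgroup G} (h : H.normalCore = ⊥) (g : G)
    (hg : ∀ ω : G ⧸ H, g • ω = ω) : g = 1 := by
  rw [← mem_bot, ← h]
  intro x
  simpa using smul_mk_eq_iff.1 (hg (x⁻¹ : G))

theorem tc_of_base {Ω : Type*} [MulAction G Ω] (S : SEA G Ω) {α : Ω}
    (h : ∀ u v : G, IsInv u → IsInv v → u • α = α → v • α = α → u * v = v * u) : Tc G Ω := by
  intro u v β hu hv h1 h2
  obtain ⟨g, rfl⟩ := S.trans β α
  have := h _ _ (hu.conj g) (hv.conj g) (conj_smul_eq h1) (conj_smul_eq h2)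
  rw [conj_mul, conj_mul] at this
  simpa using this

theorem normalCore_eq_bot_of_simple [IsSimpleGroup G] {H : Subgroup G} (h : H ≠ ⊤) :
    H.normalCore = ⊥ :=
  (H.normalCore_normal.eq_bot_or_eq_top).resolve_right fun e =>
    h (top_le_iff.1 (e ▸ H.normalCore_le))

/-- Bender step, first form: `H` strongly embedded and solvable with trivial core, `2`-rank at
least two, and the involutions of `H` commute with each other. -/
theorem bender_tc {G : Type u} [Group G] [Finite G] {H : Subgroup G} (h : IsStronglyEmbedded H)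
    (hs : Group.IsSolvable H) (hc : H.normalCore = ⊥) (hr : Rk2 (⊤ : Subgroup G))
    (hT : ∀ u ∈ H, ∀ v ∈ H, u * u = 1 → v * v = 1 → u * v = v * u) :
    ∃ Q t, Suz.RO H Q t ∧ Suz.Rank2 Q := by
  have S := sea_of_isStronglyEmbedded h
  have := exists_RO_of_tc G (G ⧸ H) S (tc_of_base S (α := ((1 : G) : G ⧸ H)) fun u v hu hv a b =>
    hT u (stab_quot_one H ▸ a) v (stab_quot_one H ▸ b) hu.1 hv.1) hr (faithful_quot hc)
    (solv_quot hs) ((1 : G) : G ⧸ H)
  rwa [stab_quot_one] at this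

end CfsgLib.SE
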