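import Cfsg.Agent.Lib.SE.Gen

/-! Project SE: the solvable case, second part. -/

set_option autoImplicit false

namespace CfsgLib.SE

open Subgroup MulAction Cfsg CfsgLib.Cop CfsgLib.H1
open scoped commutatorElement

variable {G Ω : Type*} [Group G] [MulAction G Ω] [Finite G]

omit [Finite G] in
theorem mem_of_sq_mem {y : G} (hy : Odd (orderOf y)) {X : Subgroup G} (h : y * y ∈ X) : y ∈ X := by
  obtain ⟨m, hm⟩ := hy
  have h7 : y = (y * y) ^ (m + 1) := by
    rw [← pow_two, ← pow_mul, show 2 * (m + 1) = (2 * m + 1) + 1 by ring, pow_succ, ← hm,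
      pow_orderOf_eq_one, one_mul]
  rw [h7]; exact pow_mem h _

omit [Finite G] in
theorem mem_normalizer_cent_of_inverts {z y : G} (e : z * y * z⁻¹ = y⁻¹) [Finite G] :
    z ∈ normalizer ((centralizer {y} : Subgroup G) : Set G) := by
  refine mem_normalizer_of_conj_mem fun x hx => ?_
  rw [mem_centralizer_singleton_iff] at hx ⊢
  have e' : y = z * y⁻¹ * z⁻¹ := by rw [← conj_inv, e, inv_inv]
  have hx' : x * y⁻¹ = y⁻¹ * x := (Commute.inv_right hx : Commute x y⁻¹)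
  calc z * x * z⁻¹ * y = z * x * z⁻¹ * (z * y⁻¹ * z⁻¹) := by rw [← e']
    _ = z * y⁻¹ * z⁻¹ * (z * x * z⁻¹) := by rw [conj_mul, conj_mul, hx']
    _ = _ := by rw [← e']

theorem exists_step {a b : G} (ha : IsInv a) (hb : IsInv b) (hne : a ≠ b) (hc : a * b = b * a)
    {X : Subgroup G} (hX : Odd (Nat.card X)) (haX : a ∈ normalizer (X : Set G))
    (hbX : b ∈ normalizer (X : Set G)) (h : ¬ X ≤ centralizer {a}) :
    ∃ v, (v = b ∨ v = a * b) ∧ ∃ y ∈ X, y ≠ 1 ∧ y * v = v * y ∧ a * y * a⁻¹ = y⁻¹ := by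
  have key : ∀ v, a * v = v * a → ¬ X ⊓ centralizer {v} ≤ centralizer {a} →
      ∃ y ∈ X, y ≠ 1 ∧ y * v = v * y ∧ a * y * a⁻¹ = y⁻¹ := fun v h3 h4 => by
    obtain ⟨y, hy, hy1, e⟩ := exists_inverted ha (X := X ⊓ centralizer {v})
      (le_normalizer_inf (H := zpowers a) (zpowers_le_of_mem haX)
        (zpowers_le_of_mem (le_normalizer (mem_centralizer_singleton_iff.2 h3)))
        (mem_zpowers a)) h4
    exact ⟨y, hy.1, hy1, mem_centralizer_singleton_iff.1 hy.2, e⟩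
  by_contra hcon
  refine h (le_of_four ha hb hne hc hX haX hbX inf_le_right ?_ ?_)
  · by_contra h3
    exact hcon ⟨b, Or.inl rfl, key b hc h3⟩
  · by_contra h3
    exact hcon ⟨_, Or.inr rfl, key _ (by rw [mul_assoc, hc]) h3⟩

omit [Finite G] in
theorem inverts_mul_of_comm {v w y : G} (h1 : y * v = v * y) (h2 : w * y * w⁻¹ = y⁻¹) :
    (w * v) * y * (w * v)⁻¹ = y⁻¹ := by
  rw [mul_inv_rev, mul_assoc w v y, ← h1, ← h2]; group

/-- a four-group acting faithfully on an abelian `p`-group has an involution inverting a noncyclic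
subgroup -/
theorem exists_inverted_noncyclic {p : ℕ} [Fact p.Prime] (hp2 : p ≠ 2) {L Z : Subgroup G}
    (hL : Rk2 L) (hn : L ≤ normalizer (Z : Set G)) (hZ : IsPGroup p Z)
    (hab : Z ≤ centralizer (Z : Set G)) (h : ∀ u ∈ L, IsInv u → ¬ Z ≤ centralizer {u}) :
    ∃ z ∈ L, IsInv z ∧ ∃ B : Subgroup G, B ≤ Z ∧ ¬ IsCyclic B ∧ ∀ b ∈ B, z * b * z⁻¹ = b⁻¹ := by
  obtain ⟨a, haL, b, hbL, ha, hb, hne, hc⟩ := hL
  have hodd := odd_card_of_isPGroup hp2 hZ
  obtain ⟨v, hv, y1, hy1, hy1', h1, h2⟩ := exists_step ha hb hne hc hodd (hn haL) (hn hbL)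
    (h a haL ha)
  obtain ⟨hvi, hvL, hva, hvc⟩ : IsInv v ∧ v ∈ L ∧ v ≠ a ∧ v * a = a * v := by
    rcases hv with rfl | rfl
    · exact ⟨hb, hbL, hne.symm, hc.symm⟩
    · exact ⟨isInv_mul ha hb hne hc, mul_mem haL hbL, fun e => hb.2 (by simpa using e),
        by rw [mul_assoc, hc]⟩
  obtain ⟨w, hw, y2, hy2, hy2', h3, h4⟩ := exists_step hvi ha hva hvc hodd (hn hvL) (hn haL)
    (h v hvL hvi)
  obtain ⟨hwi, hwL, hvw, hwc, h5⟩ :
      IsInv w ∧ w ∈ L ∧ v ≠ w ∧ v * w = w * v ∧ w * y1 * w⁻¹ = y1⁻¹ := by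
    rcases hw with rfl | rfl
    · exact ⟨ha, haL, hva, hvc, h2⟩
    · refine ⟨isInv_mul hvi ha hva hvc, mul_mem hvL haL, fun e => ha.2 (by simpa using e),
        by rw [mul_assoc, hvc], ?_⟩
      rw [hvc]; exact inverts_mul_of_comm h1 h2
  let B : Subgroup G :=
    { carrier := {x | x ∈ Z ∧ v * w * x * (v * w)⁻¹ = x⁻¹}
      one_mem' := ⟨one_mem _, by simp⟩
      mul_mem' := fun {x y} hx hy => ⟨mul_mem hx.1 hy.1, by
        rw [← conj_mul, hx.2, hy.2, ← mul_inv_rev, hab hx.1 y hy.1]⟩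
      inv_mem' := fun {x} hx => ⟨inv_mem hx.1, by rw [← conj_inv, hx.2]⟩ }
  have hB1 : y1 ∈ B := ⟨hy1, by rw [hwc]; exact inverts_mul_of_comm h1 h5⟩
  have hB2 : y2 ∈ B := ⟨hy2, inverts_mul_of_comm h3 h4⟩
  refine ⟨v * w, mul_mem hvL hwL, isInv_mul hvi hwi hvw hwc, B, fun _ hx => hx.1, fun hcyc => ?_,
    fun _ hx => hx.2⟩
  have key : ∀ {u y y' : G}, y ∈ Z → y ≠ 1 → y' * u = u * y' → u * y * u⁻¹ = y⁻¹ →
      ¬ zpowers y ≤ zpowers y' := fun {u y y'} hy hy' e1 e2 hle => by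
    have h6 : y * u = u * y := mem_centralizer_singleton_iff.1
      (zpowers_le_of_mem (mem_centralizer_singleton_iff.2 e1) (hle (mem_zpowers y)))
    rw [← h6, mul_inv_cancel_right] at e2
    exact hy' (Suz.eq_one_of_odd_card hodd hy (by nth_rw 2 [e2]; exact mul_inv_cancel y))
  rcases FT.le_total_of_cyclic_pgroup hcyc (hZ.to_le fun _ hx => hx.1) (zpowers_le_of_mem hB1)
    (zpowers_le_of_mem hB2) with h6 | h6
  · exact key hy1 hy1' h3 h5 h6
  · exact key hy2 hy2' h1 h4 h6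

theorem le_piCoreOf_of_cent {p : ℕ} [Fact p.Prime] {H R L : Subgroup G} (hH : Group.IsSolvable H)
    (hR : IsPGroup p R) (hRH : R ≤ H) (hLH : L ≤ H) (hL : (Nat.card L).Coprime p)
    (hLR : L ≤ centralizer (R : Set G))
    (hn : H ⊓ centralizer (R : Set G) ≤ normalizer (L : Set G)) : L ≤ piCoreOf {p}ᶜ H :=
  map_pPrimeCore_eq_piCoreOf p H ▸ FT.le_p'core_of_cent_pgroup hH hR hRH hLH hL hLR hn

omit [Finite G] in
theorem SEA.stab_ne_top (S : SEA G Ω) (α : Ω) : stabilizer G α ≠ ⊤ := fun h => by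
  obtain ⟨β, hβ⟩ := S.exists_ne α
  obtain ⟨g, rfl⟩ := S.trans α β
  exact hβ (h.ge (mem_top g))

namespace Ctx

variable {p : ℕ} [hp : Fact p.Prime] (C : Ctx G Ω p) [IsSimpleGroup G]
include C

theorem dSub_ne_top {α : Ω} {P : Subgroup G} (hP : IsPGroup p P) (h : P ≠ ⊥)
    (h1 : P ≤ stabilizer G α) : normalizer (dSub P : Set G) ≠ ⊤ :=
  normalizer_ne_top (dSub_ne_bot hP h) fun e =>
    C.S.stab_ne_top α (top_le_iff.1 (e.ge.trans ((dSub_le P).trans h1)))

theorem sylow_of_max {α β : Ω} (hne : α ≠ β) {P : Subgroup G} (hP : IsSylowIn p P (st2 G α β))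
    (hmax : ∀ (Y : Subgroup G) (γ δ : Ω), γ ≠ δ → IsPGroup p Y → Y ≤ st2 G γ δ →
      Nat.card Y ≤ Nat.card P)
    {z y : G} (hz : IsInv z) (h : z • α = α) (hzP : z ∈ normalizer (P : Set G))
    (hy : Good p α z y) (hyP : y ∈ P) : IsSylowIn p P (stabilizer G α) := by
  by_contra hcon
  have hPα : P ≤ stabilizer G α := hP.le.trans inf_le_left
  have hyα : y ∈ stabilizer G α := pCoreOf_le _ hy.mem
  have hA : ∀ M Y : Subgroup G, M ≠ ⊤ → ¬ M ≤ stabilizer G α → Y ≤ M ⊓ stabilizer G α →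
      IsPGroup p Y → Nat.card P < Nat.card Y → ¬ Rk2 (M ⊓ stabilizer G α) := by
    intro M Y h1 h2 h3 h4 h5 h6
    obtain ⟨m, -, h7, h8⟩ := (C.ih M α h1 h6 h2).c1 p hp.out C.hp2 Y h3 h4
    exact absurd (hmax Y _ _ h7.symm h4 (le_inf (h3.trans inf_le_right) h8)) (not_le.2 h5)
  obtain ⟨P0, ⟨M, hM1, hM2, hM3, hM4, hM5, hM6, hM7⟩, hP0⟩ := Set.exists_max_image
    {Y : Subgroup G | ∃ M : Subgroup G, M ≠ ⊤ ∧ z ∈ M ∧ y ∈ M ∧ ¬ M ≤ stabilizer G α ∧
      Y ≤ M ⊓ stabilizer G α ∧ IsPGroup p Y ∧ Nat.card P < Nat.card Y} (fun Y => Nat.card Y)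
    (Set.toFinite _) (by
      obtain ⟨s, hs, -, h1, -⟩ := C.S.exists_swap_normalizer hne hP
      obtain ⟨Y, h2, h3⟩ := IsSylowIn.exists_ge hP.isPGroup (le_inf hPα (le_normalizer (H := P)))
      refine ⟨Y, normalizer (P : Set G), normalizer_ne_top (fun e => hy.ne (mem_bot.1 (e ▸ hyP)))
        fun e => C.S.stab_ne_top α (top_le_iff.1 (e.ge.trans hPα)), hzP, le_normalizer hyP,
        fun h4 => hne ((h4 hs).symm.trans h1), h3.le.trans (inf_comm _ _).le, h3.isPGroup,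
        lt_of_not_ge fun h4 => hcon (sylow_of_normalizer ?_)⟩
      rwa [← eq_of_le_of_card_ge h2 h4] at h3)
  have hnr : ¬ Rk2 M := fun h1 => hA M P0 hM1 hM4 hM5 hM6 hM7 (C.S.rk2_inf hz hM2 h h1)
  set O := piCoreOf {2}ᶜ M with hO
  have hOn : M ≤ normalizer (O : Set G) := le_normalizer_piCoreOf _
  have hZ : ∀ g ∈ M, g * z * g⁻¹ * z⁻¹ ∈ O := fun g hg => zstar_of_not_rk2 hnr hz hM2 hg
  have hO1 : ¬ O ≤ stabilizer G α := fun h1 => hM4 fun g hg => C.S.fix_of_conj hz h (by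
    have := mul_mem (h1 (hZ g hg)) (show z ∈ stabilizer G α from h)
    simpa using this)
  have hP0M : P0 ≤ M := hM5.trans inf_le_left
  have hXM : P0 ⊔ O ≤ M := sup_le hP0M (piCoreOf_le _)
  have hX : Odd (Nat.card ↥(P0 ⊔ O)) := odd_sup (hP0M.trans hOn)
    (odd_card_of_isPGroup C.hp2 hM6) (odd_piCoreOf _)
  have hzX : z ∈ normalizer ((P0 ⊔ O : Subgroup G) : Set G) := by
    refine mem_normalizer_of_conj_mem fun x hx => ?_
    have := mul_mem (mem_sup_right (S := P0) (inv_mem (hZ x (hXM hx)))) hx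
    simpa [mul_assoc] using this
  have hyX : y ∈ P0 ⊔ O := by
    refine mem_sup_right (mem_of_sq_mem (odd_orderOf_of_mem (C.odd_R α) hy.mem) ?_)
    have := hZ y hM3
    rwa [mul_assoc y z, mul_assoc y, ← conj_inv, hy.inv, inv_inv] at this
  set X := P0 ⊔ O with hXdef
  obtain ⟨T, hT, hzT, hyT⟩ := hz.exists_sylow_ge (p := p) (X := X ⊓ stabilizer G α)
    (U := zpowers y) (hX.of_dvd_nat (card_dvd_of_le inf_le_left))
    (le_normalizer_inf (H := zpowers z) (zpowers_le_of_mem hzX)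
      (zpowers_le_of_mem (le_normalizer h)) (mem_zpowers z))
    ((pCoreOf_isPGroup _).to_le (zpowers_le_of_mem hy.mem)) (zpowers_le_of_mem ⟨hyX, hyα⟩)
    (mem_normalizer_of_conj_mem fun x hx => by
      rw [Invol.inverts_of_mem_zpowers hy.inv hx]; exact inv_mem hx)
  have hTα : T ≤ stabilizer G α := hT.le.trans inf_le_right
  have h1 : Nat.card P0 ≤ Nat.card T :=
    hT.card_le hM6 (le_inf le_sup_left (hM5.trans inf_le_right))
  have h2 : normalizer (T : Set G) ≤ stabilizer G α := fun n hn => by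
    by_contra h3
    exact absurd (hmax T _ _ (Ne.symm h3) hT.isPGroup (le_inf hTα (le_stab_smul hn hTα)))
      (not_le.2 (hM7.trans_le h1))
  have h3 : IsSylowIn p T X := sylow_of_normalizer
    (hT.mono (le_inf (hT.le.trans inf_le_left) le_normalizer) (inf_le_inf_left _ h2))
  have h4 := fact C.hp2 (FT.feit_thompson hX) (abTwo_of_odd hX) h3
  have h5 : piCoreOf {p}ᶜ X ≤ stabilizer G α := C.sig hz h hy
    (hX.of_dvd_nat (card_dvd_of_le (piCoreOf_le _))) (piCoreOf_compl_coprime p _)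
    (le_normalizer_piCoreOf X hyX) (normalizer_le_normalizer_piCoreOf _ hzX)
  have h6 : ¬ normalizer (dSub T : Set G) ≤ stabilizer G α := fun h6 =>
    hO1 (le_sup_right.trans (h4.trans (sup_le h5 (inf_le_right.trans h6))))
  have hyT' : y ∈ T := hyT (mem_zpowers y)
  have h7 := C.dSub_ne_top hT.isPGroup (fun e => hy.ne (mem_bot.1 (e ▸ hyT'))) hTα
  have h8 := normalizer_le_normalizer_dSub T
  have h9 : IsSylowIn p T (stabilizer G α) := by
    refine sylow_of_normalizer (IsSylowIn.of_maximal (le_inf hTα le_normalizer) hT.isPGroup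
      fun Y hY h9 h10 => (eq_of_le_of_card_ge h9 (le_trans (hP0 Y ?_) h1)).ge)
    exact ⟨_, h7, h8 hzT, h8 (le_normalizer hyT'), h6,
      le_inf (h10.trans (inf_le_right.trans h8)) (h10.trans inf_le_left), hY,
      (hM7.trans_le h1).trans_le (card_le_of_le h9)⟩
  exact hA _ T h7 h6 (le_inf (le_normalizer.trans h8) hTα) hT.isPGroup (hM7.trans_le h1)
    (C.four h9)

theorem exists_common_sylow : ∃ (α β : Ω) (P : Subgroup G), α ≠ β ∧
    IsSylowIn p P (stabilizer G α) ∧ IsSylowIn p P (stabilizer G β) := by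
  obtain ⟨P, ⟨hP, γ, δ, hne, hle⟩, hmax⟩ := Set.exists_max_image
    {Y : Subgroup G | IsPGroup p Y ∧ ∃ γ δ : Ω, γ ≠ δ ∧ Y ≤ st2 G γ δ} (fun Y => Nat.card Y)
    (Set.toFinite _) (by
      obtain ⟨γ, δ, h⟩ := C.S.nontriv
      exact ⟨⊥, IsPGroup.of_bot, γ, δ, h, bot_le⟩)
  have hS : ∀ α β : Ω, α ≠ β → P ≤ st2 G α β → IsSylowIn p P (st2 G α β) := fun α β h1 h2 =>
    IsSylowIn.of_maximal h2 hP fun Y hY h3 h4 =>
      (eq_of_le_of_card_ge h3 (hmax Y ⟨hY, α, β, h1, h4⟩)).ge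
  have key : ∀ α β : Ω, IsSylowIn p P (stabilizer G α) → P ≤ stabilizer G β →
      IsSylowIn p P (stabilizer G β) := fun α β h1 h2 => by
    obtain ⟨T, hT⟩ := IsSylowIn.exists_in (p := p) (stabilizer G β)
    exact hT.of_card_le hP h2 (by rw [hT.card_eq_ordProj, h1.card_eq_ordProj, C.S.card_stab α β])
  by_cases h3 : Fix3 Ω P
  · obtain ⟨z, hzP, hz, α, h1, h2⟩ := C.S.exists_inv_max3 C.hp2 (Y := P) ⟨hP, h3,
      fun Y hY h4 ⟨a, b, _, h5, _, _, h6, h7, _⟩ =>
        (eq_of_le_of_card_ge h4 (hmax Y ⟨hY, a, b, h5, le_inf h6 h7⟩)).ge⟩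
    obtain ⟨β, hβ, -, h4⟩ := h3.exists_third α α
    obtain ⟨y, hy⟩ := C.exists_good hz h2
    have h5 := C.sylow_of_max hβ.symm (hS _ _ hβ.symm (le_inf h1 h4))
      (fun Y a b h5 h6 h7 => hmax Y ⟨h6, a, b, h5, h7⟩) hz h2 hzP hy
      (C.inverted_mem hz h2 hβ (hS _ _ (C.S.smul_ne hz h2 hβ).symm
        (le_inf h4 (le_stab_smul hzP h4))) h1 hzP hy.mem hy.inv)
    exact ⟨α, β, P, hβ.symm, h5, key α β h5 h4⟩
  · have h5 := sylow_of_not_fix3 (N := ⊤) hne.symm (by rw [top_inf_eq]; exact hS _ _ hne hle) h3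
    rw [top_inf_eq] at h5
    exact ⟨γ, δ, P, hne, h5, key γ δ h5 (hle.trans inf_le_right)⟩

omit [IsSimpleGroup G] in
theorem U_prop (α : Ω) : Odd (Nat.card (piCoreOf {p}ᶜ (stabilizer G α))) ∧
    piCoreOf {p}ᶜ (stabilizer G α) ≤ centralizer (pCoreOf p (stabilizer G α) : Set G) :=
  C.odd_of_norm (piCoreOf_le _) ((pCoreOf_le _).trans (le_normalizer_piCoreOf _))
    (piCoreOf_compl_coprime p _)

omit [IsSimpleGroup G] [Finite G] hp in
theorem R_ne_bot (α : Ω) : pCoreOf p (stabilizer G α) ≠ ⊥ := fun e => by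
  obtain ⟨z, hz, h⟩ := C.S.exists_inv α
  exact C.hR α z hz h (e.le.trans bot_le)

theorem U_le_stab {α β : Ω} (hne : α ≠ β) {P : Subgroup G}
    (h1 : IsSylowIn p P (stabilizer G α)) (h2 : IsSylowIn p P (stabilizer G β)) :
    piCoreOf {p}ᶜ (stabilizer G β) ≤ stabilizer G α := by
  obtain ⟨s, hs, hsi, hs1, hs2⟩ := C.S.exists_swap_normalizer hne
    (h1.mono (le_inf h1.le h2.le) inf_le_left)
  set N := normalizer (dSub P : Set G) with hN
  have hPN : normalizer (P : Set G) ≤ N := normalizer_le_normalizer_dSub P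
  have hP0 : P ≠ ⊥ := fun e => C.R_ne_bot α (eq_bot_iff.2 ((pCoreOf_le_sylow h1).trans e.le))
  have hNt : N ≠ ⊤ := C.dSub_ne_top h1.isPGroup hP0 h1.le
  have hc : ∀ γ δ : Ω, γ ≠ δ → s • γ = δ → IsSylowIn p P (stabilizer G γ) → ∀ m ∈ N,
      pCoreOf p (stabilizer G γ) ≤ stabilizer G (m • γ) := fun γ δ h3 h4 h5 =>
    (C.ih N γ hNt (C.four h5) fun h6 => h3 ((h6 (hPN hs)).symm.trans h4)).c2 _
      (le_inf ((pCoreOf_le_sylow h5).trans (le_normalizer.trans hPN)) (pCoreOf_le _))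
      (C.odd_R γ) (inf_le_right.trans (le_normalizer_pCoreOf _))
  let K : Subgroup G :=
    { carrier := {x | ∀ m ∈ N, x • m • α = m • α}
      one_mem' := fun _ _ => one_smul _ _
      mul_mem' := fun {x y} hx hy m hm => by rw [mul_smul, hy m hm, hx m hm]
      inv_mem' := fun {x} hx m hm => inv_smul_eq_iff.2 (hx m hm).symm }
  have hKn : N ≤ normalizer (K : Set G) := fun n hn => mem_normalizer_of_conj_mem fun x hx m hm => by
    have := hx (n⁻¹ * m) (mul_mem (inv_mem hn) hm)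
    rw [mul_smul] at this
    rw [mul_smul, mul_smul, this, smul_inv_smul]
  have hKα : K ≤ stabilizer G α := fun x hx => by simpa using hx 1 (one_mem _)
  have hKβ : K ≤ stabilizer G β := fun x hx => by simpa [hs1] using hx s (hPN hs)
  set T := pCoreOf p K with hT
  have hTα : pCoreOf p (stabilizer G α) ≤ T := le_pCoreOf
    (fun x hx m hm => hc α β hne hs1 h1 m hm hx) (hKα.trans (le_normalizer_pCoreOf _))
    (pCoreOf_isPGroup _)
  have hTβ : pCoreOf p (stabilizer G β) ≤ T := le_pCoreOf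
    (fun x hx m hm => by
      have := hc β α hne.symm hs2 h2 (m * s) (mul_mem hm (hPN hs)) hx
      rwa [mul_smul, hs2] at this) (hKβ.trans (le_normalizer_pCoreOf _)) (pCoreOf_isPGroup _)
  have hTn : N ≤ normalizer (T : Set G) := hKn.trans (normalizer_le_normalizer_pCoreOf _)
  have hZn : N ≤ normalizer ((T ⊓ centralizer (T : Set G) : Subgroup G) : Set G) :=
    le_normalizer_inf hTn (le_normalizer_centralizer hTn)
  have hTp : IsPGroup p T := pCoreOf_isPGroup _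
  have hTβ' : T ≤ stabilizer G β := (pCoreOf_le _).trans hKβ
  set Z := T ⊓ centralizer (T : Set G) with hZ
  set U := piCoreOf {p}ᶜ (stabilizer G β) with hU
  obtain ⟨hU1, hU2⟩ := C.U_prop β
  have hU3 : (Nat.card U).Coprime p := piCoreOf_compl_coprime p _
  have hUn : stabilizer G β ≤ normalizer (U : Set G) := le_normalizer_piCoreOf _
  by_cases hcase : ∃ u ∈ N, IsInv u ∧ Z ≤ centralizer {u}
  · obtain ⟨u, hu, hui, hu'⟩ := hcase
    have hall : ∀ v ∈ N, IsInv v → Z ≤ centralizer {v} := fun v hv hvi => by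
      obtain ⟨a, ha, -, -, hai, -⟩ := C.four h1
      have hsα : s • α ≠ α := hs1 ▸ hne.symm
      obtain ⟨d, hd, rfl⟩ := C.S.exists_conj_in (hPN hs) hsα hai ha.1 ha.2 hui hu
      obtain ⟨e, he, rfl⟩ := C.S.exists_conj_in (hPN hs) hsα hai ha.1 ha.2 hvi hv
      have := le_cent_conj (hZn (mul_mem he (inv_mem hd))) hu'
      rwa [show e * d⁻¹ * (d * a * d⁻¹) * (e * d⁻¹)⁻¹ = e * a * e⁻¹ by group] at this
    obtain ⟨⟨y, hy⟩, hy1⟩ := ne_bot_iff_exists_ne_one.1 (inf_centralizer_ne_bot_of_isNilpotent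
      hTp.isNilpotent hTβ (hTβ'.trans (le_normalizer_pCoreOf _)) (C.R_ne_bot β))
    have hyZ : y ∈ Z := ⟨hTβ hy.1, hy.2⟩
    have h3 : ∀ v ∈ N, IsInv v → v ∈ centralizer {y} := fun v hv hvi =>
      mem_centralizer_singleton_iff.2 (mem_centralizer_singleton_iff.1 (hall v hv hvi hyZ)).symm
    have h4 : centralizer {y} ≠ (⊤ : Subgroup G) := fun e =>
      normalizer_ne_top (X := zpowers y) (fun e' => hy1 (Subtype.ext (zpowers_eq_bot.1 e')))
        (fun e' => C.S.stab_ne_top β (top_le_iff.1 (e'.ge.trans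
          (zpowers_le_of_mem (pCoreOf_le _ hy.1)))))
        (top_le_iff.1 (e.ge.trans (by
          rw [← centralizer_zpowers]; exact centralizer_le_normalizer _)))
    obtain ⟨a, ha, b, hb, hai, hbi, h5⟩ := C.four h2
    have := (C.ih (centralizer {y}) β h4 ⟨a, ⟨h3 a ha.1 hai, ha.2⟩, b, ⟨h3 b hb.1 hbi, hb.2⟩,
      hai, hbi, h5⟩ fun h6 => hne (hs2.symm.trans (h6 (h3 s (hPN hs) hsi)))).c2 U
      (le_inf (hU2.trans (centralizer_le (Set.singleton_subset_iff.2 hy.1))) (piCoreOf_le _)) hU1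
      (inf_le_right.trans hUn) s (h3 s (hPN hs) hsi)
    rwa [hs2] at this
  · push Not at hcase
    obtain ⟨z, hzN, hz, B, hB, hB1, hB2⟩ := exists_inverted_noncyclic C.hp2 (C.four h1)
      (inf_le_left.trans hZn) (hTp.to_le inf_le_left)
      (inf_le_right.trans (centralizer_le (SetLike.coe_subset_coe.2 inf_le_left)))
      fun u hu => hcase u hu.1
    have hBp : IsPGroup p B := hTp.to_le (hB.trans inf_le_left)
    obtain ⟨y, hy⟩ := C.exists_good hz hzN.2
    refine le_of_centralizer_le_of_not_isCyclic (A := B)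
      (H5.isMulCommutative_iff'.2 fun x hx y hy => ((hB hx).2 y (hB hy).1).symm) hB1
      (hB.trans (inf_le_left.trans (hTβ'.trans hUn))) (coprime_card_of_isPGroup hU3 hBp).symm
      fun b hb hb1 => ?_
    rcases C.S.odd_or_cent_le (odd_orderOf_of_mem (odd_card_of_isPGroup C.hp2 hBp) hb) hb1 hz
      hzN.2 (hB2 b hb) with h3 | h3
    swap
    · exact inf_le_right.trans h3
    have hTb : T ≤ centralizer {b} := le_cent_of_mem (hB hb).2
    refine (le_piCoreOf_of_cent (FT.feit_thompson h3) (pCoreOf_isPGroup (stabilizer G β))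
      (hTβ.trans hTb) inf_le_right (hU3.coprime_dvd_left (card_dvd_of_le inf_le_left))
      (inf_le_left.trans hU2) (le_normalizer_inf (inf_le_right.trans ((C.cent_R_le β).trans hUn))
        (inf_le_left.trans le_normalizer))).trans ?_
    exact C.sig hz hzN.2 hy (h3.of_dvd_nat (card_dvd_of_le (piCoreOf_le _)))
      (piCoreOf_compl_coprime p _) (le_normalizer_piCoreOf _ (hTb (hTα hy.mem)))
      (normalizer_le_normalizer_piCoreOf _ (mem_normalizer_cent_of_inverts (hB2 b hb)))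

theorem U_le_U {α β : Ω} (hne : α ≠ β) {P : Subgroup G}
    (h1 : IsSylowIn p P (stabilizer G α)) (h2 : IsSylowIn p P (stabilizer G β)) :
    piCoreOf {p}ᶜ (stabilizer G β) ≤ piCoreOf {p}ᶜ (stabilizer G α) :=
  le_piCoreOf_of_cent (C.hs α) (pCoreOf_isPGroup (stabilizer G β))
    ((pCoreOf_le_sylow h2).trans h1.le) (C.U_le_stab hne h1 h2) (piCoreOf_compl_coprime p _)
    (C.U_prop β).2 (inf_le_right.trans ((C.cent_R_le β).trans (le_normalizer_piCoreOf _)))

/-- the final configuration: a common Sylow subgroup of two point stabilizers of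
characteristic `p` -/
theorem exists_char : ∃ (α β : Ω) (P : Subgroup G), α ≠ β ∧
    IsSylowIn p P (stabilizer G α) ∧ IsSylowIn p P (stabilizer G β) ∧
    ∀ γ : Ω, CharIn p (stabilizer G γ) := by
  obtain ⟨α, β, P, hne, h1, h2⟩ := C.exists_common_sylow
  refine ⟨α, β, P, hne, h1, h2, fun γ => ?_⟩
  have h3 := le_antisymm (C.U_le_U hne h1 h2) (C.U_le_U hne.symm h2 h1)
  have h4 : piCoreOf {p}ᶜ (stabilizer G α) = ⊥ := by
    by_contra h4
    exact hne (C.S.eq_of_le C.hr C.ih (normalizer_ne_top h4 fun e => C.S.stab_ne_top α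
      (top_le_iff.1 (e.ge.trans (piCoreOf_le _)))) (le_normalizer_piCoreOf _)
      (h3 ▸ le_normalizer_piCoreOf _))
  obtain ⟨g, rfl⟩ := C.S.trans α γ
  rw [stab_smul]
  refine CharIn.map_conj (charIn_iff.2 (centralizer_pCore_le
    (isPSolvable_of_isSolvable (C.hs α)) ?_)) g
  rw [← map_pPrimeCore_eq_piCoreOf] at h4
  exact (map_eq_bot_iff_of_injective _ (subtype_injective _)).1 h4

theorem false_of_stable (h : ∀ γ : Ω, StableIn p (stabilizer G γ)) : False := by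
  obtain ⟨α, β, P, hne, h1, h2, h3⟩ := C.exists_char
  exact hne (C.S.eq_of_le C.hr C.ih (C.dSub_ne_top h1.isPGroup (fun e => C.R_ne_bot α
    (eq_bot_iff.2 ((pCoreOf_le_sylow h1).trans e.le))) h1.le)
    ((h α).le_normalizer_dSub (h3 α) h1) ((h β).le_normalizer_dSub (h3 β) h2))

theorem false_of_h3 (h : H3 G) : False := by
  refine C.false_of_stable fun γ => ?_
  rcases h with h | h
  · exact stableIn_of_abTwo C.hp2 (h.of_injective _ (subtype_injective _))
  refine stableIn_of_isPSolvable (isPSolvable_of_isSolvable (C.hs γ)) ⟨C.hp2, fun h3 => ?_⟩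
  exfalso
  obtain ⟨z, hz, h1⟩ := C.S.exists_inv γ
  obtain ⟨y, hy⟩ := C.exists_good hz h1
  have h4 : IsPGroup p (zpowers y) := (pCoreOf_isPGroup _).to_le (zpowers_le_of_mem hy.mem)
  obtain ⟨x, hx⟩ := exists_prime_orderOf_dvd_card' (G := zpowers y) p
    (h4.card_eq_or_dvd.resolve_left fun e => hy.ne (zpowers_eq_bot.1 (card_eq_one.1 e)))
  exact h x z (by rw [orderOf_coe, hx, h3]) (Invol.inverts_of_mem_zpowers hy.inv x.2)

end Ctx

end CfsgLib.SE
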