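import Mathlib
import Cfsg.Agent.Lib.CoreInvol
import Cfsg.Agent.Lib.CoprimeGen
import Cfsg.Agent.Lib.CoprimeSylow
import Cfsg.Agent.Lib.Suz.Basic
import Cfsg.Agent.Lib.H1Amb

/-!
Project SE (Bender step).  Transitive actions in which every involution fixes exactly one point.
-/

set_option autoImplicit false

namespace CfsgLib.SE

open Subgroup MulAction Cfsg CfsgLib.Cop

variable {G Ω : Type*} [Group G] [MulAction G Ω]

/-- `u` is an involution. -/
def IsInv {G : Type*} [Group G] (u : G) : Prop := u * u = 1 ∧ u ≠ 1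

theorem IsInv.inv_eq {u : G} (h : IsInv u) : u⁻¹ = u := Invol.inv_eq h.1

theorem IsInv.conj {u : G} (h : IsInv u) (g : G) : IsInv (g * u * g⁻¹) :=
  ⟨Invol.conj_mul_self h.1 g, fun e => h.2 (by simpa using e)⟩

theorem IsInv.orderOf {u : G} (h : IsInv u) : orderOf u = 2 :=
  orderOf_eq_prime (by rw [pow_two, h.1]) h.2

theorem IsInv.smul_smul {u : G} (h : IsInv u) (α : Ω) : u • u • α = α := by
  rw [← mul_smul, h.1, one_smul]

theorem IsInv.mul_mul {u : G} (h : IsInv u) (x : G) : u * (u * x) = x := by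
  rw [← mul_assoc, h.1, one_mul]

theorem IsInv.card_zpowers {u : G} (h : IsInv u) : Nat.card (zpowers u) = 2 := by
  rw [Nat.card_zpowers, h.orderOf]

theorem IsInv.coprime {u : G} (h : IsInv u) {n : ℕ} (hn : Odd n) :
    (Nat.card (zpowers u)).Coprime n := by
  rw [h.card_zpowers]; exact Nat.coprime_two_left.2 hn

theorem IsInv.not_odd [Finite G] {u : G} (h : IsInv u) {X : Subgroup G} (hu : u ∈ X) :
    ¬ Odd (Nat.card X) := fun hX => h.2 (Suz.eq_one_of_odd_card hX hu h.1)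

theorem odd_of_forall [Finite G] {X : Subgroup G} (h : ∀ u ∈ X, ¬ IsInv u) : Odd (Nat.card X) := by
  by_contra h1
  obtain ⟨u, hu, h2, h3⟩ := Suz.exists_invol_of_even (Nat.not_odd_iff_even.1 h1)
  exact h u hu ⟨h3, h2⟩

theorem odd_orderOf_of_mem [Finite G] {X : Subgroup G} (hX : Odd (Nat.card X)) {x : G}
    (hx : x ∈ X) : Odd (orderOf x) := hX.of_dvd_nat (X.orderOf_dvd_natCard hx)

theorem odd_card_of_isPGroup [Finite G] {p : ℕ} [hp : Fact p.Prime] (h2 : p ≠ 2) {X : Subgroup G}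
    (hX : IsPGroup p X) : Odd (Nat.card X) := by
  obtain ⟨k, hk⟩ := hX.exists_card_eq
  rw [hk]; exact (hp.out.odd_of_ne_two h2).pow

/-- 2-rank at least two. -/
def Rk2 (M : Subgroup G) : Prop :=
  ∃ a ∈ M, ∃ b ∈ M, IsInv a ∧ IsInv b ∧ a ≠ b ∧ a * b = b * a

theorem Rk2.mono {M N : Subgroup G} (h : Rk2 M) (hle : M ≤ N) : Rk2 N := by
  obtain ⟨a, ha, b, hb, h⟩ := h
  exact ⟨a, hle ha, b, hle hb, h⟩

theorem isInv_mul {a b : G} (ha : IsInv a) (hb : IsInv b) (hne : a ≠ b) (hc : a * b = b * a) :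
    IsInv (a * b) := by
  refine ⟨?_, fun e => hne ?_⟩
  · calc a * b * (a * b) = a * (b * a) * b := by simp only [mul_assoc]
      _ = 1 := by rw [← hc, ha.mul_mul, hb.1]
  · rw [← ha.inv_eq]; exact (inv_eq_of_mul_eq_one_right e)

/-- Generation of an odd order group by the centralizers of the involutions of a four-group. -/
theorem le_of_four [Finite G] {a b : G} (ha : IsInv a) (hb : IsInv b) (hne : a ≠ b)
    (hc : a * b = b * a) {X K : Subgroup G} (hX : Odd (Nat.card X))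
    (haX : a ∈ normalizer (X : Set G)) (hbX : b ∈ normalizer (X : Set G))
    (h1 : X ⊓ centralizer {a} ≤ K) (h2 : X ⊓ centralizer {b} ≤ K)
    (h3 : X ⊓ centralizer {a * b} ≤ K) : X ≤ K := by
  have hab := isInv_mul ha hb hne hc
  let V : Subgroup G :=
    { carrier := {1, a, b, a * b}
      one_mem' := by simp
      mul_mem' := by
        have e1 : b * (a * b) = a := by rw [← mul_assoc, ← hc, mul_assoc, hb.1, mul_one]
        have e2 : a * b * a = b := by rw [mul_assoc, ← hc, ha.mul_mul]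
        have e3 : a * b * b = a := by rw [mul_assoc, hb.1, mul_one]
        rintro x y (rfl | rfl | rfl | rfl) (rfl | rfl | rfl | rfl) <;>
          simp [ha.1, hb.1, hab.1, ha.mul_mul, e1, e2, e3, ← hc]
      inv_mem' := by
        rintro x (rfl | rfl | rfl | rfl) <;> simp [ha.inv_eq, hb.inv_eq, ← hc] }
  have hV : ∀ x ∈ V, x = 1 ∨ x = a ∨ x = b ∨ x = a * b := fun x hx => by simpa [V] using hx
  have hsq : ∀ x ∈ V, x * x = 1 := fun x hx => by
    rcases hV x hx with rfl | rfl | rfl | rfl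
    exacts [one_mul 1, ha.1, hb.1, hab.1]
  have hV2 : IsPGroup 2 V := fun x => ⟨1, Subtype.ext (by simpa [pow_two] using hsq x x.2)⟩
  have hcomm : IsMulCommutative V := ⟨⟨fun x y => Subtype.ext (by
    have := hsq _ (V.mul_mem x.2 y.2)
    have h := inv_eq_of_mul_eq_one_right this
    rw [mul_inv_rev, Invol.inv_eq (hsq _ x.2), Invol.inv_eq (hsq _ y.2)] at h
    exact h.symm)⟩⟩
  refine le_of_centralizer_le_of_not_isCyclic (A := V) hcomm ?_ ?_ ?_ ?_
  · rintro ⟨⟨g, hg⟩⟩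
    have hgV : ∀ x ∈ V, x = 1 ∨ x = g := fun x hx => by
      obtain ⟨n, hn⟩ := hg ⟨x, hx⟩
      have h1 : (g : G) ^ n = x := congrArg Subtype.val hn
      have h2 : (g : G) ^ (2 : ℤ) = 1 := by
        rw [zpow_two]; exact hsq _ g.2
      rcases Int.even_or_odd' n with ⟨k, rfl | rfl⟩
      · left; rw [← h1, zpow_mul, h2, one_zpow]
      · right; rw [← h1, zpow_add, zpow_mul, h2, one_zpow, one_mul, zpow_one]
    have h1 := (hgV a (by simp [V])).resolve_left ha.2
    have h2 := (hgV b (by simp [V])).resolve_left hb.2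
    exact hne (h1.trans h2.symm)
  · intro x hx
    rcases hV x hx with rfl | rfl | rfl | rfl
    exacts [one_mem _, haX, hbX, mul_mem haX hbX]
  · obtain ⟨k, hk⟩ := hV2.exists_card_eq
    rw [hk]; exact (Nat.coprime_two_left.2 hX).pow_left k
  · intro x hx hx1
    rcases hV x hx with rfl | rfl | rfl | rfl
    exacts [absurd rfl hx1, h1, h2, h3]

/-- An involution acting non-trivially on a group of odd order inverts a non-identity element. -/
theorem exists_inverted [Finite G] {u : G} (hu : IsInv u) {X : Subgroup G}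
    (huX : u ∈ normalizer (X : Set G)) (h : ¬ X ≤ centralizer {u}) :
    ∃ y ∈ X, y ≠ 1 ∧ u * y * u⁻¹ = y⁻¹ := by
  obtain ⟨x, hx, hxu⟩ := SetLike.not_le_iff_exists.1 h
  refine ⟨x⁻¹ * (u * x * u⁻¹), mul_mem (inv_mem hx) (conj_mem_of_mem_normalizer huX hx),
    fun e => hxu ?_, ?_⟩
  · rw [mem_centralizer_singleton_iff]
    have : u * x * u⁻¹ = x := (inv_mul_eq_one.1 e).symm
    exact (mul_inv_eq_iff_eq_mul.1 this).symm
  · rw [hu.inv_eq]
    simp only [mul_inv_rev, inv_inv, hu.inv_eq, mul_assoc, hu.1, mul_one]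

/-- Every involution fixes exactly one point of the transitive `G`-set `Ω`. -/
structure SEA (G Ω : Type*) [Group G] [MulAction G Ω] : Prop where
  trans : ∀ α β : Ω, ∃ g : G, g • α = β
  nontriv : ∃ α β : Ω, α ≠ β
  fix : ∀ u : G, IsInv u → ∃ ω : Ω, u • ω = ω
  uniq : ∀ u : G, IsInv u → ∀ α β : Ω, u • α = α → u • β = β → α = β
  even : ∃ u : G, IsInv u

theorem conj_smul_eq {g x : G} {α : Ω} (h : x • α = α) : (g * x * g⁻¹) • g • α = g • α := by
  rw [mul_smul, mul_smul, inv_smul_smul, h]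

theorem map_conj_le_stab {g : G} {X : Subgroup G} {α : Ω} (h : X ≤ stabilizer G α) :
    X.map (MulAut.conj g).toMonoidHom ≤ stabilizer G (g • α) := by
  rintro _ ⟨x, hx, rfl⟩
  exact conj_smul_eq (h hx)

theorem stab_smul (g : G) (α : Ω) :
    stabilizer G (g • α) = (stabilizer G α).map (MulAut.conj g).toMonoidHom :=
  stabilizer_smul_eq_stabilizer_map_conj g α

/-- the normalizer of `X` permutes the fixed points of `X` -/
theorem le_stab_smul {g : G} {X : Subgroup G} {α : Ω} (hg : g ∈ normalizer (X : Set G))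
    (h : X ≤ stabilizer G α) : X ≤ stabilizer G (g • α) := by
  have := map_conj_le_stab (g := g) h
  rwa [map_conj_eq_of_mem_normalizer hg] at this

theorem smul_smul_of_comm {g x : G} {α : Ω} (hc : g * x = x * g) (h : x • α = α) :
    x • g • α = g • α := by
  rw [← mul_smul, ← hc, mul_smul, h]

/-- the pointwise stabilizer of two points -/
abbrev st2 (G : Type*) [Group G] [MulAction G Ω] (α β : Ω) : Subgroup G :=
  stabilizer G α ⊓ stabilizer G β

theorem st2_smul (g : G) (α β : Ω) :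
    st2 G (g • α) (g • β) = (st2 G α β).map (MulAut.conj g).toMonoidHom := by
  rw [st2, st2, map_conj_inf, stab_smul, stab_smul]

theorem mem_normalizer_st2 [Finite G] {t : G} {α β : Ω} (h1 : t • α = β) (h2 : t • β = α) :
    t ∈ normalizer (st2 G α β : Set G) := by
  refine mem_normalizer_of_map_conj_eq ?_
  rw [← st2_smul, h1, h2, st2, inf_comm]

/-- an element swapping two points has even order -/
theorem not_odd_of_swap {g : G} {α β : Ω} (hne : α ≠ β) (h1 : g • α = β) (h2 : g • β = α) :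
    ¬ Odd (orderOf g) := by
  rintro ⟨m, hm⟩
  have h3 : ∀ n : ℕ, (g * g) ^ n • α = α := fun n => by
    induction n with
    | zero => simp
    | succ n ih => rw [pow_succ, mul_smul, mul_smul, h1, h2, ih]
  have h4 := pow_orderOf_eq_one g
  rw [hm, pow_succ', pow_mul, pow_two] at h4
  have h5 : (g * (g * g) ^ m) • α = β := by rw [mul_smul, h3, h1]
  rw [h4, one_smul] at h5
  exact hne h5

namespace SEA

variable (S : SEA G Ω)
include S

theorem exists_inv (α : Ω) : ∃ u : G, IsInv u ∧ u • α = α := by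
  obtain ⟨u, hu⟩ := S.even
  obtain ⟨ω, hω⟩ := S.fix u hu
  obtain ⟨g, rfl⟩ := S.trans ω α
  exact ⟨_, hu.conj g, conj_smul_eq hω⟩

theorem exists_ne (α : Ω) : ∃ β : Ω, β ≠ α := by
  obtain ⟨a, b, h⟩ := S.nontriv
  by_cases h1 : a = α
  · exact ⟨b, fun e => h (h1.trans e.symm)⟩
  · exact ⟨a, h1⟩

theorem smul_ne {u : G} (hu : IsInv u) {α β : Ω} (h : u • α = α) (hne : β ≠ α) : u • β ≠ β :=
  fun e => hne (S.uniq u hu _ _ e h)

theorem smul_ne' {u : G} {α β : Ω} (h : u • α = α) (hne : β ≠ α) : u • β ≠ α :=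
  fun e => hne (by have := S.trans; exact smul_left_cancel u (e.trans h.symm))

theorem fix_of_conj {u g : G} {α : Ω} (hu : IsInv u) (h : u • α = α)
    (h' : (g * u * g⁻¹) • α = α) : g • α = α :=
  S.uniq _ (hu.conj g) _ _ (conj_smul_eq h) h'

theorem fix_of_comm {u g : G} {α : Ω} (hu : IsInv u) (h : u • α = α) (hc : g * u = u * g) :
    g • α = α :=
  S.fix_of_conj hu h (by rwa [hc, mul_inv_cancel_right])

theorem cent_le {u : G} {α : Ω} (hu : IsInv u) (h : u • α = α) :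
    centralizer {u} ≤ stabilizer G α := fun _ hg =>
  S.fix_of_comm hu h (mem_centralizer_singleton_iff.1 hg)

variable [Finite G]

theorem odd_st2 {α β : Ω} (h : α ≠ β) : Odd (Nat.card (st2 G α β)) :=
  odd_of_forall fun u hu hi => h (S.uniq u hi _ _ hu.1 hu.2)

theorem odd_of_le {α β : Ω} (h : α ≠ β) {X : Subgroup G} (h1 : X ≤ stabilizer G α)
    (h2 : X ≤ stabilizer G β) : Odd (Nat.card X) :=
  (S.odd_st2 h).of_dvd_nat (card_dvd_of_le (le_inf h1 h2))

theorem odd_orderOf {α β : Ω} (h : α ≠ β) {x : G} (h1 : x • α = α) (h2 : x • β = β) :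
    Odd (orderOf x) :=
  odd_orderOf_of_mem (S.odd_st2 h) ⟨h1, h2⟩

theorem odd_mul {u v : G} {α β : Ω} (hu : IsInv u) (hv : IsInv v) (h1 : u • α = α)
    (h2 : v • β = β) (h : α ≠ β) : Odd (orderOf (u * v)) := by
  by_contra h3
  obtain ⟨z, hz1, hz2, hzu, hzv⟩ := Suz.exists_comm_of_even hu.1 hv.1 (Nat.not_odd_iff_even.1 h3)
  exact h (S.uniq z ⟨hz2, hz1⟩ _ _ (S.fix_of_comm hu h1 hzu) (S.fix_of_comm hv h2 hzv))

/-- two involutions with different fixed points are interchanged by an involution of the group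
they generate -/
theorem exists_swap_mem {u v : G} {α β : Ω} (hu : IsInv u) (hv : IsInv v) (h1 : u • α = α)
    (h2 : v • β = β) (h : α ≠ β) {L : Subgroup G} (huL : u ∈ L) (hvL : v ∈ L) :
    ∃ t ∈ L, IsInv t ∧ t * u * t⁻¹ = v ∧ t • α = β ∧ t • β = α := by
  obtain ⟨c, hc, h3⟩ := Invol.exists_conj_eq_mul (Invol.inverts_mul hu.1 hv.1)
    (S.odd_mul hu hv h1 h2 h)
  have h4 := Invol.inverts_of_mem_zpowers (Invol.inverts_mul hu.1 hv.1) hc
  rw [hu.mul_mul] at h3
  have h5 : c * u * (c * u) = 1 := by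
    rw [hu.inv_eq] at h4
    rw [mul_assoc, ← mul_assoc u, h4, mul_inv_cancel]
  have h6 : c * u * u * (c * u)⁻¹ = v := by rw [← h3]; group
  have h7 : (c * u) • α = β := S.uniq v hv _ _ (h6 ▸ conj_smul_eq h1) h2
  refine ⟨c * u, mul_mem (zpowers_le_of_mem (mul_mem huL hvL) hc) huL,
    ⟨h5, fun e => h (by rw [← h7, e, one_smul])⟩, h6, h7, ?_⟩
  rw [← h7, ← mul_smul, h5, one_smul]

theorem exists_swap {α β : Ω} (h : α ≠ β) : ∃ t : G, IsInv t ∧ t • α = β ∧ t • β = α := by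
  obtain ⟨u, hu, h1⟩ := S.exists_inv α
  obtain ⟨v, hv, h2⟩ := S.exists_inv β
  obtain ⟨t, -, ht, -, h3⟩ := S.exists_swap_mem hu hv h1 h2 h (mem_top u) (mem_top v)
  exact ⟨t, ht, h3⟩

/-- (L1) an involution inverting `y` and an involution centralizing `y` fix the same point -/
theorem eq_of_inverts_of_comm {y t u : G} {γ δ : Ω} (hy : Odd (orderOf y)) (hy1 : y ≠ 1)
    (ht : IsInv t) (hu : IsInv u) (h1 : t • γ = γ) (h2 : u • δ = δ) (hty : t * y * t⁻¹ = y⁻¹)
    (huy : u * y = y * u) : γ = δ := by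
  by_contra h
  obtain ⟨m, hm⟩ := S.odd_mul ht hu h1 h2 h
  have h3 : (t * u) * y * (t * u)⁻¹ = y⁻¹ := by
    rw [mul_inv_rev, mul_assoc t u y, huy]
    simpa [mul_assoc] using hty
  have h4 : ∀ n : ℕ, ((t * u) * (t * u)) ^ n * y * (((t * u) * (t * u)) ^ n)⁻¹ = y := fun n => by
    induction n with
    | zero => simp
    | succ n ih =>
      calc _ = ((t * u) * (t * u)) ^ n * ((t * u) * ((t * u) * y * (t * u)⁻¹) * (t * u)⁻¹) *
          (((t * u) * (t * u)) ^ n)⁻¹ := by rw [pow_succ]; group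
        _ = y := by rw [h3, ← conj_inv, h3, inv_inv, ih]
  have h5 := pow_orderOf_eq_one (t * u)
  rw [hm, pow_succ', pow_mul, pow_two] at h5
  have h6 : y = y⁻¹ := by
    calc y = (t * u * ((t * u) * (t * u)) ^ m) * y * (t * u * ((t * u) * (t * u)) ^ m)⁻¹ := by
          rw [h5]; simp
      _ = (t * u) * (((t * u) * (t * u)) ^ m * y * (((t * u) * (t * u)) ^ m)⁻¹) * (t * u)⁻¹ := by
          group
      _ = y⁻¹ := by rw [h4, h3]
  exact hy1 (Invol.eq_one_of_odd hy (by nth_rw 2 [h6]; exact mul_inv_cancel y))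

/-- (L1) the centralizer of an element inverted by the involution `t` has odd order or fixes the
fixed point of `t` -/
theorem cent_le_of_inverts {y t u : G} {γ : Ω} (hy : Odd (orderOf y)) (hy1 : y ≠ 1)
    (ht : IsInv t) (hu : IsInv u) (h1 : t • γ = γ) (hty : t * y * t⁻¹ = y⁻¹)
    (huy : u * y = y * u) : centralizer {y} ≤ stabilizer G γ := by
  intro c hc
  rw [mem_centralizer_singleton_iff] at hc
  obtain ⟨δ, h2⟩ := S.fix u hu
  obtain rfl := S.eq_of_inverts_of_comm hy hy1 ht hu h1 h2 hty huy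
  refine (S.eq_of_inverts_of_comm hy hy1 ht (hu.conj c) h1 (conj_smul_eq h2) hty ?_).symm
  calc c * u * c⁻¹ * y = c * u * c⁻¹ * (c * y * c⁻¹) := by rw [hc, mul_inv_cancel_right]
    _ = c * (u * y) * c⁻¹ := by group
    _ = (c * y * c⁻¹) * (c * u * c⁻¹) := by rw [huy]; group
    _ = _ := by rw [hc, mul_inv_cancel_right]

theorem odd_or_cent_le {y t : G} {γ : Ω} (hy : Odd (orderOf y)) (hy1 : y ≠ 1)
    (ht : IsInv t) (h1 : t • γ = γ) (hty : t * y * t⁻¹ = y⁻¹) :
    Odd (Nat.card (centralizer {y} : Subgroup G)) ∨ centralizer {y} ≤ stabilizer G γ := by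
  by_cases h : ∃ u ∈ centralizer ({y} : Set G), IsInv u
  · obtain ⟨u, hu, hi⟩ := h
    exact Or.inr (S.cent_le_of_inverts hy hy1 ht hi h1 hty (mem_centralizer_singleton_iff.1 hu))
  · push Not at h
    exact Or.inl (odd_of_forall h)

/-- elements of `G_{αβ}` inverted by an involution swapping `α, β` centralize no involution
fixing `α` -/
theorem K_fpf {k t u : G} {α β : Ω} (h : α ≠ β) (ht : IsInv t) (h1 : t • α = β)
    (hk1 : k • α = α) (hk2 : k • β = β) (htk : t * k * t⁻¹ = k⁻¹) (hu : IsInv u) (h2 : u • α = α)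
    (hc : u * k = k * u) : k = 1 := by
  by_contra hk
  obtain ⟨γ, hγ⟩ := S.fix t ht
  obtain rfl := S.eq_of_inverts_of_comm (S.odd_orderOf h hk1 hk2) hk ht hu hγ h2 htk hc
  exact h (hγ.symm.trans h1)

/-- the involutions swapping `α` and `β` are conjugate under `G_{αβ}` -/
theorem exists_conj_swap {t t' : G} {α β : Ω} (h : α ≠ β) (ht : IsInv t) (ht' : IsInv t')
    (h1 : t • α = β) (h2 : t' • α = β) {L : Subgroup G} (hL : t * t' ∈ L) :
    ∃ d ∈ L, d ∈ st2 G α β ∧ d * t * d⁻¹ = t' := by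
  have h3 : t * t' ∈ st2 G α β := by
    refine ⟨?_, ?_⟩
    · change (t * t') • α = α
      rw [mul_smul, h2, ← h1, ht.smul_smul]
    · change (t * t') • β = β
      rw [mul_smul, ← h2, ht'.smul_smul, h1, h2]
  obtain ⟨c, hc, h4⟩ := Invol.exists_conj_eq_mul (Invol.inverts_mul ht.1 ht'.1)
    (odd_orderOf_of_mem (S.odd_st2 h) h3)
  rw [ht.mul_mul] at h4
  exact ⟨c, zpowers_le_of_mem hL hc, zpowers_le_of_mem h3 hc, h4⟩

/-- `G_{αβ}` is transitive on the involutions fixing `α` -/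
theorem exists_conj_mem {u u' : G} {α β : Ω} (h : α ≠ β) (hu : IsInv u) (hu' : IsInv u')
    (h1 : u • α = α) (h2 : u' • α = α) {L : Subgroup G} (huL : u ∈ L) (huL' : u' ∈ L)
    {v : G} (hv : IsInv v) (h3 : v • β = β) (hvL : v ∈ L) :
    ∃ d ∈ L, d ∈ st2 G α β ∧ d * u * d⁻¹ = u' := by
  obtain ⟨t, htL, ht, e1, a1, b1⟩ := S.exists_swap_mem hu hv h1 h3 h huL hvL
  obtain ⟨s, hsL, hs, e2, a2, b2⟩ := S.exists_swap_mem hu' hv h2 h3 h huL' hvL
  refine ⟨s * t, mul_mem hsL htL, ⟨?_, ?_⟩, ?_⟩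
  · change (s * t) • α = α
    rw [mul_smul, a1, b2]
  · change (s * t) • β = β
    rw [mul_smul, b1, a2]
  · calc s * t * u * (s * t)⁻¹ = s * (t * u * t⁻¹) * s⁻¹ := by group
      _ = s * (s * u' * s⁻¹) * s⁻¹ := by rw [e1, e2]
      _ = u' := by
        rw [hs.inv_eq]; simp only [mul_assoc, hs.1, mul_one]; exact hs.mul_mul _

theorem exists_conj {u u' : G} {α β : Ω} (h : α ≠ β) (hu : IsInv u) (hu' : IsInv u')
    (h1 : u • α = α) (h2 : u' • α = α) : ∃ d ∈ st2 G α β, d * u * d⁻¹ = u' := by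
  obtain ⟨v, hv, h3⟩ := S.exists_inv β
  obtain ⟨d, -, hd⟩ := S.exists_conj_mem h hu hu' h1 h2 (mem_top _) (mem_top _) hv h3 (mem_top _)
  exact ⟨d, hd⟩

theorem exists_conj_stab {u u' : G} {α : Ω} (hu : IsInv u) (hu' : IsInv u')
    (h1 : u • α = α) (h2 : u' • α = α) : ∃ d ∈ stabilizer G α, d * u * d⁻¹ = u' := by
  obtain ⟨β, hβ⟩ := S.exists_ne α
  obtain ⟨d, hd, h⟩ := S.exists_conj hβ.symm hu hu' h1 h2
  exact ⟨d, hd.1, h⟩

theorem exists_conj_top {u u' : G} (hu : IsInv u) (hu' : IsInv u') :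
    ∃ d : G, d * u * d⁻¹ = u' := by
  obtain ⟨α, h1⟩ := S.fix u hu
  obtain ⟨β, h2⟩ := S.fix u' hu'
  by_cases h : α = β
  · subst h
    obtain ⟨d, -, hd⟩ := S.exists_conj_stab hu hu' h1 h2
    exact ⟨d, hd⟩
  · obtain ⟨t, -, -, ht, -⟩ := S.exists_swap_mem hu hu' h1 h2 h (mem_top _) (mem_top _)
    exact ⟨t, ht⟩

/-- a subgroup of odd order normalized by a four-group fixes the fixed point of the four-group -/
theorem le_stab_of_four {a b : G} {α : Ω} (ha : IsInv a) (hb : IsInv b) (hne : a ≠ b)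
    (hc : a * b = b * a) (h1 : a • α = α) {X : Subgroup G} (hX : Odd (Nat.card X))
    (haX : a ∈ normalizer (X : Set G)) (hbX : b ∈ normalizer (X : Set G)) :
    X ≤ stabilizer G α := by
  have h2 : b • α = α := S.fix_of_comm ha h1 hc.symm
  exact le_of_four ha hb hne hc hX haX hbX (inf_le_right.trans (S.cent_le ha h1))
    (inf_le_right.trans (S.cent_le hb h2))
    (inf_le_right.trans (S.cent_le (isInv_mul ha hb hne hc) (by rw [mul_smul, h2, h1])))

theorem rk2_stab (h : Rk2 (⊤ : Subgroup G)) (α : Ω) : Rk2 (stabilizer G α) := by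
  obtain ⟨a, -, b, -, ha, hb, hne, hc⟩ := h
  obtain ⟨ω, h1⟩ := S.fix a ha
  have h2 : b • ω = ω := S.fix_of_comm ha h1 hc.symm
  obtain ⟨g, rfl⟩ := S.trans ω α
  refine ⟨_, conj_smul_eq h1, _, conj_smul_eq h2, ha.conj g, hb.conj g,
    fun e => hne (by simpa using e), ?_⟩
  rw [conj_mul, conj_mul, hc]

/-- given an involution `a` fixing `α`, there is a second commuting involution -/
theorem exists_comm (h : Rk2 (⊤ : Subgroup G)) {a : G} (ha : IsInv a) :
    ∃ b, IsInv b ∧ a ≠ b ∧ a * b = b * a := by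
  obtain ⟨a', -, b, -, ha', hb, hne, hc⟩ := h
  obtain ⟨g, rfl⟩ := S.exists_conj_top ha' ha
  exact ⟨_, hb.conj g, fun e => hne (by simpa using e), by rw [conj_mul, conj_mul, hc]⟩

end SEA

end CfsgLib.SE
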