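import Cfsg.Agent.Lib.SE.Main
import Cfsg.Agent.Lib.Sig.ZNMain
import Cfsg.Agent.Lib.BSW.MaxCl
import Cfsg.Agent.Lib.ExtraspecialTwo
import Cfsg.Agent.S3756

/-! Minimal simple groups in which no four-group has an automizer of order divisible by three. -/

set_option autoImplicit false

namespace CfsgLib.SE

open Subgroup MulAction Cfsg CfsgLib.Cop CfsgLib.H1 CfsgLib.Sig
open scoped commutatorElement

universe u

variable {G : Type*} [Group G]

/-- elementary abelian of order at least eight -/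
def E8 (B : Subgroup G) : Prop := IsElementaryAbelian 2 B ∧ 8 ≤ Nat.card B

theorem E8.conj {B : Subgroup G} (h : E8 B) (g : G) : E8 (B.map (MulAut.conj g).toMonoidHom) :=
  ⟨isElementaryAbelian_map h.1 _, h.2.trans (card_map_conj g B).ge⟩

/-- no element permutes the involutions of a four-group cyclically -/
def F3 (G : Type*) [Group G] : Prop :=
  ∀ a b x : G, IsInv a → IsInv b → a * b = b * a → x * a * x⁻¹ = b → x * b * x⁻¹ ≠ a * b

theorem F3.noS3 (h : F3 G) {a b g k : G} (ha : IsInv a) (hb : IsInv b) (hc : a * b = b * a)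
    (g1 : g * a * g⁻¹ = a) (g2 : g * b * g⁻¹ = a * b) (k1 : k * b * k⁻¹ = b)
    (k2 : k * a * k⁻¹ = b * a) : False := by
  refine h a b (g * k) ha hb hc ?_ ?_
  · calc g * k * a * (g * k)⁻¹ = g * (k * a * k⁻¹) * g⁻¹ := by group
      _ = b := by rw [k2, ← conj_mul, g1, g2, mul_assoc, ← hc, ha.mul_mul]
  · calc g * k * b * (g * k)⁻¹ = g * (k * b * k⁻¹) * g⁻¹ := by group
      _ = a * b := by rw [k1, g2]

theorem conj_eq_of_mem_cent {a g : G} (h : g ∈ centralizer {a}) : g * a * g⁻¹ = a := by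
  rw [mem_centralizer_singleton_iff.1 h, mul_inv_cancel_right]

theorem mem_cent_of_conj_eq {a g : G} (h : g * a * g⁻¹ = a) : g ∈ centralizer {a} :=
  mem_centralizer_singleton_iff.2 (mul_inv_eq_iff_eq_mul.1 h)

theorem map_le_cent {B : Subgroup G} {t : G} (h : B ≤ centralizer {t}) (g : G) :
    B.map (MulAut.conj g).toMonoidHom ≤ centralizer {g * t * g⁻¹} := by
  rw [centralizer_singleton_conj]; exact map_mono h

theorem ea_le_cent {B : Subgroup G} (h : IsElementaryAbelian 2 B) {t : G} (ht : t ∈ B) :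
    B ≤ centralizer {t} := fun _ hx => mem_centralizer_singleton_iff.2 (ea_comm h hx ht)

theorem zpowers_le_cent {B : Subgroup G} {t : G} (h : B ≤ centralizer {t}) :
    zpowers t ≤ centralizer (B : Set G) := zpowers_le_of_mem (mem_cent_of_le h)

/-- `⟨z, u⟩` is a normal four-subgroup of `S` -/
structure N4 (S : Subgroup G) (z u : G) : Prop where
  zm : z ∈ S
  um : u ∈ S
  zi : IsInv z
  ui : IsInv u
  ne : z ≠ u
  cent : S ≤ centralizer {z}
  conj : ∀ s ∈ S, s * u * s⁻¹ = u ∨ s * u * s⁻¹ = z * u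

namespace N4

variable {S : Subgroup G} {z u : G} (h : N4 S z u)
include h

theorem comm : z * u = u * z := (mem_centralizer_singleton_iff.1 (h.cent h.um)).symm

theorem mul : N4 S z (z * u) where
  zm := h.zm
  um := mul_mem h.zm h.um
  zi := h.zi
  ui := isInv_mul h.zi h.ui h.ne h.comm
  ne := fun e => h.ui.2 (by simpa using e)
  cent := h.cent
  conj := fun s hs => by
    rw [← conj_mul, conj_eq_of_mem_cent (h.cent hs)]
    exact (h.conj s hs).imp (fun e => by rw [e]) fun e => by rw [e]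

theorem conj' {s : G} (hs : s ∈ S) (h1 : s ∉ centralizer {u}) : s * u * s⁻¹ = z * u :=
  (h.conj s hs).resolve_left fun e => h1 (mem_cent_of_conj_eq e)

theorem mul_mem_cent {s t : G} (hs : s ∈ S) (ht : t ∈ S) (h1 : s ∉ centralizer {u})
    (h2 : t ∉ centralizer {u}) : s * t ∈ centralizer {u} := by
  refine mem_cent_of_conj_eq ?_
  calc s * t * u * (s * t)⁻¹ = s * (t * u * t⁻¹) * s⁻¹ := by group
    _ = u := by
      rw [h.conj' ht h2, ← conj_mul, h.conj' hs h1, conj_eq_of_mem_cent (h.cent hs), h.zi.mul_mul]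

theorem relIndex_dvd {A : Subgroup G} (hA : A ≤ S) : (centralizer {u}).relIndex A ∣ 2 := by
  by_cases h1 : A ≤ centralizer {u}
  · rw [relIndex_eq_one.2 h1]
    exact one_dvd _
  obtain ⟨a, ha, h2⟩ := SetLike.not_le_iff_exists.1 h1
  exact relIndex_dvd_two_iff.2 ⟨a, ha, fun b hb => or_iff_not_imp_right.2 fun h3 =>
    h.mul_mem_cent (hA hb) (hA ha) h3 h2⟩

theorem ea : IsElementaryAbelian 2 (zpowers z ⊔ zpowers u) :=
  isElementaryAbelian_four h.zi.1 h.ui.1 h.comm

theorem le_normalizer [Finite G] :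
    S ≤ normalizer ((zpowers z ⊔ zpowers u : Subgroup G) : Set G) := fun s hs => by
  refine mem_normalizer_of_map_conj_eq (eq_of_le_of_card_ge ?_ (card_map_conj _ _).ge)
  rw [Subgroup.map_sup, MonoidHom.map_zpowers, MonoidHom.map_zpowers]
  refine sup_le (zpowers_le_of_mem ?_) (zpowers_le_of_mem ?_)
  · change s * z * s⁻¹ ∈ _
    rw [conj_eq_of_mem_cent (h.cent hs)]; exact mem_sup_left (mem_zpowers z)
  · change s * u * s⁻¹ ∈ _
    rcases h.conj s hs with e | e <;> rw [e]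
    · exact mem_sup_right (mem_zpowers u)
    · exact mul_mem_sup (mem_zpowers z) (mem_zpowers u)

/-- the central involutions of `C_S(u)` -/
theorem center_cases (hu : ∀ e ∈ S, S ≤ centralizer {e} → e * e = 1 → e = 1 ∨ e = z) {e : G}
    (he : e ∈ S ⊓ centralizer {u}) (h1 : S ⊓ centralizer {u} ≤ centralizer {e}) (h2 : IsInv e) :
    e = u ∨ e = z ∨ e = u * z := by
  obtain ⟨s, hs, hs'⟩ : ∃ s ∈ S, s ∉ centralizer {u} := SetLike.not_le_iff_exists.1 fun h3 =>
    (hu u h.um h3 h.ui.1).elim h.ui.2 h.ne.symm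
  have key : ∀ f ∈ S, S ⊓ centralizer {u} ≤ centralizer {f} → s * f * s⁻¹ = f → f * f = 1 →
      f = 1 ∨ f = z := fun f hf h3 h4 h5 => hu f hf (fun t ht => by
    by_cases h6 : t ∈ centralizer {u}
    · exact h3 ⟨ht, h6⟩
    · simpa using mul_mem (h3 ⟨mul_mem ht hs, h.mul_mem_cent ht hs h6 hs'⟩)
        (inv_mem (mem_cent_of_conj_eq h4))) h5
  have hn : s ∈ normalizer ((S ⊓ centralizer {u} : Subgroup G) : Set G) := by
    rw [mem_normalizer_iff]
    intro t
    refine ⟨fun ht => ⟨S.mul_mem (S.mul_mem hs ht.1) (S.inv_mem hs), ?_⟩, fun ht => ?_⟩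
    · by_contra h3
      have := h.mul_mem_cent (S.mul_mem (S.mul_mem hs ht.1) (S.inv_mem hs)) hs h3 hs'
      rw [inv_mul_cancel_right] at this
      exact hs' ((Subgroup.mul_mem_cancel_right _ ht.2).1 this)
    · have h4 : t ∈ S := by simpa [mul_assoc] using S.mul_mem (S.mul_mem (S.inv_mem hs) ht.1) hs
      refine ⟨h4, ?_⟩
      by_contra h3
      have := mul_mem (inv_mem (mem_inf.1 ht).2) (h.mul_mem_cent hs h4 hs' h3)
      exact hs' (by simpa [mul_assoc] using this)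
  have he' := conj_mem_of_mem_normalizer hn he
  have h3 := le_cent_conj hn h1
  have hc : e * (s * e * s⁻¹) = s * e * s⁻¹ * e := mem_centralizer_singleton_iff.1 (h3 he)
  have hss : s * (s * e * s⁻¹) * s⁻¹ = e := by
    have := conj_eq_of_mem_cent (h1 ⟨mul_mem hs hs, h.mul_mem_cent hs hs hs' hs'⟩)
    conv_rhs => rw [← this]
    group
  have hcm : ∀ {f g : G}, S ⊓ centralizer {u} ≤ centralizer {f} →
      S ⊓ centralizer {u} ≤ centralizer {g} → S ⊓ centralizer {u} ≤ centralizer {f * g} :=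
    fun a b => le_cent_of_mem (mul_mem (mem_cent_of_le a) (mem_cent_of_le b))
  rcases key _ (mul_mem he.1 he'.1) (hcm h1 h3) (by rw [← conj_mul, hss, hc])
    (by rw [mul_assoc, ← mul_assoc _ e, ← hc, mul_assoc, h2.mul_mul, (h2.conj s).1]) with h4 | h4
  · have h5 : s * e * s⁻¹ = e := by rw [← h2.mul_mul (s * e * s⁻¹), h4, mul_one]
    exact Or.inr (Or.inl ((key e he.1 h1 h5 h2.1).resolve_left h2.2))
  · have h5 : s * e * s⁻¹ = e * z := by rw [← h2.mul_mul (s * e * s⁻¹), h4]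
    have h6 : e * u = u * e := mem_centralizer_singleton_iff.1 he.2
    rcases key _ (mul_mem h.um he.1) (hcm inf_le_right h1)
      (by rw [← conj_mul, h5, h.conj' hs hs', h.comm, mul_assoc, ← mul_assoc z,
        ← mem_centralizer_singleton_iff.1 (h.cent he.1), mul_assoc, h.zi.1, mul_one])
      (by rw [mul_assoc, ← mul_assoc e, h6, mul_assoc, h.ui.mul_mul, h2.1]) with h7 | h7
    · exact Or.inl (by rw [← h.ui.mul_mul e, h7, mul_one])
    · exact Or.inr (Or.inr (by rw [← h.ui.mul_mul e, h7]))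

end N4

variable [Finite G]

theorem four_le_card {a b : G} (ha : IsInv a) (hb : IsInv b) (hne : a ≠ b) :
    4 ≤ Nat.card ↥(zpowers a ⊔ zpowers b) := by
  have := four_le_card_sup ha.card_zpowers.ge (b := b) fun h => by
    rcases mem_four ha.1 (one_mul 1) (by simp) (mem_sup_left h) with e | e | e | e
    exacts [hb.2 e, hne e.symm, hb.2 e, hne (by simpa using e.symm)]
  rwa [ha.card_zpowers] at this

theorem exists_E8_sup {A : Subgroup G} (hA : IsElementaryAbelian 2 A) (h4 : 4 ≤ Nat.card A)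
    {e : G} (he : e * e = 1) (h1 : A ≤ centralizer {e}) (h2 : e ∉ A) : E8 (A ⊔ zpowers e) :=
  ⟨isElementaryAbelian_sup hA (isElementaryAbelian_zpowers (by rw [pow_two, he]))
    (zpowers_le_cent h1), by have := four_le_card_sup (by omega) h2; omega⟩

theorem exists_E8_three {a b e : G} (ha : IsInv a) (hb : IsInv b) (hne : a ≠ b)
    (hc : a * b = b * a) (he : IsInv e) (h1 : e ∈ centralizer {a}) (h2 : e ∈ centralizer {b})
    (h3 : ¬ (e = a ∨ e = b ∨ e = a * b)) :
    ∃ B, E8 B ∧ B ≤ centralizer {a} ∧ B ≤ centralizer {b} ∧ B ≤ centralizer {e} := by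
  have h4 := exists_E8_sup (isElementaryAbelian_four ha.1 hb.1 hc) (four_le_card ha hb hne) he.1
    (sup_le (zpowers_le_of_mem (mem_centralizer_singleton_iff.2
      (mem_centralizer_singleton_iff.1 h1).symm)) (zpowers_le_of_mem
      (mem_centralizer_singleton_iff.2 (mem_centralizer_singleton_iff.1 h2).symm)))
    fun h => h3 ((mem_four ha.1 hb.1 hc h).resolve_left he.2)
  exact ⟨_, h4, ea_le_cent h4.1 (mem_sup_left (mem_sup_left (mem_zpowers a))),
    ea_le_cent h4.1 (mem_sup_left (mem_sup_right (mem_zpowers b))),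
    ea_le_cent h4.1 (mem_sup_right (mem_zpowers e))⟩

omit [Finite G] in
theorem mem_of_sylow {R X : Subgroup G} (hR : IsSylowIn 2 R X) {b : G} (hb : IsInv b)
    (h1 : b ∈ X) (h2 : R ≤ centralizer {b}) : b ∈ R :=
  haveI : Fact (Nat.Prime 2) := ⟨Nat.prime_two⟩
  (hR.eq_of_le (isPGroup_sup_of_le_normalizer (Invol.isPGroup_zpowers hb.1) hR.isPGroup
    ((zpowers_le_cent h2).trans (centralizer_le_normalizer _))) le_sup_right
    (sup_le (zpowers_le_of_mem h1) hR.le)).le (mem_sup_left (mem_zpowers b))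

theorem exists_move {a b : G} (hb : IsInv b) (hne : a ≠ b) (hc : a * b = b * a)
    {R : Subgroup G} (hR : IsSylowIn 2 R (centralizer {a} ⊓ centralizer {b}))
    (hV : ∀ e ∈ R, R ≤ centralizer {e} → IsInv e → e = a ∨ e = b ∨ e = a * b)
    (h : ¬ IsSylowIn 2 R (centralizer {a})) : ∃ g, g * a * g⁻¹ = a ∧ g * b * g⁻¹ = a * b := by
  have : Fact (Nat.Prime 2) := ⟨Nat.prime_two⟩
  obtain ⟨T, h1, hT⟩ := IsSylowIn.exists_ge hR.isPGroup (hR.le.trans inf_le_left)
  obtain ⟨g, hg, hgR⟩ := SetLike.exists_of_lt (lt_inf_normalizer_of_isPGroup hT.isPGroup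
    (lt_of_le_of_ne h1 fun e => h (e ▸ hT)))
  have h2 : R ≤ centralizer {b} := hR.le.trans inf_le_right
  have h3 : b ∈ R := mem_of_sylow hR hb ⟨mem_centralizer_singleton_iff.2 hc.symm,
    mem_centralizer_singleton_iff.2 rfl⟩ h2
  have h4 := conj_eq_of_mem_cent (hT.le hg.1)
  refine ⟨g, h4, ?_⟩
  rcases hV _ (conj_mem_of_mem_normalizer hg.2 h3) (le_cent_conj hg.2 h2) (hb.conj g) with e | e | e
  · exact absurd (by simpa using h4.trans e.symm) hne
  · exact absurd ((hR.eq_of_le (T := T ⊓ centralizer {b}) hT.isPGroup.to_inf_left (le_inf h1 h2)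
      (inf_le_inf_right _ hT.le)).le ⟨hg.1, mem_cent_of_conj_eq e⟩) hgR
  · exact e

theorem F3.sylow_or (h : F3 G) {a b : G} (ha : IsInv a) (hb : IsInv b) (hne : a ≠ b)
    (hc : a * b = b * a) (h1 : ¬ ∃ B, E8 B ∧ B ≤ centralizer {a} ∧ B ≤ centralizer {b})
    {R : Subgroup G} (hR : IsSylowIn 2 R (centralizer {a} ⊓ centralizer {b})) :
    (∀ e ∈ R, IsInv e → e = a ∨ e = b ∨ e = a * b) ∧
      (IsSylowIn 2 R (centralizer {a}) ∨ IsSylowIn 2 R (centralizer {b})) := by
  have hV : ∀ e ∈ R, IsInv e → e = a ∨ e = b ∨ e = a * b := fun e he hi => by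
    by_contra h2
    obtain ⟨B, h3, h4, h5, -⟩ := exists_E8_three ha hb hne hc hi (hR.le he).1 (hR.le he).2 h2
    exact h1 ⟨B, h3, h4, h5⟩
  refine ⟨hV, ?_⟩
  by_contra h2
  push Not at h2
  obtain ⟨g, g1, g2⟩ := exists_move hb hne hc hR (fun e he _ => hV e he) h2.1
  obtain ⟨k, k1, k2⟩ := exists_move ha hne.symm hc.symm (by rwa [inf_comm])
    (fun e he _ hi => by rw [← hc]; exact or_left_comm.1 (hV e he hi)) h2.2
  exact h.noS3 ha hb hc g1 g2 k1 k2

theorem F3.exists_E8_comm (h : F3 G) {a b : G} (ha : IsInv a) (hb : IsInv b)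
    (hc : a * b = b * a) (h1 : ∃ B, E8 B ∧ B ≤ centralizer {a})
    (h2 : ∃ B, E8 B ∧ B ≤ centralizer {b}) :
    ∃ B, E8 B ∧ B ≤ centralizer {a} ∧ B ≤ centralizer {b} := by
  have : Fact (Nat.Prime 2) := ⟨Nat.prime_two⟩
  by_cases hne : a = b
  · subst hne
    obtain ⟨B, h3, h4⟩ := h1
    exact ⟨B, h3, h4, h4⟩
  by_contra h3
  obtain ⟨R, hR⟩ := IsSylowIn.exists_in (p := 2) (centralizer {a} ⊓ centralizer {b})
  have key : ∀ c : G, (∃ B, E8 B ∧ B ≤ centralizer {c}) → ¬ IsSylowIn 2 R (centralizer {c}) := by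
    rintro c ⟨B, h4, h5⟩ h6
    obtain ⟨x, -, h7⟩ := h6.exists_conj_le (IsElementaryAbelian.isPGroup h4.1) h5
    exact h3 ⟨_, h4.conj x, h7.trans (hR.le.trans inf_le_left), h7.trans (hR.le.trans inf_le_right)⟩
  exact (h.sylow_or ha hb hne hc h3 hR).2.elim (key a h1) (key b h2)

theorem exists_N4 {S B : Subgroup G} (hS : IsPGroup 2 S) (hB : E8 B) (h : B ≤ S) :
    ∃ z u, N4 S z u := by
  have : Fact (Nat.Prime 2) := ⟨Nat.prime_two⟩
  have h8 := hB.2
  rcases PGrp.isCyclic_or_isDQSD_or_exists_normal_card_sq hS with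
    h3 | ⟨-, n, x, y, h3⟩ | ⟨E, hE, h3, h4⟩
  · have h4 : IsCyclic B := isCyclic_of_injective _ (inclusion_injective h)
    have h5 := Nat.le_of_dvd two_pos (h4.exponent_eq_card ▸ Monoid.exponent_dvd_of_forall_pow_eq_one
      fun g => Subtype.ext (hB.1.2 g g.2))
    omega
  · have h4 := h3.pRankLE_two (B.subgroupOf S) (by have := hB.1.1; infer_instance)
      fun a ha => Subtype.ext (hB.1.2 a ha)
    rw [card_subgroupOf_of_le h] at h4
    omega
  set U := E.map S.subtype with hUdef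
  have hU : Nat.card U = 4 := by rw [card_map_of_injective S.subtype_injective, h4]; rfl
  have hUe := isElementaryAbelian_map h3 S.subtype
  have hUn : S ≤ normalizer (U : Set G) := by
    have h5 := map_normalizer_le' (le_normalizer_of_normal (H := E) (K := ⊤)) S.subtype
    rwa [← MonoidHom.range_eq_map, range_subtype] at h5
  obtain ⟨⟨z, hz⟩, hz1⟩ := ne_bot_iff_exists_ne_one.1 (inf_centralizer_ne_bot_of_isNilpotent
    hS.isNilpotent (map_subtype_le E) hUn fun h0 => by rw [← hUdef] at h0; simp [h0] at hU)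
  have hzi : IsInv z := ⟨ea_sq hUe hz.1, fun e => hz1 (Subtype.ext e)⟩
  obtain ⟨u, hu, h9⟩ := SetLike.not_le_iff_exists.1 fun h9 : U ≤ zpowers z => by
    have := card_le_of_le h9
    rw [hzi.card_zpowers] at this
    omega
  have hui : IsInv u := ⟨ea_sq hUe hu, fun e => h9 (e ▸ one_mem _)⟩
  have hne : z ≠ u := fun e => h9 (e ▸ mem_zpowers _)
  have hc := le_cent_of_mem hz.2
  refine ⟨z, u, map_subtype_le E hz.1, map_subtype_le E hu, hzi, hui, hne, hc, fun s hs => ?_⟩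
  have h10 : zpowers z ⊔ zpowers u = U := eq_of_le_of_card_ge
    (sup_le (zpowers_le_of_mem hz.1) (zpowers_le_of_mem hu)) (hU.le.trans (four_le_card hzi hui hne))
  rcases mem_four hzi.1 hui.1 (ea_comm hUe hz.1 hu)
    (h10.ge (conj_mem_of_mem_normalizer (hUn hs) hu)) with e | e | e | e
  · exact absurd e (hui.conj s).2
  · exact absurd (by simpa using (conj_eq_of_mem_cent (hc hs)).trans e.symm) hne
  · exact Or.inl e
  · exact Or.inr e

namespace N4

variable {S : Subgroup G} {z u : G} (h : N4 S z u)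
include h

omit [Finite G] in
theorem four_le {A : Subgroup G} (hA : E8 A) (h1 : A ≤ S) :
    4 ≤ Nat.card ↥(A ⊓ centralizer {u}) := by
  have h2 := card_inf_mul_relIndex (centralizer {u}) A
  have h3 := Nat.mul_le_mul_left (Nat.card ↥(A ⊓ centralizer {u}))
    (Nat.le_of_dvd two_pos (h.relIndex_dvd h1))
  have := hA.2
  omega

theorem wc_eq (hC : SolC G) {A : Subgroup G} (hA : E8 A) (h1 : A ≤ S) :
    wc A = wc (zpowers z ⊔ zpowers u) ∧ Odd (Nat.card (wc A)) := by
  obtain ⟨h2, h3⟩ := hC.wc_eq hA.1 hA.2 inf_le_left (h.four_le hA h1)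
  refine ⟨h2.symm.trans (hC.wc_eq_center (P := S ⊓ centralizer {u}) h.ea
    (sup_le (zpowers_le_cent (inf_le_left.trans h.cent)) (zpowers_le_cent inf_le_right))
    (four_le_card h.zi h.ui h.ne) (isElementaryAbelian_of_le hA.1 inf_le_left)
    (inf_le_inf_right _ h1) (h.four_le hA h1)), Nat.coprime_two_right.1 h3⟩

theorem exists_E8 {A : Subgroup G} (hA : E8 A) (h1 : A ≤ S) :
    ∃ B, E8 B ∧ B ≤ S ⊓ centralizer {u} := by
  by_cases hu : u ∈ A
  · exact ⟨A, hA, le_inf h1 (ea_le_cent hA.1 hu)⟩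
  · exact ⟨_, exists_E8_sup (isElementaryAbelian_of_le hA.1 inf_le_left) (h.four_le hA h1) h.ui.1
      inf_le_right fun e => hu e.1, sup_le (inf_le_inf_right _ h1)
        (zpowers_le_of_mem ⟨h.um, mem_centralizer_singleton_iff.2 rfl⟩)⟩

omit [Finite G] in
theorem cent_mul : S ⊓ centralizer {u} ≤ centralizer {z * u} :=
  le_cent_of_mem (mul_mem (mem_cent_of_le (inf_le_left.trans h.cent)) (mem_cent_of_le inf_le_right))

theorem mem_ppOf (hs : Group.IsSolvable (centralizer {z} : Subgroup G))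
    (hS : IsSylowIn 2 S (centralizer {z})) : u ∈ ppOf {2}ᶜ (centralizer {z}) := by
  have : Fact (Nat.Prime 2) := ⟨Nat.prime_two⟩
  set M : Subgroup G := centralizer {z} with hM
  set f := QuotientGroup.mk' (piCore {2}ᶜ M) with hf
  have hfs : Function.Surjective f := QuotientGroup.mk'_surjective _
  set Q := piCore {2}ᶜᶜ (M ⧸ piCore {2}ᶜ M) with hQ
  have hQ' : Q = pCore 2 _ := by rw [hQ, compl_compl, pCore_eq_piCore]
  have hc : centralizer (Q : Set (M ⧸ piCore {2}ᶜ M)) ≤ Q :=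
    (PiSep.of_isSolvable (π := {2}ᶜᶜ) (G := M ⧸ piCore {2}ᶜ M) inferInstance).centralizer_piCore_le
      (by rw [compl_compl, piCore_quotient_piCore])
  set z' := f ⟨z, hS.le h.zm⟩ with hz'
  have hz1 : z' * z' = 1 := by
    rw [← map_mul, ← map_one f]; exact congrArg f (Subtype.ext h.zi.1)
  have hz2 : ∀ x, x * z' * x⁻¹ = z' := fun x => by
    obtain ⟨x, rfl⟩ := hfs x
    rw [← map_inv, ← map_mul, ← map_mul]
    exact congrArg f (Subtype.ext (conj_eq_of_mem_cent x.2))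
  have hz3 : ∀ x, z' * (z' * x) = x := fun x => by rw [← mul_assoc, hz1, one_mul]
  have hQn : Q.Normal := hQ' ▸ inferInstance
  let N : Subgroup (M ⧸ piCore {2}ᶜ M) :=
    { carrier := {x | ∀ q ∈ Q, x * q * x⁻¹ = q ∨ x * q * x⁻¹ = z' * q}
      one_mem' := fun q _ => Or.inl (by simp)
      mul_mem' := fun {x y} hx hy q hq => by
        have e : x * y * q * (x * y)⁻¹ = x * (y * q * y⁻¹) * x⁻¹ := by group
        rw [e]
        rcases hy q hq with a | a <;> rw [a]
        · exact hx q hq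
        · rw [← conj_mul, hz2]
          rcases hx q hq with b | b <;> rw [b]
          · exact Or.inr rfl
          · exact Or.inl (hz3 q)
      inv_mem' := fun {x} hx q hq => by
        rcases hx q hq with a | a
        · left
          conv_lhs => rw [← a]
          group
        · right
          have : q = z' * (x * q * x⁻¹) := by rw [a, hz3]
          conv_lhs => rw [this, ← conj_mul, hz2]
          group }
  have hNn : N.Normal := ⟨fun x hx g q hq => by
    have e : g * x * g⁻¹ * q * (g * x * g⁻¹)⁻¹ = g * (x * (g⁻¹ * q * g⁻¹⁻¹) * x⁻¹) * g⁻¹ := by group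
    rw [e]
    rcases hx _ (hQn.conj_mem q hq g⁻¹) with a | a <;> rw [a]
    · left; group
    · right; rw [← conj_mul, hz2]; group⟩
  have hNp : IsPGroup 2 N := fun x => by
    have h1 : (x : M ⧸ piCore {2}ᶜ M) * x ∈ Q := hc fun q hq => by
      refine (mul_inv_eq_iff_eq_mul.1 ?_).symm
      have e : x.1 * x.1 * q * (x.1 * x.1)⁻¹ = x.1 * (x.1 * q * x.1⁻¹) * x.1⁻¹ := by group
      rw [e]
      rcases x.2 q hq with a | a
      · rw [a, a]
      · rw [a, ← conj_mul, hz2, a, hz3]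
    obtain ⟨k, hk⟩ := (hQ' ▸ pCore_isPGroup 2 : IsPGroup 2 Q) ⟨_, h1⟩
    refine ⟨k + 1, Subtype.ext ?_⟩
    rw [pow_succ', coe_pow, pow_mul, pow_two]
    exact congrArg Subtype.val hk
  refine ⟨⟨u, hS.le h.um⟩, (le_pCore hNp).trans hQ'.ge (x := f _) fun q hq => ?_, rfl⟩
  have h1 := (hS.subgroupOf le_rfl).map f
  rw [subgroupOf_self, map_top_of_surjective f hfs] at h1
  have h2 := pCoreOf_le_sylow h1
  rw [pCoreOf_top, ← hQ'] at h2
  obtain ⟨s, hs, rfl⟩ := h2 hq
  rw [hz', ← map_inv, ← map_mul, ← map_mul, ← map_mul]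
  refine (h.conj s⁻¹ (inv_mem hs)).imp (fun e => congrArg f (Subtype.ext ?_))
    fun e => congrArg f (Subtype.ext ?_)
  · change u * s * u⁻¹ = s
    calc _ = s * ((s.1⁻¹ * u * s.1⁻¹⁻¹) * u⁻¹) := by group
      _ = _ := by rw [e]; group
  · change u * s * u⁻¹ = z * s
    calc _ = s * ((s.1⁻¹ * u * s.1⁻¹⁻¹) * u⁻¹) := by group
      _ = s * z := by rw [e]; group
      _ = _ := mem_centralizer_singleton_iff.1 s.2

end N4

theorem le_oc_of_norm (hC : SolC G) {t : G} (ht : IsInv t) {T K : Subgroup G}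
    (hT : IsSylowIn 2 T (centralizer {t})) (hK : Odd (Nat.card K)) (h1 : K ≤ centralizer {t})
    (h2 : T ⊓ ppOf {2}ᶜ (centralizer {t}) ≤ normalizer (K : Set G)) : K ≤ oc t := by
  have : Fact (Nat.Prime 2) := ⟨Nat.prime_two⟩
  have hπ : IsPiSubgroup {2}ᶜ K := coprime_iff_isPiSubgroup.1 (Nat.coprime_two_right.2 hK)
  refine le_piCoreOf_of_le_ppOf (le_ppOf_of_commutator_le (hC t ht.orderOf) h1 ?_) hπ
  rw [← piCoreOf_sup_inf_ppOf hT]
  refine commutator_sup_le le_normalizer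
    (inf_le_right.trans ((ppOf_le _).trans (le_normalizer_piCoreOf _)))
    (commutator_le_of_le_normalizer (h1.trans (le_normalizer_piCoreOf _))) ?_
  refine le_piCoreOf_of_le_ppOf ((commutator_mono le_rfl inf_le_right).trans
    (commutator_le_of_le_normalizer (h1.trans (le_normalizer_ppOf _))))
    (isPiSubgroup_of_le hπ (commutator_le_left_of_le_normalizer h2))

/-- all elementary abelian subgroups of order at least eight of `C(t)` give the same `wc` -/
def Gd (t : G) : Prop :=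
  ∀ B B' : Subgroup G, E8 B → B ≤ centralizer {t} → E8 B' → B' ≤ centralizer {t} → wc B = wc B'

theorem Gd.le_normalizer {t : G} (h : Gd t) {B : Subgroup G} (hB : E8 B)
    (h1 : B ≤ centralizer {t}) : centralizer {t} ≤ normalizer (wc B : Set G) := fun c hc => by
  refine mem_normalizer_of_map_conj_eq ?_
  rw [← wc_map_conj]
  exact h _ _ (hB.conj c) (by simpa [conj_eq_of_mem_cent hc] using map_le_cent h1 c) hB h1

theorem gd_of {t : G} {T W : Subgroup G} (hT : IsSylowIn 2 T (centralizer {t}))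
    (h1 : ∀ B, E8 B → B ≤ T → wc B = W) (h2 : oc t ≤ normalizer (W : Set G))
    (h3 : centralizer {t} ⊓ normalizer ((T ⊓ ppOf {2}ᶜ (centralizer {t}) : Subgroup G) : Set G) ≤
      normalizer (W : Set G)) : Gd t := by
  have : Fact (Nat.Prime 2) := ⟨Nat.prime_two⟩
  have h4 : centralizer {t} ≤ normalizer (W : Set G) := by
    refine ((hT.inf_of_le_normalizer (ppOf_le _) (hT.le.trans (le_normalizer_ppOf _))).frattini_le
      (ppOf_le _) (le_normalizer_ppOf _)).trans (sup_le ?_ h3)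
    rw [← piCoreOf_sup_inf_ppOf hT]
    exact sup_le h2 ((le_inf (inf_le_left.trans hT.le) le_normalizer).trans h3)
  have h5 : ∀ B, E8 B → B ≤ centralizer {t} → wc B = W := fun B hB h5 => by
    obtain ⟨c, hc, h6⟩ := hT.exists_conj_le (IsElementaryAbelian.isPGroup hB.1) h5
    have h7 := h1 _ (hB.conj c) h6
    rw [wc_map_conj, ← map_conj_eq_of_mem_normalizer (h4 hc)] at h7
    exact map_injective (MulAut.conj c).injective h7
  exact fun B B' a b c d => (h5 B a b).trans (h5 B' c d).symm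

theorem gd_of_center (hC : SolC G) {t e : G} (ht : IsInv t) (he : IsInv e) (hne : t ≠ e)
    {T : Subgroup G} (hT : IsSylowIn 2 T (centralizer {t})) (h1 : e ∈ T)
    (h2 : T ≤ centralizer {e}) : Gd t := by
  have : Fact (Nat.Prime 2) := ⟨Nat.prime_two⟩
  have h3 : t ∈ T := mem_of_sylow hT ht (mem_centralizer_singleton_iff.2 rfl) hT.le
  have hZ := isElementaryAbelian_four ht.1 he.1 (mem_centralizer_singleton_iff.1 (h2 h3))
  have hZC : zpowers t ⊔ zpowers e ≤ centralizer (T : Set G) :=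
    sup_le (zpowers_le_cent hT.le) (zpowers_le_cent h2)
  have hZT : zpowers t ⊔ zpowers e ≤ T := sup_le (zpowers_le_of_mem h3) (zpowers_le_of_mem h1)
  have h4 := four_le_card ht he hne
  refine gd_of hT (fun B hB h5 => hC.wc_eq_center hZ hZC h4 hB.1 h5 (by have := hB.2; omega))
    ((oc_le_wc (mem_sup_left (mem_zpowers t)) ht.2).trans le_normalizer) fun n hn => ?_
  refine mem_normalizer_of_map_conj_eq ?_
  rw [← wc_map_conj]
  exact hC.wc_eq_center hZ hZC h4 (isElementaryAbelian_map hZ _) ((map_mono (le_inf hZT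
    (center_sylow_le_ppOf (hC t ht.orderOf) hT (hZT.trans hT.le) hZC))).trans
    ((map_conj_eq_of_mem_normalizer hn.2).le.trans inf_le_left)) (h4.trans (card_map_conj _ _).ge)

theorem isStronglyEmbedded_of {M : Subgroup G} (hM : M ≠ ⊤) {a : G} (ha : IsInv a) (haM : a ∈ M)
    (h : ∀ u g : G, IsInv u → u ∈ M → g * u * g⁻¹ ∈ M → g ∈ M) : IsStronglyEmbedded M :=
  ⟨hM, Suz.even_card_of_invol haM ha.2 ha.1, fun g hg => odd_of_forall fun u hu hi =>
    hg (by simpa using inv_mem (h u g⁻¹ hi hu.1 (by simpa using mem_map_conj_iff.1 hu.2)))⟩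

theorem exists_odd_pow (n : G) : ∃ j : ℕ, IsPGroup 2 (zpowers (n ^ (2 * j + 1))) := by
  obtain ⟨k, m, ⟨j, rfl⟩, h⟩ := Nat.exists_eq_two_pow_mul_odd (orderOf_pos n).ne'
  exact ⟨j, isPGroup_zpowers_of_pow (k := k) (by rw [← pow_mul, mul_comm, ← h, pow_orderOf_eq_one])⟩

/-- a minimal simple group without automizers of four-groups of order divisible by three -/
structure MS (G : Type*) [Group G] : Prop where
  simple : IsSimpleGroup G
  solv : ∀ H : Subgroup G, H ≠ ⊤ → Group.IsSolvable H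
  nsolv : ¬ Group.IsSolvable G
  f3 : F3 G

namespace MS

variable (H : MS G)
include H

omit [Finite G] in
theorem norm_ne_top {X : Subgroup G} (h1 : X ≠ ⊥) (h2 : Group.IsSolvable X) :
    normalizer (X : Set G) ≠ ⊤ :=
  haveI := H.simple
  normalizer_ne_top h1 fun e => H.nsolv (by
    subst e; exact Group.isSolvable_of_surjective (f := (topEquiv : (⊤ : Subgroup G) ≃* G).toMonoidHom)
      topEquiv.surjective)

omit [Finite G] in
theorem solC : SolC G := fun t ht => isSolvable_of_le (H.solv _ (H.norm_ne_top (X := zpowers t)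
  (fun e => ne_one_of_orderOf ht (zpowers_eq_bot.1 e))
  (Group.isSolvable_of_comm fun a b => mul_comm' a b)))
  ((centralizer_zpowers t).ge.trans (centralizer_le_normalizer _))

omit [Finite G] in
theorem not_comm : ¬ IsMulCommutative G := fun h =>
  H.nsolv (Group.isSolvable_of_comm fun a b => h.is_comm.comm a b)

theorem exists_sylow : ∃ (S : Subgroup G) (z : G), IsSylowIn 2 S ⊤ ∧ IsInv z ∧ z ∈ S ∧
    S ≤ centralizer {z} := by
  have : Fact (Nat.Prime 2) := ⟨Nat.prime_two⟩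
  obtain ⟨S, hS⟩ := IsSylowIn.exists_in (p := 2) (⊤ : Subgroup G)
  obtain ⟨z, hz, hzi⟩ := exists_inv_center hS.isPGroup (hS.ne_bot (by
    rw [card_top, ← even_iff_two_dvd, ← Nat.not_odd_iff_even]
    exact fun h => H.nsolv (FT.feit_thompson h)))
  exact ⟨S, z, hS, hzi, hz.1, le_cent_of_mem hz.2⟩

theorem exists_E8 : ∃ B : Subgroup G, E8 B := by
  have : Fact (Nat.Prime 2) := ⟨Nat.prime_two⟩
  have := H.simple
  by_contra hcon
  obtain ⟨S, z, hS, hz, -, hzS⟩ := H.exists_sylow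
  obtain ⟨g, hg, hne⟩ : ∃ g, Commute z (g * z * g⁻¹) ∧ g * z * g⁻¹ ≠ z := by
    by_contra h
    push Not at h
    exact BSW.not_inZStar_of_simple H.not_comm hz.orderOf (Blk.glauberman_zstar G z hz.orderOf h)
  set w := g * z * g⁻¹ with hw
  have hwi : IsInv w := hz.conj g
  obtain ⟨R, hR⟩ := IsSylowIn.exists_in (p := 2) (centralizer {z} ⊓ centralizer {w})
  obtain ⟨hV, h1⟩ := H.f3.sylow_or hz hwi hne.symm hg.eq (fun ⟨B, h, _⟩ => hcon ⟨B, h⟩) hR
  have hR' : IsSylowIn 2 R ⊤ := by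
    refine hS.of_card_le hR.isPGroup le_top ?_
    rcases h1 with h1 | h1
    · exact h1.card_le hS.isPGroup hzS
    · exact (card_map_conj g S).ge.trans (h1.card_le (hS.isPGroup.map _) (map_le_cent hzS g))
  have h2 : R ≤ centralizer {z} := hR.le.trans inf_le_left
  have h3 : R ≤ centralizer {w} := hR.le.trans inf_le_right
  obtain ⟨P, rfl⟩ := IsSylowIn.top_iff.1 hR'
  obtain ⟨n, hn, e⟩ := P.conj_eq_normalizer_conj_of_mem_centralizer z g⁻¹ (mem_cent_of_le h2)
    (by rw [inv_inv]; exact mem_cent_of_le h3)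
  rw [inv_inv, ← hw] at e
  have e1 : n⁻¹ * z * n⁻¹⁻¹ = w := by rw [inv_inv, e]
  rcases hV _ (conj_mem_of_mem_normalizer (inv_mem hn) (mem_of_sylow hR' hwi (mem_top _) h3))
    (hwi.conj n⁻¹) with e2 | e2 | e2
  · obtain ⟨j, hj⟩ := exists_odd_pow n⁻¹
    have h4 := h2 (le_of_le_normalizer_sylow hR' hj (zpowers_le_of_mem (pow_mem (inv_mem hn) _))
      (mem_zpowers _))
    have h5 : n⁻¹ ^ 2 ∈ centralizer {z} := mem_cent_of_conj_eq (by
      calc _ = n⁻¹ * (n⁻¹ * z * n⁻¹⁻¹) * n⁻¹⁻¹ := by simp only [pow_two, mul_inv_rev, mul_assoc]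
        _ = z := by rw [e1, e2])
    rw [pow_succ, pow_mul, Subgroup.mul_mem_cancel_left _ (pow_mem h5 j)] at h4
    exact hne (e1.symm.trans (conj_eq_of_mem_cent h4))
  · exact hne (by simpa using e2.trans e1.symm)
  · exact H.f3 z w n⁻¹ hz hwi hg.eq e1 e2

theorem has_E8 {t : G} (ht : IsInv t) : ∃ B, E8 B ∧ B ≤ centralizer {t} := by
  have : Fact (Nat.Prime 2) := ⟨Nat.prime_two⟩
  have := H.simple
  obtain ⟨A, hA⟩ := H.exists_E8
  obtain ⟨S, h1, hS⟩ := IsSylowIn.exists_ge (IsElementaryAbelian.isPGroup hA.1) (le_top : A ≤ ⊤)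
  obtain ⟨z, u, hN⟩ := exists_N4 hS.isPGroup hA h1
  have h2 : pResidual 2 G = ⊤ := (PRes.pResidual_normal.eq_bot_or_eq_top).resolve_left fun e =>
    H.nsolv (isSolvable_of_isPGroup (PRes.pResidual_eq_bot_iff.1 e))
  obtain ⟨c, -, h3⟩ := hS.exists_conj_le (Invol.isPGroup_zpowers ht.1) le_top
  obtain ⟨g, -, h4⟩ := exists_conj_mem_of_relIndex_dvd (h2 ▸ hS) (hN.relIndex_dvd le_rfl)
    (h3 (mem_map_of_mem _ (mem_zpowers t))) (ht.conj c).orderOf
  change g⁻¹ * (c * t * c⁻¹) * g ∈ _ at h4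
  have h5 : IsInv (g⁻¹ * (c * t * c⁻¹) * g) := by simpa using (ht.conj c).conj g⁻¹
  obtain ⟨B, h6, h7⟩ : ∃ B, E8 B ∧ B ≤ centralizer {g⁻¹ * (c * t * c⁻¹) * g} := by
    by_cases h6 : g⁻¹ * (c * t * c⁻¹) * g = z ∨ g⁻¹ * (c * t * c⁻¹) * g = u ∨
      g⁻¹ * (c * t * c⁻¹) * g = z * u
    · obtain ⟨B, h7, h8⟩ := hN.exists_E8 hA h1
      refine ⟨B, h7, h8.trans ?_⟩
      rcases h6 with e | e | e <;> rw [e]
      exacts [inf_le_left.trans hN.cent, inf_le_right, hN.cent_mul]
    · obtain ⟨B, h7, -, -, h8⟩ := exists_E8_three hN.zi hN.ui hN.ne hN.comm h5 (hN.cent h4.1) h4.2 h6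
      exact ⟨B, h7, h8⟩
  exact ⟨_, h6.conj (c⁻¹ * g), by simpa [mul_assoc] using map_le_cent h7 (c⁻¹ * g)⟩

theorem gd {t : G} (ht : IsInv t) : Gd t := by
  have : Fact (Nat.Prime 2) := ⟨Nat.prime_two⟩
  have hC := H.solC
  obtain ⟨A, hA, h1⟩ := H.has_E8 ht
  obtain ⟨T, h2, hT⟩ := IsSylowIn.exists_ge (IsElementaryAbelian.isPGroup hA.1) h1
  by_cases hu : ∀ e ∈ T, T ≤ centralizer {e} → e * e = 1 → e = 1 ∨ e = t
  swap
  · push Not at hu
    obtain ⟨e, h3, h4, h5, h6, h7⟩ := hu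
    exact gd_of_center hC ht ⟨h5, h6⟩ h7.symm hT h3 h4
  obtain ⟨z, u, hN⟩ := exists_N4 hT.isPGroup hA h2
  obtain rfl : z = t := (hu z hN.zm hN.cent hN.zi.1).resolve_left hN.zi.2
  have hT' : IsSylowIn 2 T ⊤ := by
    refine sylow_of_normalizer (hT.mono (le_inf le_top le_normalizer) fun n hn => ?_)
    exact mem_cent_of_conj_eq ((hu _ (conj_mem_of_mem_normalizer hn.2 hN.zm)
      (le_cent_conj hn.2 hN.cent) (ht.conj n).1).resolve_left (ht.conj n).2)
  have key : ∀ v, N4 T z v → Gd v := fun v hv => by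
    have h3 : IsSylowIn 2 (T ⊓ centralizer {v}) (centralizer {v} ⊓ centralizer {z}) := by
      have := hT'.inf_of_le_normalizer le_top (le_normalizer_centralizer hv.le_normalizer)
      rwa [centralizer_sup', centralizer_zpowers, centralizer_zpowers, ← inf_assoc,
        inf_eq_left.2 hv.cent, inf_comm (centralizer {z})] at this
    refine gd_of_center hC hv.ui ht hv.ne.symm (T := T ⊓ centralizer {v}) ?_
      ⟨hv.zm, mem_centralizer_singleton_iff.2 hv.comm⟩ (inf_le_left.trans hv.cent)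
    by_contra h4
    obtain ⟨g, g1, g2⟩ := exists_move ht hv.ne.symm hv.comm.symm h3
      (fun e a b c => hv.center_cases hu a b c) h4
    obtain ⟨s, hs, hs'⟩ : ∃ s ∈ T, s ∉ centralizer {v} := SetLike.not_le_iff_exists.1 fun h3 =>
      (hu v hv.um h3 hv.ui.1).elim hv.ui.2 hv.ne.symm
    exact H.f3.noS3 hv.ui ht hv.comm.symm g1 g2 (conj_eq_of_mem_cent (hv.cent hs)) (hv.conj' hs hs')
  set W := wc (zpowers z ⊔ zpowers u) with hW
  obtain ⟨B, hB, h3⟩ := hN.exists_E8 hA h2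
  obtain ⟨h4, hWo⟩ := hN.wc_eq hC hB (h3.trans inf_le_left)
  rw [h4, ← hW] at hWo
  have h5 : centralizer {u} ≤ normalizer (W : Set G) :=
    hW ▸ h4 ▸ (key u hN).le_normalizer hB (h3.trans inf_le_right)
  have h6 : centralizer {z * u} ≤ normalizer (W : Set G) :=
    hW ▸ h4 ▸ (key _ hN.mul).le_normalizer hB (h3.trans hN.cent_mul)
  have hTW : T ≤ normalizer (W : Set G) := fun s hs => mem_normalizer_of_map_conj_eq (by
    rw [hW, ← wc_map_conj, map_conj_eq_of_mem_normalizer (hN.le_normalizer hs)])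
  have o1 : oc z ≤ W := oc_le_wc (mem_sup_left (mem_zpowers z)) ht.2
  have o2 : oc u ≤ W := oc_le_wc (mem_sup_right (mem_zpowers u)) hN.ui.2
  have o3 : oc (z * u) ≤ W := oc_le_wc (mul_mem_sup (mem_zpowers z) (mem_zpowers u)) hN.mul.ui.2
  refine gd_of hT (fun B a b => (hN.wc_eq hC a b).1) (o1.trans le_normalizer) fun n hn => ?_
  by_cases hW0 : W = ⊥
  · rw [← hW, hW0]; exact le_normalizer_of_normal (mem_top n)
  have hM := H.solv _ (H.norm_ne_top hW0 (FT.feit_thompson hWo))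
  set Q := T ⊓ ppOf {2}ᶜ (centralizer {z}) with hQ
  set W' := W.map (MulAut.conj n).toMonoidHom with hW'
  have hQW : Q ≤ normalizer (W : Set G) := inf_le_left.trans hTW
  have hQW' : Q ≤ normalizer (W' : Set G) := by
    rw [hW', normalizer_map_conj, ← map_conj_eq_of_mem_normalizer hn.2]
    exact map_mono hQW
  have hzQ : z ∈ Q := ⟨hN.zm, center_sylow_le_ppOf (hC z ht.orderOf) hT
    (zpowers_le_of_mem (hT.le hN.zm)) (zpowers_le_cent hT.le) (mem_zpowers z)⟩
  have huQ : u ∈ Q := ⟨hN.um, hN.mem_ppOf (hC z ht.orderOf) hT⟩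
  have hW'o : Odd (Nat.card W') := by rwa [hW', card_map_conj]
  have hcz : ∀ K : Subgroup G, Odd (Nat.card K) → Q ≤ normalizer (K : Set G) →
      K ⊓ centralizer {z} ≤ W := fun K a b => (le_oc_of_norm hC ht hT
    (a.of_dvd_nat (card_dvd_of_le inf_le_left)) inf_le_right
    (le_normalizer_inf b (inf_le_left.trans (hT.le.trans le_normalizer)))).trans o1
  have h7 : W' ≤ normalizer (W : Set G) := le_of_four ht hN.ui hN.ne hN.comm hW'o (hQW' hzQ)
    (hQW' huQ) ((hcz _ hW'o hQW').trans le_normalizer) (inf_le_right.trans h5)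
    (inf_le_right.trans h6)
  set M := normalizer (W : Set G) with hMdef
  have hOn : M ≤ normalizer (piCoreOf {2}ᶜ M : Set G) := le_normalizer_piCoreOf M
  have hO : ∀ v : G, centralizer {v} ≤ M → piCoreOf {2}ᶜ M ⊓ centralizer {v} ≤ oc v := fun v hv =>
    le_oddCore inf_le_right (le_normalizer_inf (hv.trans hOn) le_normalizer)
      ((odd_piCoreOf M).of_dvd_nat (card_dvd_of_le inf_le_left))
  have h8 : piCoreOf {2}ᶜ M ≤ W := le_of_four ht hN.ui hN.ne hN.comm (odd_piCoreOf M)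
    (hOn (hQW hzQ)) (hOn (hQW huQ)) (hcz _ (odd_piCoreOf M) (hQW.trans hOn)) ((hO u h5).trans o2)
    ((hO _ h6).trans o3)
  have hX : Odd (Nat.card ↥(W' ⊔ W)) := odd_sup h7 hW'o hWo
  have hQX : Q ≤ normalizer ((W' ⊔ W : Subgroup G) : Set G) := le_normalizer_sup hQW' hQW
  have hXM : W' ⊔ W ≤ M := sup_le h7 le_normalizer
  have h9 : zpowers z ≤ ppOf {2}ᶜ M := center_sylow_le_ppOf hM (hT'.mono hTW le_top)
    (zpowers_le_of_mem (hTW hN.zm)) (zpowers_le_cent hT.le)
  have h10 := sup_centralizer_eq_of_commutator_le (A := zpowers z) (le_sup_right : W ≤ W' ⊔ W)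
    ((le_piCoreOf_of_le_ppOf ((commutator_mono le_rfl h9).trans
      (commutator_le_of_le_normalizer (hXM.trans (le_normalizer_ppOf M))))
      (isPiSubgroup_of_le (coprime_iff_isPiSubgroup.1 (Nat.coprime_two_right.2 hX))
        (commutator_le_left_of_le_normalizer (zpowers_le_of_mem (hQX hzQ))))).trans h8)
    (ht.coprime hWo) IsInv.solv
  rw [centralizer_zpowers] at h10
  exact mem_normalizer_of_map_conj_eq (eq_of_le_of_card_ge
    (le_sup_left.trans (h10.ge.trans (sup_le le_rfl (hcz _ hX hQX)))) (card_map_conj n W).ge)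

theorem se_or : (∃ M : Subgroup G, IsStronglyEmbedded M) ∨ ∀ t : G, orderOf t = 2 → oc t = ⊥ := by
  have : Fact (Nat.Prime 2) := ⟨Nat.prime_two⟩
  have hC := H.solC
  obtain ⟨A, hA⟩ := H.exists_E8
  obtain ⟨S, h1, hS⟩ := IsSylowIn.exists_ge (IsElementaryAbelian.isPGroup hA.1) (le_top : A ≤ ⊤)
  obtain ⟨z, u, hN⟩ := exists_N4 hS.isPGroup hA h1
  obtain ⟨h2, hWo⟩ := hN.wc_eq hC hA h1
  have hSW : S ≤ normalizer (wc A : Set G) := fun s hs => mem_normalizer_of_map_conj_eq (by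
    rw [h2, ← wc_map_conj, map_conj_eq_of_mem_normalizer (hN.le_normalizer hs)])
  have h3 : ∀ t ∈ normalizer (wc A : Set G), IsInv t → ∀ B, E8 B → B ≤ centralizer {t} →
      wc B = wc A := fun t ht hi B hB h3 => by
    obtain ⟨m, hm, h4⟩ := (hS.mono hSW le_top).exists_conj_le (Invol.isPGroup_zpowers hi.1)
      (zpowers_le_of_mem ht)
    have h5 : m * t * m⁻¹ ∈ S := h4 (mem_map_of_mem _ (mem_zpowers t))
    obtain ⟨B', h6, h7, h8⟩ := H.f3.exists_E8_comm (hi.conj m) hN.zi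
      (mem_centralizer_singleton_iff.1 (hN.cent h5)) (H.has_E8 (hi.conj m)) (H.has_E8 hN.zi)
    have h9 := (H.gd (hi.conj m) _ _ (hB.conj m) (map_le_cent h3 m) h6 h7).trans
      (H.gd hN.zi _ _ h6 h8 hA (h1.trans hN.cent))
    rw [wc_map_conj, ← map_conj_eq_of_mem_normalizer hm] at h9
    exact map_injective (MulAut.conj m).injective h9
  by_cases h0 : wc A = ⊥
  · refine Or.inr fun t ht => ?_
    have hi : IsInv t := ⟨mul_self_of_orderOf ht, ne_one_of_orderOf ht⟩
    obtain ⟨B, hB, h4⟩ := H.has_E8 hi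
    have h5 := h3 t (by rw [h0]; exact le_normalizer_of_normal (mem_top t)) hi (B ⊔ zpowers t)
      ⟨isElementaryAbelian_sup hB.1 (isElementaryAbelian_zpowers (by rw [pow_two, hi.1]))
        (zpowers_le_cent h4), hB.2.trans (card_le_of_le le_sup_left)⟩
      (sup_le h4 (zpowers_le_of_mem (mem_centralizer_singleton_iff.2 rfl)))
    exact eq_bot_iff.2 ((oc_le_wc (mem_sup_right (mem_zpowers t)) hi.2).trans (h5.trans h0).le)
  · refine Or.inl ⟨_, isStronglyEmbedded_of (H.norm_ne_top h0 (FT.feit_thompson hWo)) hN.zi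
      (hSW hN.zm) fun v g hv a b => ?_⟩
    obtain ⟨B, hB, h4⟩ := H.has_E8 hv
    have h5 := h3 _ b (hv.conj g) _ (hB.conj g) (map_le_cent h4 g)
    rw [wc_map_conj, h3 v a hv B hB h4] at h5
    exact mem_normalizer_of_map_conj_eq h5

theorem rk2 : Rk2 (⊤ : Subgroup G) := by
  obtain ⟨A, hA⟩ := H.exists_E8
  obtain ⟨z, u, hN⟩ := exists_N4 (IsElementaryAbelian.isPGroup hA.1) hA le_rfl
  exact ⟨z, mem_top _, u, mem_top _, hN.zi, hN.ui, hN.ne, hN.comm⟩

theorem exists_se
    (h4 : ∀ M : Subgroup G, Group.IsSolvable M → ¬ Involves (Equiv.Perm (Fin 4)) M) :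
    ∃ M : Subgroup G, IsStronglyEmbedded M := by
  have : Fact (Nat.Prime 2) := ⟨Nat.prime_two⟩
  have := H.simple
  refine H.se_or.elim id fun h => ?_
  obtain ⟨S, z, hS, hz, hzS, -⟩ := H.exists_sylow
  obtain ⟨M, hM, -⟩ := exists_maxLocal_ge (p := 2) (N := normalizer (S : Set G))
    ⟨S, hS.isPGroup, fun e => hz.2 (mem_bot.1 (e ▸ hzS)), rfl⟩
  refine ⟨M, Cfsg.Agent.S3756.result (Suz.even_card_of_invol (mem_top z) hz.2 hz.1 |>.imp
    fun _ h => card_top (G := G) ▸ h) ?_ ?_ M hM⟩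
  · exact ((inferInstance : (pCore 2 G).Normal).eq_bot_or_eq_top).resolve_right fun e => H.nsolv
      (isSolvable_of_isPGroup ((pCore_isPGroup 2).of_surjective (pCore 2 G).subtype
        fun x => ⟨⟨x, e ▸ mem_top x⟩, rfl⟩))
  · rintro _ ⟨T, h1, h2, rfl⟩
    have h3 := H.solv _ (H.norm_ne_top h2 (isSolvable_of_isPGroup h1))
    exact ⟨h3, charIn_iff.1 (H.solC.charIn h h1 h2), h4 _ h3⟩

end MS

/-- A minimal simple group without real elements of order three, without `S₄`-sections and in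
which no four-group has an automizer of order divisible by three is a Suzuki group. -/
theorem MS.suzuki {G : Type u} [Group G] [Finite G] (H : MS G)
    (h4 : ∀ M : Subgroup G, Group.IsSolvable M → ¬ Involves (Equiv.Perm (Fin 4)) M)
    (h3 : ∀ y t : G, orderOf y = 3 → t * y * t⁻¹ ≠ y⁻¹) :
    ∃ (M Q : Subgroup G) (t y : G), Suz.RO M Q t ∧ orderOf y = 5 ∧ t * y * t⁻¹ = y⁻¹ ∧
      (∀ d ∈ Suz.Dg M t, t * d * t⁻¹ = d⁻¹) ∧
      ∃ (F : Type) (_ : Field F) (_ : Fintype F) (m : ℕ), 1 ≤ m ∧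
        Fintype.card F = 2 ^ (2 * m + 1) ∧ Nat.card (Suz.Dg M t) + 1 = 2 ^ (2 * m + 1) ∧
        Nonempty (G ≃* Cfsg.Lie.Sz F (2 ^ (m + 1))) := by
  have := H.simple
  obtain ⟨M, hM⟩ := H.exists_se h4
  obtain ⟨Q, t, R, h2⟩ := bender_solvable hM (H.solv M hM.1) (normalCore_eq_bot_of_simple hM.1)
    H.rk2 (Or.inr h3)
  obtain ⟨s, r, hs⟩ := R.exists_dist
  have h5 : t * s ≠ 1 := fun e => R.t_notMem (by
    rw [eq_inv_of_mul_eq_one_left e]; exact inv_mem (R.le hs.s_mem))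
  have h6 : t * (t * s) * t⁻¹ = (t * s)⁻¹ := Invol.inverts_mul R.tt hs.ss
  have h7 : r ≠ s := fun e => h3 (t * s) t (orderOf_eq_prime (by
    have := hs.eq
    rw [e, Suz.inv_eq_of_mul_self hs.ss] at this
    calc (t * s) ^ 3 = t * s * t * (s * t * s) := by simp only [pow_succ, pow_zero, one_mul, mul_assoc]
      _ = 1 := by
        rw [← this, ← mul_assoc, ← mul_assoc, R.tt'', mul_assoc t, hs.ss, mul_one, R.tt]) h5) h6
  have key : (∀ d ∈ Suz.Dg M t, t * d * t = d⁻¹) := by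
    obtain ⟨hp, h | ⟨hna, hc, hr⟩ | ⟨-, -, hr, -⟩⟩ := R.suzuki h2 hs
    · exact (R.simple_of_sq h2 h).1
    · exact R.inv_of_closed h2 (R.typeA_K h2 hp hna hc hs hr)
    · exact absurd hr h7
  rcases R.ZT_theorem key (R.D_ne_bot h2) with ⟨n, -, -, -, -, h, -⟩ | ⟨-, -, -, h, h8⟩
  · exact absurd (h s r hs) h7
  have : Fact (Nat.Prime 5) := ⟨Nat.prime_five⟩
  refine ⟨M, Q, t, t * s, R, orderOf_eq_prime ?_ h5, h6, fun d hd => by rw [R.t_inv, key d hd], h8⟩
  have hr := h s r hs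
  have h9 : s * r⁻¹ = r := by rw [← hr, mul_inv_cancel_right]
  have h10 : r * s = r⁻¹ := by
    rw [eq_inv_iff_mul_eq_one, ← hr, mul_assoc, mul_assoc, ← mul_assoc r r, hr, hs.ss]
  calc (t * s) ^ 5 = t * s * t * s * (t * s * t) * s * t * s := by
        simp only [pow_succ, pow_zero, one_mul, mul_assoc]
    _ = r⁻¹ * (t * (r * (s * r⁻¹)) * t) * (r * s) * t * s := by rw [hs.eq]; group
    _ = r⁻¹ * r⁻¹ * t * (r * r⁻¹) * t * s := by rw [h9, hr, hs.eq, h10]; group
    _ = 1 := by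
      rw [mul_inv_cancel, mul_one, R.tt'', ← mul_inv_rev, hr, inv_mul_cancel]

end CfsgLib.SE
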