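import Cfsg.Agent.Lib.SE.Gen2

/-! Project SE: Bender's theorem for solvable strongly embedded subgroups (under `H3`). -/

set_option autoImplicit false

namespace CfsgLib.SE

open Subgroup MulAction Cfsg CfsgLib.Cop CfsgLib.H1

universe u

theorem tc_of_h3 (G : Type u) [Group G] [Finite G] :
    ∀ (Ω : Type u) [MulAction G Ω], SEA G Ω → Rk2 (⊤ : Subgroup G) →
      (∀ g : G, (∀ ω : Ω, g • ω = ω) → g = 1) → (∀ ω : Ω, Group.IsSolvable (stabilizer G ω)) →
      H3 G → Tc G Ω := by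
  revert G
  refine card_induction fun G _ _ ih => ?_
  intro Ω _ S hr hf hs h3
  have key : ∀ (M : Subgroup G) (α : Ω), M ≠ ⊤ → (h1 : Rk2 (M ⊓ stabilizer G α)) →
      (h2 : ¬ M ≤ stabilizer G α) → Tc (toPermHom M (orbit M α)).range (orbit M α) := by
    intro M β hM h1 h2
    have R := red_orbit M β
    have := R.finite
    obtain ⟨a, ha, -, -, hai, -⟩ := id h1
    exact ih _ (R.card_le.trans_lt (card_lt_of_ne_top hM)) _ (R.sea S h2 hai ha.1 ha.2)
      (R.rk2 S h2 (h1.mono inf_le_left)) R.faith (R.solv hs) (R.h3 h3)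
  by_cases hG : IsSimpleGroup G
  · by_contra hT
    obtain ⟨p, hp, hp2, hR⟩ := S.exists_prime_R hT hs
    have : Fact p.Prime := ⟨hp⟩
    refine Ctx.false_of_h3 (p := p) ⟨S, hr, hs, fun M β hM h1 h2 => ?_, hp2, hR⟩ h3
    have R := red_orbit M β
    have := R.finite
    obtain ⟨a, ha, -, -, hai, -⟩ := id h1
    exact R.conc S h2 fun δ => conc_of_tc (R.sea S h2 hai ha.1 ha.2) (key M β hM h1 h2)
      (R.rk2 S h2 (h1.mono inf_le_left)) R.faith (R.solv hs) δ
  · obtain ⟨N, hN, h1, h2⟩ : ∃ N : Subgroup G, N.Normal ∧ N ≠ ⊥ ∧ N ≠ ⊤ := by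
      by_contra hcon
      push Not at hcon
      obtain ⟨u, hu⟩ := S.even
      have : Nontrivial G := ⟨u, 1, hu.2⟩
      exact hG ⟨fun N hN => or_iff_not_imp_left.2 (hcon N hN)⟩
    have h4 : ¬ Odd (Nat.card N) := fun h4 => h1 (eq_bot_iff.2 fun x hx => hf x fun ω => by
      obtain ⟨a, ha, b, -, h5, h6, h7, h8⟩ := S.rk2_stab hr ω
      exact S.le_stab_of_four h5 h6 h7 h8 ha h4 (le_normalizer_of_normal (mem_top a))
        (le_normalizer_of_normal (mem_top b)) hx)
    have h5 : ∀ v, IsInv v → v ∈ N := fun v hv => by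
      by_contra h5
      refine h4 (odd_of_forall fun w hw hwi => ?_)
      obtain ⟨d, rfl⟩ := S.exists_conj_top hwi hv
      exact h5 (hN.conj_mem w hw d)
    intro a b α ha hb h6 h7
    have h8 : ¬ N ≤ stabilizer G α := fun h8 => by
      obtain ⟨β, hβ⟩ := S.exists_ne α
      obtain ⟨t, ht, h9, -⟩ := S.exists_swap hβ.symm
      exact hβ (h9.symm.trans (h8 (h5 t ht)))
    have h9 : Rk2 (N ⊓ stabilizer G α) := by
      obtain ⟨c, hc, d, hd, e1, e2, e⟩ := S.rk2_stab hr α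
      exact ⟨c, ⟨h5 c e1, hc⟩, d, ⟨h5 d e2, hd⟩, e1, e2, e⟩
    have R := red_orbit N α
    obtain ⟨δ, hδ⟩ := R.base
    have h10 := key N α h2 h9 h8 _ _ δ (R.isInv_map S h8 (u := ⟨a, h5 a ha⟩) ha)
      (R.isInv_map S h8 (u := ⟨b, h5 b hb⟩) hb) (R.smul_iff.2 (by rw [hδ]; exact h6))
      (R.smul_iff.2 (by rw [hδ]; exact h7))
    rw [← map_mul, ← map_mul, ← mul_inv_eq_one, ← map_inv, ← map_mul] at h10
    refine mul_inv_eq_one.1 (hf _ fun ω => ?_)
    obtain ⟨ε, rfl⟩ : ∃ ε : orbit N α, ε.1 = ω := by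
      by_cases e : α = ω
      · exact ⟨δ, hδ.trans e⟩
      obtain ⟨t, ht, e1, -⟩ := S.exists_swap e
      obtain ⟨ε, hε⟩ := R.exists_pt (h5 t ht)
      exact ⟨ε, hε.trans e1⟩
    exact R.smul_iff.1 (by rw [h10, one_smul])

/-- Bender's theorem for a solvable strongly embedded subgroup with trivial core, in `2`-rank at
least two, if the Sylow `2`-subgroups are abelian or no element of order `3` is real. -/
theorem bender_solvable {G : Type u} [Group G] [Finite G] {H : Subgroup G}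
    (h : IsStronglyEmbedded H) (hs : Group.IsSolvable H) (hc : H.normalCore = ⊥)
    (hr : Rk2 (⊤ : Subgroup G)) (h3 : H3 G) : ∃ Q t, Suz.RO H Q t ∧ Suz.Rank2 Q := by
  have S := sea_of_isStronglyEmbedded h
  have := exists_RO_of_tc G (G ⧸ H) S
    (tc_of_h3 G _ S hr (faithful_quot hc) (solv_quot hs) h3) hr (faithful_quot hc) (solv_quot hs)
    ((1 : G) : G ⧸ H)
  rwa [stab_quot_one] at this

end CfsgLib.SE
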