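import Cfsg.Agent.Lib.SE.Count
import Cfsg.Agent.Lib.CorePiSep
import Cfsg.Agent.Lib.OrbitRep
import Cfsg.Agent.Lib.H1DStar

/-! Project SE: abstract lemmas on solvable groups. -/

set_option autoImplicit false

namespace CfsgLib.SE

open Subgroup Cfsg CfsgLib.Cop CfsgLib.H1
open scoped commutatorElement

variable {G : Type*} [Group G] [Finite G]

theorem exists_prime_ext {H C : Subgroup G} (hH : Group.IsSolvable H) (hCH : C ≤ H)
    (hn : H ≤ normalizer (C : Set G)) (h : ¬ H ≤ C) :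
    ∃ (ℓ : ℕ) (L : Subgroup G), ℓ.Prime ∧ C ≤ L ∧ L ≤ H ∧ ¬ L ≤ C ∧ H ≤ normalizer (L : Set G) ∧
      ∃ k, C.relIndex L = ℓ ^ k := by
  have := normal_subgroupOf_of_le_normalizer hn
  have : Nontrivial (H ⧸ C.subgroupOf H) := QuotientGroup.nontrivial_iff.2 (fun e => h (by
    rwa [subgroupOf_eq_top] at e))
  obtain ⟨ℓ, hℓ, h1⟩ := exists_pCore_ne_bot (G := H ⧸ C.subgroupOf H)
  have : Fact ℓ.Prime := ⟨hℓ⟩
  set L := (pCore ℓ (H ⧸ C.subgroupOf H)).comap (QuotientGroup.mk' (C.subgroupOf H)) with hL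
  have h2 : C.subgroupOf H ≤ L := QuotientGroup.le_comap_mk' _ _
  have h3 : C ≤ L.map H.subtype := le_map_subtype_of_subgroupOf_le hCH h2
  refine ⟨ℓ, L.map H.subtype, hℓ, h3, map_subtype_le _, fun e => h1 ?_, ?_, ?_⟩
  · rw [eq_bot_iff]
    intro x hx
    obtain ⟨x, rfl⟩ := QuotientGroup.mk'_surjective _ x
    exact mem_bot.2 ((QuotientGroup.eq_one_iff _).2 (e ⟨x, hx, rfl⟩))
  · rintro g hg
    refine mem_normalizer_of_conj_mem ?_
    rintro _ ⟨x, hx, rfl⟩
    exact ⟨_, (inferInstance : L.Normal).conj_mem x hx ⟨g, hg⟩, rfl⟩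
  · obtain ⟨k, hk⟩ := (pCore_isPGroup (G := H ⧸ C.subgroupOf H) ℓ).exists_card_eq
    refine ⟨k, ?_⟩
    have h4 := card_mul_relIndex h3
    rw [card_map_subtype, hL, card_comap_mk', card_subgroupOf_of_le hCH, hk,
      mul_comm (ℓ ^ k)] at h4
    exact Nat.eq_of_mul_eq_mul_left Nat.card_pos h4

/-- a normal subgroup of order prime to the index of `D` lies in `D` -/
theorem le_of_coprime_index {N D : Subgroup G} [N.Normal] (h : (Nat.card N).Coprime D.index) :
    N ≤ D := by
  rw [← relIndex_eq_one]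
  exact Nat.eq_one_of_dvd_coprimes h (relIndex_dvd_card _ _)
    (OrbitRep.relIndex_dvd_index_of_normal_right D N)

/-- construction of the regular normal subgroup -/
theorem exists_complement [Group.IsSolvable G] {C D : Subgroup G} [C.Normal] (hCD : C ⊔ D = ⊤)
    (hcop : (Nat.card ↥(C ⊓ D)).Coprime D.index) {ℓ : ℕ} [Fact ℓ.Prime] {k : G} (hkD : k ∈ D)
    (hk : IsPGroup ℓ (zpowers k)) (hkc : k ∈ centralizer ((C ⊓ D : Subgroup G) : Set G))
    (hN : ∀ B : Subgroup G, IsPGroup ℓ B → k ∈ B → normalizer (B : Set G) ≤ D) :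
    ∃ Q : Subgroup G, Q.Normal ∧ Q ⊓ D = ⊥ ∧ Q ⊔ D = ⊤ := by
  set σ : Set ℕ := {r | r ∣ D.index} with hσ
  set Q := piCoreOf σ C with hQ
  have hQC : Q ≤ C := piCoreOf_le C
  have hQn : Q.Normal := normal_of_le_normalizer_top
    (le_normalizer_of_normal.trans (normalizer_le_normalizer_piCoreOf C))
  refine ⟨Q, hQn, ?_, ?_⟩
  · rw [← card_eq_one]
    refine (Nat.coprime_self _).1 (Nat.coprime_of_dvd fun r hr h1 _ => ?_)
    have h2 : r ∣ D.index := piCoreOf_isPi C r hr (h1.trans (card_dvd_of_le inf_le_left))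
    exact hr.one_lt.ne' (Nat.eq_one_of_dvd_coprimes hcop
      (h1.trans (card_dvd_of_le (inf_le_inf_right D hQC))) h2)
  set f := QuotientGroup.mk' Q with hf
  have hfs : Function.Surjective f := QuotientGroup.mk'_surjective Q
  have hCn : (C.map f).Normal := (inferInstance : C.Normal).map f hfs
  set M := piCoreOf σᶜ (C.map f) with hM
  have hMC : M ≤ C.map f := piCoreOf_le _
  have hMn : M.Normal := normal_of_le_normalizer_top
    (le_normalizer_of_normal.trans (normalizer_le_normalizer_piCoreOf _))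
  have h0 : piCore σᶜᶜ (C.map f) = ⊥ := by
    rw [compl_compl, ← map_eq_bot_iff_of_injective _ (C.map f).subtype_injective]
    change piCoreOf σ (C.map f) = ⊥
    have hn : (piCoreOf σ (C.map f)).Normal := normal_of_le_normalizer_top
      (le_normalizer_of_normal.trans (normalizer_le_normalizer_piCoreOf _))
    have h1 : (piCoreOf σ (C.map f)).comap f ≤ Q := by
      refine le_piCoreOf ?_ le_normalizer_of_normal
        (isPiSubgroup_comap_mk' (piCoreOf_isPi C) (piCoreOf_isPi _))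
      refine (comap_mono (piCoreOf_le _)).trans ?_
      rw [comap_map_eq, QuotientGroup.ker_mk']
      exact sup_le le_rfl hQC
    rw [← map_comap_eq_self_of_surjective hfs (piCoreOf σ (C.map f)), Subgroup.map_eq_bot_iff,
      QuotientGroup.ker_mk']
    exact h1
  have hcent : C.map f ⊓ centralizer (M : Set _) ≤ M := by
    rintro x ⟨hx, hc⟩
    exact ⟨⟨x, hx⟩, (PiSep.of_isSolvable inferInstance).centralizer_piCore_le h0
      (mem_centralizer_map_subtype.1 hc), rfl⟩
  have hMD : M ≤ D.map f := by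
    refine le_of_coprime_index (Nat.coprime_of_dvd fun r hr h1 h2 => ?_)
    exact piCoreOf_isPi _ r hr h1 (h2.trans (index_map_dvd D hfs))
  have hkM : f k ∈ centralizer (M : Set _) := by
    intro m hm
    obtain ⟨d, hd, rfl⟩ := hMD hm
    have h1 : d ∈ C := by
      have := hMC hm
      rw [← mem_comap, comap_map_eq, QuotientGroup.ker_mk', sup_eq_left.2 hQC] at this
      exact this
    rw [← map_mul, ← map_mul, hkc d ⟨h1, hd⟩]
  have hCB : C.map f ≤ normalizer ((zpowers (f k) ⊔ M : Subgroup _) : Set _) := by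
    refine le_normalizer_sup_of_commutator_le ?_ le_normalizer_of_normal
    refine le_trans (le_inf (commutator_le_right _ _) ?_) hcent
    exact (commutator_mono (zpowers_le_of_mem hkM) le_rfl).trans (commutator_le_left _ _)
  set B := (zpowers (f k) ⊔ M).comap f with hB
  have hBQ : B ≤ Q ⊔ D := by
    refine (comap_mono (sup_le (zpowers_le_of_mem (mem_map_of_mem f hkD)) hMD)).trans ?_
    rw [comap_map_eq, QuotientGroup.ker_mk', sup_comm]
  have hkB : k ∈ B := mem_sup_left (mem_zpowers (f k))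
  obtain ⟨P, hkP, hP⟩ := IsSylowIn.exists_ge hk (zpowers_le_of_mem hkB)
  rw [eq_top_iff, ← hCD]
  refine sup_le (fun c hc => ?_) le_sup_right
  have h1 : c ∈ normalizer (B : Set G) := by
    refine mem_normalizer_of_conj_mem fun x hx => ?_
    have := conj_mem_of_mem_normalizer (hCB (mem_map_of_mem f hc)) hx
    simpa [hB] using this
  obtain ⟨b, hb, h2⟩ := hP.frattini_elem h1
  have := mul_mem (inv_mem (hBQ hb)) (mem_sup_right (hN P hP.isPGroup (hkP (mem_zpowers k)) h2))
  simpa using this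

theorem exists_complement_in {H C D : Subgroup G} (hH : Group.IsSolvable H) (hC : C ≤ H)
    (hD : D ≤ H) (hn : H ≤ normalizer (C : Set G)) (hCD : H ≤ C ⊔ D)
    (hcop : (Nat.card ↥(C ⊓ D)).Coprime (D.relIndex H)) {ℓ : ℕ} [Fact ℓ.Prime] {k : G}
    (hkD : k ∈ D) (hk : IsPGroup ℓ (zpowers k))
    (hkc : k ∈ centralizer ((C ⊓ D : Subgroup G) : Set G))
    (hN : ∀ B : Subgroup G, B ≤ H → IsPGroup ℓ B → k ∈ B → H ⊓ normalizer (B : Set G) ≤ D) :
    ∃ Q : Subgroup G, Q ≤ H ∧ H ≤ normalizer (Q : Set G) ∧ Q ⊓ D = ⊥ ∧ H ≤ Q ⊔ D := by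
  have := normal_subgroupOf_of_le_normalizer hn
  obtain ⟨Q, hQn, hQ1, hQ2⟩ := exists_complement (G := H) (C := C.subgroupOf H)
    (D := D.subgroupOf H) (ℓ := ℓ) (k := ⟨k, hD hkD⟩) (by
      rwa [← subgroupOf_sup hC hD, subgroupOf_eq_top]) (by
      have : C.subgroupOf H ⊓ D.subgroupOf H = (C ⊓ D).subgroupOf H := rfl
      rwa [this, card_subgroupOf_of_le (inf_le_left.trans hC)]) hkD (by
      refine IsPGroup.of_injective (ϕ := H.subtype.subgroupMap _) ?_ ?_
      · rwa [MonoidHom.map_zpowers]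
      · intro a b e
        have e' := congrArg Subtype.val e
        exact Subtype.ext (Subtype.ext e'))
    (fun x hx => Subtype.ext (hkc x hx)) (fun B hB hkB g hg =>
      hN (B.map H.subtype) (map_subtype_le _) (hB.map _) ⟨_, hkB, rfl⟩
        ⟨g.2, le_normalizer_map _ ⟨g, hg, rfl⟩⟩)
  refine ⟨Q.map H.subtype, map_subtype_le _, fun g hg => le_normalizer_map _
    ⟨⟨g, hg⟩, le_normalizer_of_normal (mem_top _), rfl⟩, ?_, fun g hg => ?_⟩
  · rw [eq_bot_iff]
    rintro _ ⟨⟨x, hx, rfl⟩, hxD⟩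
    have : x ∈ Q ⊓ D.subgroupOf H := ⟨hx, hxD⟩
    rw [hQ1, mem_bot] at this
    rw [this]; exact one_mem _
  · have : (⟨g, hg⟩ : H) ∈ Q ⊔ D.subgroupOf H := hQ2 ▸ mem_top _
    have h1 := mem_map_of_mem H.subtype this
    rwa [Subgroup.map_sup, map_subgroupOf_eq_of_le hD] at h1

end CfsgLib.SE
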