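import Cfsg.Agent.Lib.SE.Basic
import Cfsg.Agent.Lib.ClassSize2
import Cfsg.Agent.Lib.Blk.ZStar

/-! Project SE: counting involutions, Sylow subgroups of two point stabilizers. -/

set_option autoImplicit false

namespace CfsgLib.SE

open Subgroup MulAction Cfsg CfsgLib.Cop CfsgLib.H1

variable {G Ω : Type*} [Group G] [MulAction G Ω]

/-- the number of involutions fixing `α` -/
noncomputable def nJ (G : Type*) [Group G] [MulAction G Ω] (α : Ω) : ℕ :=
  {u : G | IsInv u ∧ u • α = α}.ncard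

theorem nJ_smul (g : G) (α : Ω) : nJ G (g • α) = nJ G α := by
  refine (Set.ncard_congr (fun u _ => g * u * g⁻¹) ?_ ?_ ?_).symm
  · exact fun u hu => ⟨hu.1.conj g, conj_smul_eq hu.2⟩
  · intro a b _ _ h
    simpa using h
  · intro u hu
    refine ⟨g⁻¹ * u * g⁻¹⁻¹, ⟨hu.1.conj _, ?_⟩, by group⟩
    simpa using conj_smul_eq (g := g⁻¹) hu.2

theorem card_inf_mul_relIndex (C D : Subgroup G) :
    Nat.card (D ⊓ C : Subgroup G) * C.relIndex D = Nat.card D := by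
  rw [← inf_relIndex_right, inf_comm C]
  exact card_mul_relIndex inf_le_left

theorem odd_sup [Finite G] {A B : Subgroup G} (hn : A ≤ normalizer (B : Set G))
    (hA : Odd (Nat.card A)) (hB : Odd (Nat.card B)) : Odd (Nat.card ↥(A ⊔ B)) :=
  (hA.mul hB).of_dvd_nat (Dvd.intro _ (card_sup_mul_card_inf hn))

theorem sylow_iff [Finite G] {p : ℕ} [Fact p.Prime] {P H : Subgroup G} :
    IsPiHallOf {p} P H ↔ IsSylowIn p P H := isPiHallOf_singleton_iff

theorem sylow_of_normalizer [Finite G] {p : ℕ} [Fact p.Prime] {P H : Subgroup G}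
    (h : IsSylowIn p P (H ⊓ normalizer (P : Set G))) : IsSylowIn p P H :=
  sylow_iff.1 (sylowOf_of_sylowOf_normalizer (sylow_iff.2 h))

theorem IsInv.zpowers_le {u : G} {X : Subgroup G} (h : u ∈ normalizer (X : Set G)) :
    zpowers u ≤ normalizer (X : Set G) := zpowers_le_of_mem h

theorem IsInv.solv {u : G} {X : Subgroup G} :
    Group.IsSolvable (zpowers u) ∨ Group.IsSolvable X := 
  Or.inl (Group.isSolvable_of_comm fun a b => mul_comm' a b)

theorem centralizer_zpowers (u : G) : centralizer (zpowers u : Set G) = centralizer {u} := by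
  rw [zpowers_eq_closure, centralizer_closure]

/-- invariant Sylow subgroups under an involution -/
theorem IsInv.exists_sylow_ge [Finite G] {p : ℕ} [Fact p.Prime] {u : G} (hu : IsInv u)
    {X U : Subgroup G} (hX : Odd (Nat.card X)) (huX : u ∈ normalizer (X : Set G))
    (hU : IsPGroup p U) (hUX : U ≤ X) (huU : u ∈ normalizer (U : Set G)) :
    ∃ P, IsSylowIn p P X ∧ u ∈ normalizer (P : Set G) ∧ U ≤ P := by
  obtain ⟨P, h1, h2, h3⟩ := exists_invariant_sylowOf_ge (zpowers_le_of_mem huX) (hu.coprime hX)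
    IsInv.solv hU hUX (zpowers_le_of_mem huU)
  exact ⟨P, sylow_iff.1 h1, h2 (mem_zpowers u), h3⟩

theorem IsInv.exists_sylow [Finite G] (p : ℕ) [Fact p.Prime] {u : G} (hu : IsInv u)
    {X : Subgroup G} (hX : Odd (Nat.card X)) (huX : u ∈ normalizer (X : Set G)) :
    ∃ P, IsSylowIn p P X ∧ u ∈ normalizer (P : Set G) := by
  obtain ⟨P, h1, h2, -⟩ := hu.exists_sylow_ge (p := p) hX huX (U := ⊥) IsPGroup.of_bot bot_le
    (le_normalizer_of_normal (mem_top u))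
  exact ⟨P, h1, h2⟩

theorem IsInv.sylow_inf [Finite G] {p : ℕ} [Fact p.Prime] {u : G} (hu : IsInv u)
    {X P : Subgroup G} (hX : Odd (Nat.card X)) (huX : u ∈ normalizer (X : Set G))
    (hP : IsSylowIn p P X) (huP : u ∈ normalizer (P : Set G)) :
    IsSylowIn p (P ⊓ centralizer {u}) (X ⊓ centralizer {u}) := by
  have := sylowOf_inf_centralizer (zpowers_le_of_mem huX) (hu.coprime hX) IsInv.solv
    (sylow_iff.2 hP) (zpowers_le_of_mem huP)
  rw [centralizer_zpowers] at this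
  exact sylow_iff.1 this

/-- `|P : C_P(u)|` is the `p`-part of `|X : C_X(u)|` -/
theorem IsInv.relIndex_sylow [Finite G] {p : ℕ} [hp : Fact p.Prime] {u : G} (hu : IsInv u)
    {X P : Subgroup G} (hX : Odd (Nat.card X)) (huX : u ∈ normalizer (X : Set G))
    (hP : IsSylowIn p P X) (huP : u ∈ normalizer (P : Set G)) :
    (centralizer {u}).relIndex P = p ^ ((centralizer {u}).relIndex X).factorization p := by
  have h1 := card_inf_mul_relIndex (centralizer {u}) P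
  have h2 := card_inf_mul_relIndex (centralizer {u}) X
  rw [(hu.sylow_inf hX huX hP huP).card_eq_ordProj, hP.card_eq_ordProj, ← h2,
    Nat.factorization_mul Nat.card_pos.ne' (fun h => by
      rw [h, mul_zero] at h2; exact Nat.card_pos.ne h2), Finsupp.add_apply, pow_add] at h1
  exact Nat.eq_of_mul_eq_mul_left (pow_pos hp.out.pos _) h1

/-- `X` fixes at least three points -/
def Fix3 (Ω : Type*) [MulAction G Ω] (X : Subgroup G) : Prop :=
  ∃ α β γ : Ω, α ≠ β ∧ α ≠ γ ∧ β ≠ γ ∧ X ≤ stabilizer G α ∧ X ≤ stabilizer G β ∧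
    X ≤ stabilizer G γ

theorem Fix3.mono {X Y : Subgroup G} (h : Fix3 Ω X) (hle : Y ≤ X) : Fix3 Ω Y := by
  obtain ⟨α, β, γ, h1, h2, h3, h4, h5, h6⟩ := h
  exact ⟨α, β, γ, h1, h2, h3, hle.trans h4, hle.trans h5, hle.trans h6⟩

theorem Fix3.exists_third {X : Subgroup G} (h : Fix3 Ω X) (δ ε : Ω) :
    ∃ γ : Ω, γ ≠ δ ∧ γ ≠ ε ∧ X ≤ stabilizer G γ := by
  obtain ⟨α, β, γ, h1, h2, h3, h4, h5, h6⟩ := h
  by_cases a1 : α ≠ δ ∧ α ≠ ε
  · exact ⟨α, a1.1, a1.2, h4⟩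
  by_cases a2 : β ≠ δ ∧ β ≠ ε
  · exact ⟨β, a2.1, a2.2, h5⟩
  refine ⟨γ, ?_, ?_, h6⟩ <;> rintro rfl <;> grind

theorem eq_of_not_fix3 {X : Subgroup G} (h : ¬ Fix3 Ω X) {α β γ : Ω} (h1 : β ≠ α) (h2 : γ ≠ α)
    (h4 : X ≤ stabilizer G α) (h5 : X ≤ stabilizer G β) (h6 : X ≤ stabilizer G γ) : β = γ := by
  by_contra h3
  exact h ⟨α, β, γ, h1.symm, h2.symm, h3, h4, h5, h6⟩

theorem smul_ne_of_fix {g : G} {α β : Ω} (h : g • α = α) (hne : β ≠ α) : g • β ≠ α :=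
  fun e => hne (smul_left_cancel g (e.trans h.symm))

/-- a Sylow subgroup of a two point stabilizer with only two fixed points is a Sylow subgroup of
the point stabilizer -/
theorem sylow_of_not_fix3 [Finite G] {p : ℕ} [Fact p.Prime] {N P : Subgroup G} {α β : Ω}
    (hne : β ≠ α) (hP : IsSylowIn p P (N ⊓ st2 G α β)) (h : ¬ Fix3 Ω P) :
    IsSylowIn p P (N ⊓ stabilizer G α) := by
  have h1 : P ≤ stabilizer G α := hP.le.trans (inf_le_right.trans inf_le_left)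
  have h2 : P ≤ stabilizer G β := hP.le.trans (inf_le_right.trans inf_le_right)
  refine sylow_of_normalizer (hP.mono (le_inf (le_inf (hP.le.trans inf_le_left) h1) le_normalizer)
    ?_)
  rintro g ⟨⟨hgN, hg⟩, hgn⟩
  exact ⟨hgN, hg, eq_of_not_fix3 h (smul_ne_of_fix hg hne) hne h1 (le_stab_smul hgn h2) h2⟩

theorem exists_smul_of_not_fix3 [Finite G] {p : ℕ} [Fact p.Prime] {N P P' : Subgroup G}
    {α β β' : Ω} (hne : β ≠ α) (hne' : β' ≠ α) (hP : IsSylowIn p P (N ⊓ st2 G α β))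
    (h : ¬ Fix3 Ω P) (hP' : IsSylowIn p P' (N ⊓ st2 G α β')) (h' : ¬ Fix3 Ω P') :
    ∃ n ∈ N, n • α = α ∧ n • β = β' := by
  obtain ⟨n, hn, e⟩ := (sylow_of_not_fix3 hne' hP' h').exists_conj_eq (sylow_of_not_fix3 hne hP h)
  refine ⟨n, hn.1, hn.2, eq_of_not_fix3 h' (smul_ne_of_fix hn.2 hne) hne'
    (hP'.le.trans (inf_le_right.trans inf_le_left)) ?_
    (hP'.le.trans (inf_le_right.trans inf_le_right))⟩
  rw [← e]
  exact map_conj_le_stab (hP.le.trans (inf_le_right.trans inf_le_right))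

/-- the `Z*`-theorem inside a subgroup without four-subgroups -/
theorem zstar_of_not_rk2 {G : Type*} [Group G] [Finite G] {N : Subgroup G} (h : ¬ Rk2 N) {z : G}
    (hz : IsInv z) (hzN : z ∈ N) {g : G} (hg : g ∈ N) :
    g * z * g⁻¹ * z⁻¹ ∈ piCoreOf {2}ᶜ N := by
  have : Fact (Nat.Prime 2) := ⟨Nat.prime_two⟩
  have h1 := Blk.glauberman_zstar N ⟨z, hzN⟩ (by rw [← orderOf_coe]; exact hz.orderOf)
    (fun g hc => by
      by_contra h2
      refine h ⟨z, hzN, _, (g * ⟨z, hzN⟩ * g⁻¹).2, hz, hz.conj g, fun e => h2 (Subtype.ext e.symm),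
        congrArg Subtype.val hc.eq⟩) ⟨g, hg⟩
  rw [← map_pPrimeCore_eq_piCoreOf]
  exact ⟨_, h1, rfl⟩

theorem odd_piCoreOf [Finite G] (N : Subgroup G) : Odd (Nat.card (piCoreOf {2}ᶜ N)) := by
  have : Fact (Nat.Prime 2) := ⟨Nat.prime_two⟩
  exact Nat.coprime_two_right.1 (piCoreOf_compl_coprime 2 N)

theorem le_oddCore [Finite G] {N X : Subgroup G} (h1 : X ≤ N) (h2 : N ≤ normalizer (X : Set G))
    (h : Odd (Nat.card X)) : X ≤ piCoreOf {2}ᶜ N := by
  have : Fact (Nat.Prime 2) := ⟨Nat.prime_two⟩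
  exact le_piCoreOf_compl h1 h2 (Nat.coprime_two_right.2 h)

/-- in a group without four-subgroups all involutions agree modulo the odd core -/
theorem inv_mem_of_not_rk2 [Finite G] {N : Subgroup G} (h : ¬ Rk2 N) {z s : G}
    (hz : IsInv z) (hzN : z ∈ N) (hs : IsInv s) (hsN : s ∈ N) :
    s * z⁻¹ ∈ piCoreOf {2}ᶜ N := by
  by_cases ho : Odd (orderOf (z * s))
  · obtain ⟨c, hc, e⟩ := Invol.exists_conj_eq_mul (Invol.inverts_mul hz.1 hs.1) ho
    rw [hz.mul_mul] at e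
    rw [← e]
    exact zstar_of_not_rk2 h hz hzN (zpowers_le_of_mem (mul_mem hzN hsN) hc)
  · obtain ⟨c, hc, hc1, hc2⟩ := Invol.exists_involution_mem_zpowers (Nat.not_odd_iff_even.1 ho)
    have hcN := zpowers_le_of_mem (mul_mem hzN hsN) hc
    have h1 := Invol.inverts_of_mem_zpowers (Invol.inverts_mul hz.1 hs.1) hc
    rw [Invol.inv_eq hc2, mul_inv_eq_iff_eq_mul] at h1
    have h2 : z = c := by
      by_contra h3
      exact h ⟨z, hzN, c, hcN, hz, ⟨hc2, hc1⟩, h3, h1⟩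
    have h3 : s * c = c * s := by
      obtain ⟨n, hn⟩ := hc
      have h4 : (z * s) * c = c * (z * s) := by
        rw [← hn]; exact (Commute.self_zpow (z * s) n).eq
      rw [← h2] at h4 ⊢
      rw [hz.mul_mul] at h4
      calc s * z = z * (z * s * z) := by rw [← mul_assoc, hz.mul_mul]
        _ = z * s := by rw [h4]
    have h4 : s = c := by
      by_contra h4
      exact h ⟨s, hsN, c, hcN, hs, ⟨hc2, hc1⟩, h4, h3⟩
    rw [h4, h2, mul_inv_cancel]
    exact one_mem _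

namespace SEA

variable (S : SEA G Ω)
include S

theorem nJ_eq (α β : Ω) : nJ G α = nJ G β := by
  obtain ⟨g, rfl⟩ := S.trans α β
  exact (nJ_smul g α).symm

theorem card_stab (α β : Ω) : Nat.card (stabilizer G α) = Nat.card (stabilizer G β) := by
  obtain ⟨g, rfl⟩ := S.trans α β
  rw [stab_smul, card_map_of_injective (MulAut.conj g).injective]

variable [Finite G]

theorem finite : Finite Ω := by
  obtain ⟨α, -⟩ := S.nontriv
  exact Finite.of_surjective (fun g : G => g • α) (S.trans α)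

theorem relIndex_cent {u : G} {α β : Ω} (h : α ≠ β) (hu : IsInv u) (h1 : u • α = α)
    {D : Subgroup G} (hD1 : st2 G α β ≤ D) (hD2 : D ≤ stabilizer G α) :
    (centralizer {u}).relIndex D = nJ G α := by
  rw [← Frob.ncard_conj_subgroup, nJ]
  congr 1
  ext v
  constructor
  · rintro ⟨x, hx, rfl⟩
    refine ⟨hu.conj x, ?_⟩
    have := conj_smul_eq (g := x) h1
    rwa [show x • α = α from hD2 hx] at this
  · rintro ⟨hv, h2⟩
    obtain ⟨d, hd, e⟩ := S.exists_conj h hu hv h1 h2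
    exact ⟨d, hD1 hd, e⟩

theorem relIndex_cent_stab {u : G} {α : Ω} (hu : IsInv u) (h1 : u • α = α) :
    (centralizer {u}).relIndex (stabilizer G α) = nJ G α := by
  obtain ⟨β, hβ⟩ := S.exists_ne α
  exact S.relIndex_cent hβ.symm hu h1 inf_le_left le_rfl

theorem relIndex_cent_swap {t : G} {α β : Ω} (h : α ≠ β) (ht : IsInv t) (h1 : t • α = β) :
    (centralizer {t}).relIndex (st2 G α β) = nJ G α := by
  rw [← Frob.ncard_conj_subgroup, S.nJ_eq α β, nJ]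
  obtain ⟨u, hu, hα⟩ := S.exists_inv α
  have key : ∀ s : G, (∃ x ∈ st2 G α β, x * t * x⁻¹ = s) ↔ IsInv s ∧ s • α = β := fun s => by
    constructor
    · rintro ⟨x, hx, rfl⟩
      refine ⟨ht.conj x, ?_⟩
      have h2 : x⁻¹ • α = α := (st2 G α β).inv_mem hx |>.1
      rw [mul_smul, mul_smul, h2, h1]; exact hx.2
    · rintro ⟨hs, h2⟩
      obtain ⟨d, -, hd, e⟩ := S.exists_conj_swap h ht hs h1 h2 (mem_top _)
      exact ⟨d, hd, e⟩
  refine Set.ncard_congr (fun s _ => s * u * s⁻¹) ?_ ?_ ?_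
  · intro s hs
    obtain ⟨hs, h2⟩ := (key s).1 hs
    exact ⟨hu.conj s, h2 ▸ conj_smul_eq hα⟩
  · intro s s' hs hs' e
    obtain ⟨hs, h2⟩ := (key s).1 hs
    obtain ⟨hs', h3⟩ := (key s').1 hs'
    have h4 : s' * s = 1 := by
      refine S.K_fpf h hs h2 ?_ ?_ ?_ hu hα ?_
      · rw [mul_smul, h2, ← h3, hs'.smul_smul]
      · rw [mul_smul, ← h2, hs.smul_smul, h3, h2]
      · simp [hs.inv_eq, hs'.inv_eq, mul_assoc, hs.1]
      · simp only [hs.inv_eq, hs'.inv_eq] at e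
        calc u * (s' * s) = s' * (s' * u * s') * s := by
              simp only [← mul_assoc, hs'.1, one_mul]
          _ = s' * s * u := by rw [← e]; simp only [mul_assoc, hs.1, mul_one]
    rw [← hs'.inv_eq]; exact (inv_eq_of_mul_eq_one_right h4).symm
  · rintro v ⟨hv, h2⟩
    obtain ⟨s, -, hs, e, h3, -⟩ := S.exists_swap_mem hu hv hα h2 h (mem_top _) (mem_top _)
    exact ⟨s, (key s).2 ⟨hs, h3⟩, e⟩

theorem nJ_ne_zero (α : Ω) : nJ G α ≠ 0 := by
  obtain ⟨u, hu, h⟩ := S.exists_inv α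
  rw [← S.relIndex_cent_stab hu h]
  exact FiniteIndex.index_ne_zero

theorem odd_nJ (α : Ω) : Odd (nJ G α) := by
  obtain ⟨u, hu, h⟩ := S.exists_inv α
  obtain ⟨β, hβ⟩ := S.exists_ne α
  rw [← S.relIndex_cent hβ.symm hu h le_rfl inf_le_left]
  exact (S.odd_st2 hβ.symm).of_dvd_nat (relIndex_dvd_card _ _)

theorem nJ_ne_one (h : Rk2 (⊤ : Subgroup G)) (α : Ω) : nJ G α ≠ 1 := by
  obtain ⟨a, ha, b, hb, h1, h2, hne, -⟩ := S.rk2_stab h α
  intro e
  obtain ⟨c, hc⟩ := Set.ncard_eq_one.1 e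
  have h3 : a ∈ ({c} : Set G) := hc ▸ ⟨h1, ha⟩
  have h4 : b ∈ ({c} : Set G) := hc ▸ ⟨h2, hb⟩
  exact hne (h3.trans h4.symm)

theorem exists_prime (h : Rk2 (⊤ : Subgroup G)) (α : Ω) :
    ∃ p : ℕ, p.Prime ∧ p ≠ 2 ∧ p ∣ nJ G α := by
  obtain ⟨p, hp, h1⟩ := Nat.exists_prime_and_dvd (S.nJ_ne_one h α)
  refine ⟨p, hp, ?_, h1⟩
  rintro rfl
  exact (Nat.not_even_iff_odd.2 (S.odd_nJ α)) (even_iff_two_dvd.2 h1)

omit [Finite G] in
theorem st2_inf_cent {z : G} {α β : Ω} (hz : IsInv z) (h1 : z • α = α) :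
    st2 G α β ⊓ centralizer {z} = st2 G β (z • β) ⊓ centralizer {z} := by
  ext c
  constructor
  · rintro ⟨⟨-, h2⟩, h3⟩
    exact ⟨⟨h2, smul_smul_of_comm (mem_centralizer_singleton_iff.1 h3).symm h2⟩, h3⟩
  · rintro ⟨⟨h2, -⟩, h3⟩
    exact ⟨⟨S.cent_le hz h1 h3, h2⟩, h3⟩

theorem card_st2_sigma {z : G} {α β : Ω} (hz : IsInv z) (h1 : z • α = α) (h : β ≠ α) :
    Nat.card (st2 G α β) = Nat.card (st2 G β (z • β)) := by
  rw [← card_inf_mul_relIndex (centralizer {z}) (st2 G α β),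
    ← card_inf_mul_relIndex (centralizer {z}) (st2 G β (z • β)), S.st2_inf_cent hz h1,
    S.relIndex_cent h.symm hz h1 le_rfl inf_le_left,
    S.relIndex_cent_swap (S.smul_ne hz h1 h).symm hz rfl, S.nJ_eq α β]

/-- a Sylow subgroup of a two point stabilizer is normalized by an involution swapping the two
points -/
theorem exists_swap_normalizer {p : ℕ} [Fact p.Prime] {α β : Ω} (h : α ≠ β) {P : Subgroup G}
    (hP : IsSylowIn p P (st2 G α β)) :
    ∃ s ∈ normalizer (P : Set G), IsInv s ∧ s • α = β ∧ s • β = α := by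
  obtain ⟨t, ht, h1, h2⟩ := S.exists_swap h
  obtain ⟨P', hP', h3⟩ := ht.exists_sylow p (S.odd_st2 h) (mem_normalizer_st2 h1 h2)
  obtain ⟨x, hx, rfl⟩ := hP.exists_conj_eq hP'
  have hx' := (st2 G α β).inv_mem hx
  refine ⟨x * t * x⁻¹, ?_, ht.conj x, ?_, ?_⟩
  · rw [normalizer_map_conj]; exact conj_mem_map_conj h3
  · rw [mul_smul, mul_smul, show x⁻¹ • α = α from hx'.1, h1]; exact hx.2
  · rw [mul_smul, mul_smul, show x⁻¹ • β = β from hx'.2, h2]; exact hx.1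

end SEA

/-- `Y` is maximal among the `p`-subgroups with at least three fixed points -/
structure Max3 (Ω : Type*) [MulAction G Ω] (p : ℕ) (Y : Subgroup G) : Prop where
  isPGroup : IsPGroup p Y
  fix3 : Fix3 Ω Y
  max : ∀ Y' : Subgroup G, IsPGroup p Y' → Y ≤ Y' → Fix3 Ω Y' → Y' ≤ Y

theorem exists_max3 [Finite G] {p : ℕ} {X : Subgroup G} (hX : IsPGroup p X) (h : Fix3 Ω X) :
    ∃ Y, X ≤ Y ∧ Max3 Ω p Y := by
  obtain ⟨Y, h1, h2⟩ := exists_maximal_ge_of_wellFoundedGT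
    (fun K : Subgroup G => IsPGroup p K ∧ Fix3 Ω K) X ⟨hX, h⟩
  exact ⟨Y, h1, h2.1.1, h2.1.2, fun Y' a b c => h2.2 ⟨a, c⟩ b⟩

/-- the pair `δ, ε` is of the second type with respect to `Y` -/
def Ty2 (p : ℕ) (Y : Subgroup G) (δ ε : Ω) : Prop :=
  ∃ P, IsSylowIn p P (normalizer (Y : Set G) ⊓ st2 G δ ε) ∧ ¬ Fix3 Ω P

theorem Ty2.exists_smul [Finite G] {p : ℕ} [Fact p.Prime] {Y : Subgroup G} {δ ε ε' : Ω}
    (h : Ty2 p Y δ ε) (h' : Ty2 p Y δ ε') (h1 : ε ≠ δ) (h2 : ε' ≠ δ) :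
    ∃ n ∈ normalizer (Y : Set G), n • δ = δ ∧ n • ε = ε' := by
  obtain ⟨P, hP, h3⟩ := h
  obtain ⟨P', hP', h4⟩ := h'
  exact exists_smul_of_not_fix3 h1 h2 hP h3 hP' h4

theorem Max3.sylow_or [Finite G] {p : ℕ} [Fact p.Prime] {Y : Subgroup G} (hY : Max3 Ω p Y)
    {δ ε : Ω} (h1 : Y ≤ stabilizer G δ) (h2 : Y ≤ stabilizer G ε) :
    IsSylowIn p Y (st2 G δ ε) ∨ Ty2 p Y δ ε := by
  obtain ⟨P, hYP, hP⟩ := IsSylowIn.exists_ge hY.isPGroup
    (le_inf le_normalizer (le_inf h1 h2) : Y ≤ normalizer (Y : Set G) ⊓ st2 G δ ε)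
  by_cases h : Fix3 Ω P
  · left
    obtain rfl := le_antisymm (hY.max P hP.isPGroup hYP h) hYP
    exact sylow_of_normalizer (by rwa [inf_comm])
  · exact Or.inr ⟨P, hP, h⟩

/-- Lemma M: some involution normalizing `Y` fixes a fixed point of `Y`. -/
theorem SEA.exists_inv_max3 [Finite G] (S : SEA G Ω) {p : ℕ} [Fact p.Prime] (hp2 : p ≠ 2)
    {Y : Subgroup G} (hY : Max3 Ω p Y) :
    ∃ w ∈ normalizer (Y : Set G), IsInv w ∧ ∃ δ : Ω, Y ≤ stabilizer G δ ∧ w • δ = δ := by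
  by_contra hcon
  push Not at hcon
  set N := normalizer (Y : Set G) with hN
  have hty : ∀ δ ε : Ω, δ ≠ ε → Y ≤ stabilizer G δ → Y ≤ stabilizer G ε →
      (∀ s ∈ N, IsInv s → s • δ ≠ ε) → Ty2 p Y δ ε := fun δ ε h h1 h2 h3 => by
    refine (hY.sylow_or h1 h2).resolve_left fun hs => ?_
    obtain ⟨s, hs1, hs2, hs3, -⟩ := S.exists_swap_normalizer h hs
    exact h3 s hs1 hs2 hs3
  have hodd : ∀ δ : Ω, Y ≤ stabilizer G δ → Odd (Nat.card ↥(N ⊓ stabilizer G δ)) :=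
    fun δ h => odd_of_forall fun u hu hi => hcon u hu.1 hi δ h hu.2
  by_cases hz : ∃ z ∈ N, IsInv z
  swap
  · push Not at hz
    obtain ⟨α, β, γ, h1, h2, h3, h4, h5, h6⟩ := hY.fix3
    have hty' : ∀ δ ε : Ω, δ ≠ ε → Y ≤ stabilizer G δ → Y ≤ stabilizer G ε → Ty2 p Y δ ε :=
      fun δ ε h a b => hty δ ε h a b fun s hs hi => absurd hi (hz s hs)
    obtain ⟨n, hn, -, e2⟩ := (hty' γ α h2.symm h6 h4).exists_smul (hty' γ β h3.symm h6 h5) h2 h3
    have h7 : n • β ≠ β := fun e => h1 (smul_left_cancel n (e2.trans e.symm))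
    obtain ⟨m, hm, e3, e4⟩ := (hty' β _ h7.symm h5 (le_stab_smul hn h5)).exists_smul
      (hty' β α h1.symm h5 h4) h7 h1
    exact not_odd_of_swap h1 (g := m * n) (by rw [mul_smul, e2, e3]) (by rw [mul_smul, e4])
      (odd_orderOf_of_mem (odd_of_forall hz) (mul_mem hm hn))
  obtain ⟨z, hzN, hz⟩ := hz
  have hrk : ¬ Rk2 N := by
    rintro ⟨a, ha, b, hb, h1, h2, h3, h4⟩
    obtain ⟨ω, hω⟩ := S.fix a h1
    exact hcon a ha h1 ω (S.le_stab_of_four h1 h2 h3 h4 hω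
      (odd_card_of_isPGroup hp2 hY.isPGroup) ha hb) hω
  set O := piCoreOf {2}ᶜ N with hO
  have hON : O ≤ N := piCoreOf_le N
  have hOn : N ≤ normalizer (O : Set G) := le_normalizer_piCoreOf N
  have hodd2 : ∀ δ : Ω, Y ≤ stabilizer G δ → Odd (Nat.card ↥((N ⊓ stabilizer G δ) ⊔ O)) :=
    fun δ h => odd_sup (inf_le_left.trans hOn) (hodd δ h) (odd_piCoreOf N)
  have hfix : ∀ δ : Ω, Y ≤ stabilizer G δ → ∀ o ∈ O, o • δ = δ := by
    intro δ hδ
    have hty' : ∀ o ∈ O, o • δ ≠ δ → Ty2 p Y δ (o • δ) := fun o ho h => by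
      refine hty _ _ h.symm hδ (le_stab_smul (hON ho) hδ) fun s hs hi e => ?_
      refine hi.not_odd ?_ (hodd2 δ hδ)
      have h1 : o⁻¹ * s ∈ N ⊓ stabilizer G δ :=
        ⟨N.mul_mem (N.inv_mem (hON ho)) hs, by
          change (o⁻¹ * s) • δ = δ
          rw [mul_smul, e, inv_smul_smul]⟩
      simpa using mul_mem (mem_sup_right ho) (mem_sup_left h1 : _ ∈ (N ⊓ stabilizer G δ) ⊔ O)
    intro o ho
    by_contra h
    have h' : o⁻¹ • δ ≠ δ := fun e => h (by rw [inv_smul_eq_iff] at e; exact e.symm)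
    obtain ⟨n, hn, e1, e2⟩ := (hty' _ (inv_mem ho) h').exists_smul (hty' o ho h) h' h
    exact not_odd_of_swap (Ne.symm h) (g := n * o⁻¹) (by rw [mul_smul, e2])
      (by rw [mul_smul, inv_smul_smul, e1])
      (odd_orderOf_of_mem (hodd2 δ hδ) (mul_mem_sup ⟨hn, e1⟩ (inv_mem ho)))
  obtain ⟨β, -, -, hβ⟩ := hY.fix3.exists_third (Classical.choice ⟨hY.fix3.choose⟩)
    hY.fix3.choose
  obtain ⟨γ, h1, h2, hγ⟩ := hY.fix3.exists_third β (z • β)
  have hty' : ∀ ε : Ω, ε ≠ β → ε ≠ z • β → Y ≤ stabilizer G ε → Ty2 p Y β ε := fun ε a b c => by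
    refine hty _ _ a.symm hβ c fun s hs hi e => b ?_
    have h3 := hfix _ (le_stab_smul hzN hβ) _ (inv_mem_of_not_rk2 hrk hz hzN hi hs)
    rw [mul_smul, inv_smul_smul, e] at h3
    exact h3
  have h3 : z • γ ≠ β := fun e => h2 (by rw [← e, hz.smul_smul])
  have h4 : z • γ ≠ z • β := fun e => h1 (smul_left_cancel z e)
  obtain ⟨n, hn, e1, e2⟩ := (hty' γ h1 h2 hγ).exists_smul
    (hty' _ h3 h4 (le_stab_smul hzN hγ)) h1 h3
  refine not_odd_of_swap (hcon z hzN hz γ hγ).symm e2 ?_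
    (odd_orderOf_of_mem (hodd β hβ) ⟨hn, e1⟩)
  have h5 := hfix γ hγ _ (zstar_of_not_rk2 hrk hz hzN hn)
  rw [hz.inv_eq, mul_smul, mul_smul, ← e2, inv_smul_smul, mul_smul] at h5
  exact h5

end CfsgLib.SE
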