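import Cfsg.Agent.Lib.SE.Loc

/-! Project SE: the solvable case, first part. -/

set_option autoImplicit false

namespace CfsgLib.SE

open Subgroup MulAction Cfsg CfsgLib.Cop CfsgLib.H1
open scoped commutatorElement

variable {G Ω : Type*} [Group G] [MulAction G Ω] [Finite G]

namespace SEA

variable (S : SEA G Ω)
include S

theorem tc_of_normal {α : Ω} {Q : Subgroup G} (h1 : Q ≤ stabilizer G α)
    (h2 : stabilizer G α ≤ normalizer (Q : Set G)) (hQ : IsPGroup 2 Q) (h : Q ≠ ⊥) : Tc G Ω := by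
  obtain ⟨z, hz, hzi⟩ := exists_inv_center hQ h
  have h3 : ∀ u, IsInv u → u • α = α → u ∈ Q ⊓ centralizer (Q : Set G) := fun u hu hα => by
    obtain ⟨d, hd, rfl⟩ := S.exists_conj_stab hzi hu (h1 hz.1) hα
    exact conj_mem_of_mem_normalizer (le_normalizer_inf h2 (le_normalizer_centralizer h2) hd) hz
  exact tc_of_base S fun u v hu hv a b => (h3 v hv b).2 u (h3 u hu a).1

theorem exists_prime_R (hT : ¬ Tc G Ω) (hs : ∀ ω : Ω, Group.IsSolvable (stabilizer G ω)) :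
    ∃ p : ℕ, p.Prime ∧ p ≠ 2 ∧ ∀ (α : Ω) (u : G), IsInv u → u • α = α →
      ¬ pCoreOf p (stabilizer G α) ≤ centralizer {u} := by
  have : Fact (Nat.Prime 2) := ⟨Nat.prime_two⟩
  obtain ⟨α, -⟩ := S.nontriv
  obtain ⟨a, ha, h1⟩ := S.exists_inv α
  have h2 : pCoreOf 2 (stabilizer G α) = ⊥ := by
    by_contra h
    exact hT (S.tc_of_normal (pCoreOf_le _) (le_normalizer_pCoreOf _) (pCoreOf_isPGroup _) h)
  have h3 : ¬ fittingOf (stabilizer G α) ≤ centralizer {a} := fun h => by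
    have h4 := inf_centralizer_fittingOf_le (layerIn_eq_bot_of_isSolvable (hs α))
      (mem_inf.2 ⟨h1, mem_cent_of_le h⟩)
    have h5 := le_pCoreOf_of_le_fittingOf (zpowers_le_of_mem h4) (Invol.isPGroup_zpowers ha.1)
    rw [h2] at h5
    exact ha.2 (mem_bot.1 (h5 (mem_zpowers a)))
  by_contra hcon
  push Not at hcon
  refine h3 (fittingOf_le_of_forall fun p hp => ?_)
  by_cases hp2 : p = 2
  · subst hp2; rw [h2]; exact bot_le
  obtain ⟨β, u, hu, h4, h5⟩ := hcon p hp.out hp2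
  obtain ⟨g, rfl⟩ := S.exists_conj_top hu ha
  rw [S.uniq _ ha _ _ h1 (conj_smul_eq h4), stab_smul, pCoreOf_map_conj]
  rintro _ ⟨x, hx, rfl⟩
  have := mem_centralizer_singleton_iff.1 (h5 hx)
  exact mem_centralizer_singleton_iff.2 (by
    change g * x * g⁻¹ * _ = _ * (g * x * g⁻¹)
    rw [conj_mul, conj_mul, this])

theorem rk2_inf {M : Subgroup G} {z : G} {α : Ω} (hz : IsInv z) (hzM : z ∈ M) (h1 : z • α = α)
    (h : Rk2 M) : Rk2 (M ⊓ stabilizer G α) := by
  obtain ⟨a, ha, b, hb, h2, h3, h4, h5⟩ := h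
  obtain ⟨γ, h6⟩ := S.fix a h2
  have h7 := S.fix_of_comm h2 h6 h5.symm
  by_cases e : γ = α
  · subst e; exact ⟨a, ⟨ha, h6⟩, b, ⟨hb, h7⟩, h2, h3, h4, h5⟩
  obtain ⟨t, ht, -, -, rfl, -⟩ := S.exists_swap_mem h2 hz h6 h1 e ha hzM
  exact ⟨_, ⟨M.mul_mem (M.mul_mem ht ha) (M.inv_mem ht), conj_smul_eq h6⟩, _,
    ⟨M.mul_mem (M.mul_mem ht hb) (M.inv_mem ht), conj_smul_eq h7⟩, h2.conj t, h3.conj t,
    fun e => h4 (by simpa using e), by rw [conj_mul, conj_mul, h5]⟩

/-- the involutions of a subgroup not fixing `α` and containing an involution fixing `α` are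
conjugate -/
theorem exists_conj_in {M : Subgroup G} {α : Ω} {m : G} (hm : m ∈ M) (h : m • α ≠ α) {a u : G}
    (ha : IsInv a) (haM : a ∈ M) (h1 : a • α = α) (hu : IsInv u) (huM : u ∈ M) :
    ∃ d ∈ M, d * a * d⁻¹ = u := by
  obtain ⟨γ, h2⟩ := S.fix u hu
  by_cases e : α = γ
  · subst e
    obtain ⟨d, hd, -, e⟩ := S.exists_conj_mem h.symm ha hu h1 h2 haM huM (ha.conj m)
      (conj_smul_eq h1) (mul_mem (mul_mem hm haM) (inv_mem hm))
    exact ⟨d, hd, e⟩
  · obtain ⟨t, ht, -, e, -⟩ := S.exists_swap_mem ha hu h1 h2 e haM huM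
    exact ⟨t, ht, e⟩

theorem max_stab (hr : Rk2 (⊤ : Subgroup G)) (ih : IH G Ω) {α : Ω} {M : Subgroup G}
    (h : stabilizer G α ≤ M) (hM : M ≠ ⊤) : M ≤ stabilizer G α := by
  by_contra h1
  have hc := ih M α hM ((S.rk2_stab hr α).mono (le_inf h le_rfl)) h1
  obtain ⟨a, ha, h2⟩ := S.exists_inv α
  obtain ⟨m, hm, hm'⟩ := SetLike.not_le_iff_exists.1 h1
  have S' : SEA G (G ⧸ M) := sea_quot hM ha (h h2) fun u g hu b c => by
    obtain ⟨d, hd, rfl⟩ := S.exists_conj_in hm hm' ha (h h2) h2 hu b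
    obtain ⟨e, he, h3⟩ := S.exists_conj_in hm hm' ha (h h2) h2 ((ha.conj d).conj g) c
    have h4 : e⁻¹ * g * d ∈ M := h (S.cent_le ha h2 (mem_centralizer_singleton_iff.2 (by
      calc e⁻¹ * g * d * a = e⁻¹ * (g * (d * a * d⁻¹) * g⁻¹) * g * d := by group
        _ = _ := by rw [← h3]; group)))
    simpa [mul_assoc] using mul_mem (mul_mem he h4) (inv_mem hd)
  obtain ⟨β, hβ⟩ := S'.exists_ne ((1 : G) : G ⧸ M)
  refine hc.c3 (st2 G ((1 : G) : G ⧸ M) β) (inf_le_left.trans (stab_quot_one M).le)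
    (S'.odd_st2 hβ.symm) fun u hu v hv a b => ?_
  exact S'.exists_conj hβ.symm a b ((stab_quot_one M).ge hu) ((stab_quot_one M).ge hv)

theorem eq_of_le (hr : Rk2 (⊤ : Subgroup G)) (ih : IH G Ω) {α β : Ω} {M : Subgroup G}
    (hM : M ≠ ⊤) (h1 : stabilizer G α ≤ M) (h2 : stabilizer G β ≤ M) : α = β := by
  obtain ⟨u, hu, h⟩ := S.exists_inv β
  exact S.uniq u hu _ _ (S.max_stab hr ih h1 hM (h2 h)) h

theorem exists_E' {α : Ω} (hs : Group.IsSolvable (stabilizer G α)) :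
    ∃ E : Subgroup G, piCoreOf {2}ᶜ (stabilizer G α) ≤ E ∧ E ≤ stabilizer G α ∧
      stabilizer G α ≤ normalizer (E : Set G) ∧ (∀ u ∈ stabilizer G α, IsInv u → u ∈ E) ∧
      ∀ x ∈ E, ∀ y ∈ E, ⁅x, y⁆ ∈ piCoreOf {2}ᶜ (stabilizer G α) := by
  obtain ⟨a, ha, h⟩ := S.exists_inv α
  exact exists_E hs ha h fun u hu v hv a b => S.exists_conj_stab a b hu hv

theorem mem_oddCore {α : Ω} (hs : Group.IsSolvable (stabilizer G α)) {u y : G} (hu : IsInv u)
    (h1 : u • α = α) (h2 : y • α = α) (hy : Odd (orderOf y)) (e : u * y * u⁻¹ = y⁻¹) :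
    y ∈ piCoreOf {2}ᶜ (stabilizer G α) := by
  obtain ⟨E, -, -, -, h3, h4⟩ := S.exists_E' hs
  by_cases hy1 : u * y = 1
  · have : y = u := by rw [← hu.inv_eq]; exact (inv_eq_of_mul_eq_one_right hy1).symm
    rw [this, hu.orderOf] at hy
    exact absurd hy (by decide)
  have h5 := h4 u (h3 u h1 hu) (u * y) (h3 _ (mul_mem (show u ∈ stabilizer G α from h1) h2)
    ⟨Invol.mul_mul_self hu.1 e, hy1⟩)
  have h6 : ⁅u, u * y⁆ = y * y := by
    have e' : u * y⁻¹ * u⁻¹ = y := by rw [← conj_inv, e, inv_inv]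
    rw [commutatorElement_def, hu.mul_mul, mul_inv_rev]
    calc y * u⁻¹ * (y⁻¹ * u⁻¹) = y * (u * y⁻¹ * u⁻¹) := by rw [hu.inv_eq]; group
      _ = y * y := by rw [e']
  rw [h6] at h5
  obtain ⟨m, hm⟩ := hy
  have h7 : y = (y * y) ^ (m + 1) := by
    rw [← pow_two, ← pow_mul, show 2 * (m + 1) = (2 * m + 1) + 1 by ring, pow_succ, ← hm,
      pow_orderOf_eq_one, one_mul]
  rw [h7]; exact pow_mem h5 _

end SEA

/-- the situation of a minimal counterexample -/
structure Ctx (G Ω : Type*) [Group G] [MulAction G Ω] (p : ℕ) : Prop where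
  S : SEA G Ω
  hr : Rk2 (⊤ : Subgroup G)
  hs : ∀ ω : Ω, Group.IsSolvable (stabilizer G ω)
  ih : IH G Ω
  hp2 : p ≠ 2
  hR : ∀ (α : Ω) (u : G), IsInv u → u • α = α → ¬ pCoreOf p (stabilizer G α) ≤ centralizer {u}

/-- `y ∈ O_p(G_α)` is inverted by `z` and `C(y) ≤ G_α` -/
structure Good (p : ℕ) (α : Ω) (z y : G) : Prop where
  mem : y ∈ pCoreOf p (stabilizer G α)
  ne : y ≠ 1
  inv : z * y * z⁻¹ = y⁻¹
  cent : centralizer {y} ≤ stabilizer G α

namespace Ctx

variable {p : ℕ} [hp : Fact p.Prime] (C : Ctx G Ω p)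
include C

theorem odd_R (α : Ω) : Odd (Nat.card (pCoreOf p (stabilizer G α))) :=
  odd_card_of_isPGroup C.hp2 (pCoreOf_isPGroup _)

theorem exists_good {α : Ω} {z : G} (hz : IsInv z) (h : z • α = α) : ∃ y, Good p α z y := by
  obtain ⟨b, hb, h1, h2⟩ := C.S.exists_comm C.hr hz
  have hbα : b • α = α := C.S.fix_of_comm hz h h2.symm
  have hn := le_normalizer_pCoreOf (p := p) (stabilizer G α)
  have key : ∀ v, IsInv v → v * z = z * v →
      ¬ pCoreOf p (stabilizer G α) ⊓ centralizer {v} ≤ centralizer {z} → ∃ y, Good p α z y := by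
    intro v hv h3 h4
    obtain ⟨y, hy, hy1, e⟩ := exists_inverted hz (X := pCoreOf p (stabilizer G α) ⊓ centralizer {v})
      (le_normalizer_inf (H := zpowers z) (zpowers_le_of_mem (hn h))
        (zpowers_le_of_mem (le_normalizer (mem_centralizer_singleton_iff.2 h3.symm)))
        (mem_zpowers z)) h4
    exact ⟨y, hy.1, hy1, e, C.S.cent_le_of_inverts (odd_orderOf_of_mem (C.odd_R α) hy.1) hy1 hz hv
      h e (mem_centralizer_singleton_iff.1 hy.2).symm⟩
  by_contra hcon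
  refine C.hR α z hz h (le_of_four hz hb h1 h2 (C.odd_R α) (hn h) (hn hbα) inf_le_right ?_ ?_)
  · by_contra h3
    exact hcon (key b hb h2.symm h3)
  · by_contra h3
    exact hcon (key _ (isInv_mul hz hb h1 h2) (by rw [mul_assoc, h2]) h3)

theorem cent_R_le (α : Ω) : centralizer (pCoreOf p (stabilizer G α) : Set G) ≤ stabilizer G α := by
  obtain ⟨z, hz, h⟩ := C.S.exists_inv α
  obtain ⟨y, hy⟩ := C.exists_good hz h
  exact (centralizer_le (Set.singleton_subset_iff.2 hy.mem)).trans hy.cent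

theorem sig {α : Ω} {z y : G} (hz : IsInv z) (h : z • α = α) (hy : Good p α z y) {X : Subgroup G}
    (hX : Odd (Nat.card X)) (hc : (Nat.card X).Coprime p) (h1 : y ∈ normalizer (X : Set G))
    (h2 : z ∈ normalizer (X : Set G)) : X ≤ stabilizer G α := by
  have hyp : IsPGroup p (zpowers y) := (pCoreOf_isPGroup _).to_le (zpowers_le_of_mem hy.mem)
  refine (le_cent_of_dihedral hz (odd_orderOf_of_mem (C.odd_R α) hy.mem) hy.inv hX ?_ h1 h2
    fun x hx => ?_).trans hy.cent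
  · rw [← Nat.card_zpowers]; exact (coprime_card_of_isPGroup hc hyp).symm
  · rw [mem_centralizer_singleton_iff, ← commutatorElement_eq_one_iff_mul_comm]
    refine disjoint_def.1 (H5.disjoint_of_isPGroup_of_coprime (pCoreOf_isPGroup (stabilizer G α))
      hc) ?_ ?_
    · exact mul_mem (conj_mem_of_mem_normalizer (le_normalizer_pCoreOf _ (C.S.cent_le hz h hx.2))
        hy.mem) (inv_mem hy.mem)
    · rw [commutatorElement_def, mul_assoc, mul_assoc, ← mul_assoc y]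
      exact mul_mem hx.1 (conj_mem_of_mem_normalizer h1 (inv_mem hx.1))

/-- a `p'`-subgroup of `G_α` normalized by `O_p(G_α)` has odd order -/
theorem odd_of_norm {α : Ω} {U : Subgroup G} (h1 : U ≤ stabilizer G α)
    (h2 : pCoreOf p (stabilizer G α) ≤ normalizer (U : Set G)) (hc : (Nat.card U).Coprime p) :
    Odd (Nat.card U) ∧ U ≤ centralizer (pCoreOf p (stabilizer G α) : Set G) := by
  have h3 : U ≤ centralizer (pCoreOf p (stabilizer G α) : Set G) :=
    commutator_eq_bot_iff_le_centralizer.1 (commutator_eq_bot_of_coprime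
      (h1.trans (le_normalizer_pCoreOf _)) h2 (coprime_card_of_isPGroup hc (pCoreOf_isPGroup _)))
  exact ⟨odd_of_forall fun u hu hi => C.hR α u hi (h1 hu) (le_cent_of_mem (h3 hu)), h3⟩

theorem four {α : Ω} {P : Subgroup G} (hP : IsSylowIn p P (stabilizer G α)) :
    Rk2 (normalizer (dSub P : Set G) ⊓ stabilizer G α) := by
  obtain ⟨E, -, h2, h3, h4, h5⟩ := C.S.exists_E' (C.hs α)
  have hX : P ⊔ E ≤ stabilizer G α := sup_le hP.le h2
  have h6 := fact C.hp2 (isSolvable_of_le (C.hs α) hX) (abTwo_sup (odd_piCoreOf _)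
    (odd_card_of_isPGroup C.hp2 hP.isPGroup) (hP.le.trans h3) h5) (hP.mono le_sup_left hX)
  have h7 := (C.odd_of_norm ((piCoreOf_le _).trans hX) (((pCoreOf_le_sylow hP).trans
    le_sup_left).trans (le_normalizer_piCoreOf (P ⊔ E))) (piCoreOf_compl_coprime p _)).1
  have h8 : Rk2 (P ⊔ E) := by
    obtain ⟨a, ha, b, hb, h8, h9, h⟩ := C.S.rk2_stab C.hr α
    exact ⟨a, mem_sup_right (h4 a ha h8), b, mem_sup_right (h4 b hb h9), h8, h9, h⟩
  refine (h8.of_odd_relIndex (N := (P ⊔ E) ⊓ normalizer (dSub P : Set G)) inf_le_left ?_).mono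
    (le_inf inf_le_right (inf_le_left.trans hX))
  set N := (P ⊔ E) ⊓ normalizer (dSub P : Set G)
  set U := piCoreOf {p}ᶜ (P ⊔ E)
  have h9 : N ⊔ U = P ⊔ E :=
    le_antisymm (sup_le inf_le_left (piCoreOf_le _)) (h6.trans (sup_comm _ _).le)
  have h10 := card_sup_mul_card_inf (H := N) (N := U)
    (inf_le_left.trans (le_normalizer_piCoreOf _))
  rw [h9, ← card_mul_relIndex (inf_le_left : N ≤ P ⊔ E), mul_assoc] at h10
  exact h7.of_dvd_nat (Dvd.intro _ (Nat.eq_of_mul_eq_mul_left Nat.card_pos h10))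

theorem inverted_mem {α β : Ω} {z : G} (hz : IsInv z) (h : z • α = α) (hne : β ≠ α)
    {P : Subgroup G} (hP : IsSylowIn p P (st2 G β (z • β))) (hPα : P ≤ stabilizer G α)
    (hzP : z ∈ normalizer (P : Set G)) {y : G} (hy : y ∈ pCoreOf p (stabilizer G α))
    (e : z * y * z⁻¹ = y⁻¹) : y ∈ P := by
  set O := piCoreOf {2}ᶜ (stabilizer G α) with hO
  set R := pCoreOf p (stabilizer G α) with hR
  have hOn : stabilizer G α ≤ normalizer (O : Set G) := le_normalizer_piCoreOf _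
  have hRn : stabilizer G α ≤ normalizer (R : Set G) := le_normalizer_pCoreOf _
  have hX : Odd (Nat.card ↥(P ⊔ O)) := odd_sup (hPα.trans hOn)
    (odd_card_of_isPGroup C.hp2 hP.isPGroup) (odd_piCoreOf _)
  have hXα : P ⊔ O ≤ stabilizer G α := sup_le hPα (piCoreOf_le _)
  have hzX : z ∈ normalizer ((P ⊔ O : Subgroup G) : Set G) :=
    le_normalizer_sup (H := zpowers z) (zpowers_le_of_mem hzP) (zpowers_le_of_mem (hOn h))
      (mem_zpowers z)
  obtain ⟨T, hT, hzT, hPT⟩ := hz.exists_sylow_ge hX hzX (U := P ⊔ R)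
    (isPGroup_sup_of_le_normalizer hP.isPGroup (pCoreOf_isPGroup _) (hPα.trans hRn))
    (sup_le_sup_left (le_oddCore (pCoreOf_le _) hRn (C.odd_R α)) _)
    (le_normalizer_sup (H := zpowers z) (zpowers_le_of_mem hzP) (zpowers_le_of_mem (hRn h))
      (mem_zpowers z))
  have hβ : β ≠ z • β := (C.S.smul_ne hz h hne).symm
  have h1 := hz.relIndex_sylow (C.S.odd_st2 hβ) (mem_normalizer_st2 rfl (hz.smul_smul β)) hP hzP
  rw [C.S.relIndex_cent_swap hβ hz rfl, C.S.nJ_eq β α] at h1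
  have h2 := hz.relIndex_sylow hX hzX hT hzT
  have h3 : (centralizer {z}).relIndex (P ⊔ O) = (centralizer {z}).relIndex O := by
    rw [← Frob.ncard_conj_subgroup, ← Frob.ncard_conj_subgroup]
    congr 1
    ext v
    refine ⟨?_, fun ⟨x, hx, e⟩ => ⟨x, mem_sup_right hx, e⟩⟩
    rintro ⟨x, hx, rfl⟩
    have h4 : z * (x * z * x⁻¹) ∈ P ⊔ O := by
      rw [← hz.inv_eq, ← mul_assoc, ← mul_assoc, hz.inv_eq]
      nth_rw 2 [← hz.inv_eq]
      exact mul_mem (conj_mem_of_mem_normalizer hzX hx) (inv_mem hx)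
    have h5 := Invol.inverts_mul hz.1 (hz.conj x).1
    obtain ⟨c, hc, e⟩ := Invol.exists_conj_eq_mul h5 (odd_orderOf_of_mem hX h4)
    rw [hz.mul_mul] at e
    exact ⟨c, zpowers_le_of_mem (C.S.mem_oddCore (C.hs α) hz h (hXα h4)
      (odd_orderOf_of_mem hX h4) h5) hc, e⟩
  have h4 : (centralizer {z}).relIndex O ∣ nJ G α := by
    have := normal_subgroupOf_of_le_normalizer hOn
    rw [← C.S.relIndex_cent_stab hz h, ← relIndex_subgroupOf (piCoreOf_le _)]
    exact OrbitRep.relIndex_dvd_index_of_normal_right _ _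
  have h5 : (centralizer {z}).relIndex T ≤ (centralizer {z}).relIndex P := by
    rw [h1, h2, h3]
    exact Nat.pow_le_pow_right hp.out.pos ((Nat.factorization_le_iff_dvd
      (ne_zero_of_dvd_ne_zero (C.S.nJ_ne_zero α) h4) (C.S.nJ_ne_zero α)).2 h4 p)
  rw [← Frob.ncard_conj_subgroup, ← Frob.ncard_conj_subgroup] at h5
  have h6 := Set.eq_of_subset_of_ncard_le (s := {y : G | ∃ x ∈ P, x * z * x⁻¹ = y})
    (t := {y : G | ∃ x ∈ T, x * z * x⁻¹ = y}) (fun v ⟨x, hx, e⟩ => ⟨x, hPT (mem_sup_left hx), e⟩) h5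
  obtain ⟨c, hc, e1⟩ := Invol.exists_conj_eq_mul e (odd_orderOf_of_mem (C.odd_R α) hy)
  obtain ⟨x, hx, e2⟩ : z * y ∈ {y : G | ∃ x ∈ P, x * z * x⁻¹ = y} := by
    rw [h6]; exact ⟨c, hPT (mem_sup_right (zpowers_le_of_mem hy hc)), e1⟩
  have h7 : y = (z * x * z⁻¹) * x⁻¹ := by
    rw [← hz.mul_mul y, ← e2, hz.inv_eq]; group
  rw [h7]
  exact mul_mem (conj_mem_of_mem_normalizer hzP hx) (inv_mem hx)

end Ctx

end CfsgLib.SE
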