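import Cfsg.Agent.Lib.SE.Quot
import Cfsg.Agent.Lib.FT.BG12c

/-! Project SE: local lemmas for the solvable case. -/

set_option autoImplicit false

namespace CfsgLib.SE

open Subgroup MulAction Cfsg CfsgLib.Cop CfsgLib.H1
open scoped commutatorElement

variable {G : Type*} [Group G] [Finite G]

theorem dSub_map {G' : Type*} [Group G'] [Finite G'] {P : Subgroup G} (f : G →* G')
    (hf : ∀ x ∈ P, f x = 1 → x = 1) : dSub (P.map f) = (dSub P).map f := by
  have inj : ∀ x ∈ P, ∀ y ∈ P, f x = f y → x = y := fun x hx y hy e => by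
    have := hf (x * y⁻¹) (mul_mem hx (inv_mem hy)) (by rw [map_mul, map_inv, e, mul_inv_cancel])
    exact mul_inv_eq_one.1 this
  have hcomm : ∀ x ∈ P, ∀ y ∈ P, ⁅x, y⁆ ∈ P := fun x hx y hy =>
    mul_mem (mul_mem (mul_mem hx hy) (inv_mem hx)) (inv_mem hy)
  refine le_antisymm ?_ (DFam.le_dSub ?_)
  · have hD := dFam_dSub (P.map f)
    have h1 : DFam P ((dSub (P.map f)).comap f ⊓ P) := by
      refine ⟨inf_le_right, fun x hx y hy => inj _ (mul_mem hy.2 hx.2) _ (mul_mem hx.2 hy.2) ?_,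
        fun x hx => mem_normalizer_of_conj_mem fun y hy => ⟨?_, ?_⟩, fun x hx hq y hy =>
          inj _ (mul_mem hy.2 hx) _ (mul_mem hx hy.2) ?_⟩
      · rw [map_mul, map_mul]; exact hD.2.1 hx.1 _ hy.1
      · have := conj_mem_of_mem_normalizer (hD.2.2.1 (mem_map_of_mem f hx)) hy.1
        simpa using this
      · exact P.mul_mem (P.mul_mem hx hy.2) (P.inv_mem hx)
      · rw [map_mul, map_mul]
        refine hD.2.2.2 _ (mem_map_of_mem f hx) (fun a ha => ?_) _ hy.1
        obtain ⟨b, hb, rfl⟩ := hD.1 ha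
        rw [← map_commutatorElement, ← map_commutatorElement, hq b ⟨ha, hb⟩, map_one]
    intro a ha
    obtain ⟨b, hb, rfl⟩ := hD.1 ha
    exact mem_map_of_mem f (h1.le_dSub ⟨ha, hb⟩)
  · have hD := dFam_dSub P
    refine ⟨map_mono hD.1, ?_, map_normalizer_le' hD.2.2.1 f, ?_⟩
    · rintro _ ⟨x, hx, rfl⟩ _ ⟨y, hy, rfl⟩
      rw [← map_mul, ← map_mul, hD.2.1 hx y hy]
    · rintro _ ⟨x, hx, rfl⟩ hq _ ⟨y, hy, rfl⟩
      rw [← map_mul, ← map_mul, hD.2.2.2 x hx (fun a ha => hf _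
        (hcomm _ hx _ (hcomm _ hx _ (hD.1 ha))) (by
          rw [map_commutatorElement, map_commutatorElement]; exact hq _ (mem_map_of_mem f ha))) y hy]

theorem fact_top {p : ℕ} [Fact p.Prime] (hp2 : p ≠ 2) (hs : Group.IsSolvable G) (h2 : AbTwo G)
    {P : Subgroup G} (hP : IsSylowIn p P ⊤) :
    ⊤ ≤ pPrimeCore p G ⊔ normalizer (dSub P : Set G) := by
  set f := QuotientGroup.mk' (pPrimeCore p G) with hf
  have hfs : Function.Surjective f := QuotientGroup.mk'_surjective _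
  have hker : (Nat.card f.ker).Coprime p := by
    rw [QuotientGroup.ker_mk']; exact pPrimeCore_coprime p
  have hP' := hP.map f
  rw [map_top_of_surjective f hfs] at hP'
  have h0 : pPrimeCore p (G ⧸ pPrimeCore p G) = ⊥ := pPrimeCore_quotient_pPrimeCore p
  have hc : CharIn p (⊤ : Subgroup (G ⧸ pPrimeCore p G)) := by
    unfold CharIn
    rw [pCoreOf_top, top_inf_eq]
    exact centralizer_pCore_le (isPSolvable_of_isSolvable inferInstance) h0
  have h1 := (stableIn_of_abTwo hp2 ((h2.of_surjective f hfs).of_injective _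
    (subtype_injective ⊤))).le_normalizer_dSub hc hP'
  rw [dSub_map f fun x hx e => disjoint_def.1
    (H5.disjoint_of_isPGroup_of_coprime hP.isPGroup hker) hx e] at h1
  intro g _
  obtain ⟨n, hn, e⟩ := H5.normalizer_map_le_of_coprime f hfs hker
    (hP.isPGroup.to_le (dSub_le P)) (h1 (mem_top (f g)))
  have h3 : g * n⁻¹ ∈ pPrimeCore p G := by
    rw [← QuotientGroup.ker_mk' (pPrimeCore p G), MonoidHom.mem_ker, map_mul, map_inv, ← hf, e,
      mul_inv_cancel]
  simpa using mul_mem_sup h3 hn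

/-- the Glauberman--Solomon factorization of a solvable group with abelian Sylow `2`-subgroups -/
theorem fact {p : ℕ} [Fact p.Prime] (hp2 : p ≠ 2) {X P : Subgroup G} (hs : Group.IsSolvable X)
    (h2 : AbTwo X) (hP : IsSylowIn p P X) :
    X ≤ piCoreOf {p}ᶜ X ⊔ (X ⊓ normalizer (dSub P : Set G)) := by
  have h1 := hP.subgroupOf le_rfl
  rw [subgroupOf_self] at h1
  have h3 := map_mono (f := X.subtype) (fact_top hp2 hs h2 h1)
  rw [← MonoidHom.range_eq_map, range_subtype, Subgroup.map_sup, map_pPrimeCore_eq_piCoreOf] at h3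
  refine h3.trans (sup_le_sup_left (le_inf (map_subtype_le _) ?_) _)
  have h4 := dSub_map (P := P.subgroupOf X) X.subtype fun x _ e => Subtype.ext e
  rw [map_subgroupOf_eq_of_le hP.le] at h4
  rw [h4]
  exact le_normalizer_map _

theorem abTwo_of_odd {X : Subgroup G} (h : Odd (Nat.card X)) : AbTwo X := fun Q hQ => by
  have : Fact (Nat.Prime 2) := ⟨Nat.prime_two⟩
  have : Q = ⊥ := H5.eq_bot_of_isPGroup_of_coprime hQ
    (Nat.coprime_two_right.2 (h.of_dvd_nat (card_subgroup_dvd_card Q)))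
  rw [this]; infer_instance

/-- a dihedral group `⟨y, z⟩` acting on `X` with `C_X(z) ≤ C_X(y)` -/
theorem le_cent_of_dihedral {y z : G} (hz : IsInv z) (hy : Odd (orderOf y))
    (e : z * y * z⁻¹ = y⁻¹) {X : Subgroup G} (hX : Odd (Nat.card X))
    (hc : (orderOf y).Coprime (Nat.card X)) (h1 : y ∈ normalizer (X : Set G))
    (h2 : z ∈ normalizer (X : Set G)) (h : X ⊓ centralizer {z} ≤ centralizer {y}) :
    X ≤ centralizer {y} := by
  have h3 := FT.Frobenius_Wielandt_fixpoint (K := zpowers y) (R := zpowers z) (M := X)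
    (zpowers_le_of_mem (mem_normalizer_of_conj_mem fun x hx =>
      Invol.inverts_of_mem_zpowers e hx ▸ inv_mem hx)) (fun x hx hx1 => ?_)
    (zpowers_le_of_mem h1) (zpowers_le_of_mem h2) (FT.feit_thompson hX)
    (by rwa [Nat.card_zpowers]) (hz.coprime hX)
  · rw [centralizer_sup', centralizer_zpowers, centralizer_zpowers, inf_comm (centralizer {y}),
      ← inf_assoc, inf_eq_left.2 h] at h3
    have h4 := Nat.eq_of_mul_eq_mul_left (pow_pos Nat.card_pos _) h3
    exact inf_eq_left.1 (eq_of_le_of_card_le inf_le_left h4.le)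
  · have h4 : x = z := by
      obtain ⟨n, rfl⟩ := hx
      have h5 : z ^ (2 : ℤ) = 1 := by rw [zpow_two, hz.1]
      rcases Int.even_or_odd' n with ⟨k, rfl | rfl⟩
      · exact absurd (by simp only [zpow_mul, h5, one_zpow]) hx1
      · simp only [zpow_add, zpow_mul, h5, one_zpow, one_mul, zpow_one]
    subst h4
    refine FT.semiregular_of_fpf fun g hg e1 => ?_
    have h5 := Invol.inverts_of_mem_zpowers e hg
    rw [e1, mul_inv_cancel_right] at h5
    refine Invol.eq_one_of_odd (hy.of_dvd_nat (orderOf_dvd_of_mem_zpowers hg)) ?_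
    nth_rw 2 [h5]; exact mul_inv_cancel g

theorem exists_inv_center {Q : Subgroup G} (hQ : IsPGroup 2 Q) (h : Q ≠ ⊥) :
    ∃ z ∈ Q ⊓ centralizer (Q : Set G), IsInv z := by
  have : Fact (Nat.Prime 2) := ⟨Nat.prime_two⟩
  by_contra h1
  push Not at h1
  exact H5.centerOf_ne_bot hQ h (H5.eq_bot_of_isPGroup_of_coprime (hQ.to_le inf_le_left)
    (Nat.coprime_two_right.2 (odd_of_forall h1)))

theorem lift_inv {G' : Type*} [Group G'] {f : G →* G'} (hf : Odd (Nat.card f.ker)) {x : G}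
    (hg : IsInv (f x)) : ∃ u : G, IsInv u ∧ f u = f x := by
  obtain ⟨n, hn⟩ := odd_orderOf_of_mem hf (x := x * x) (by rw [MonoidHom.mem_ker, map_mul, hg.1])
  have h1 : f (x ^ (2 * n + 1)) = f x := by
    rw [map_pow, pow_succ, pow_mul, pow_two, hg.1, one_pow, one_mul]
  refine ⟨x ^ (2 * n + 1), ⟨?_, fun e => hg.2 (by rw [← h1, e, map_one])⟩, h1⟩
  rw [← (Commute.refl x).mul_pow, ← hn, pow_orderOf_eq_one]

/-- a solvable group of even order with one class of involutions: the involutions generate an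
abelian group modulo the odd core -/
theorem exists_E {H : Subgroup G} (hs : Group.IsSolvable H) {a : G} (ha : IsInv a) (haH : a ∈ H)
    (hc : ∀ u ∈ H, ∀ v ∈ H, IsInv u → IsInv v → ∃ d ∈ H, d * u * d⁻¹ = v) :
    ∃ E : Subgroup G, piCoreOf {2}ᶜ H ≤ E ∧ E ≤ H ∧ H ≤ normalizer (E : Set G) ∧
      (∀ u ∈ H, IsInv u → u ∈ E) ∧ ∀ x ∈ E, ∀ y ∈ E, ⁅x, y⁆ ∈ piCoreOf {2}ᶜ H := by
  have : Fact (Nat.Prime 2) := ⟨Nat.prime_two⟩
  set O := piCore {2}ᶜ H with hO
  set f := QuotientGroup.mk' O with hf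
  have hfs : Function.Surjective f := QuotientGroup.mk'_surjective _
  have hker : Odd (Nat.card f.ker) := by
    rw [QuotientGroup.ker_mk', ← card_map_subtype]; exact odd_piCoreOf H
  have h0 : pCore 2 (H ⧸ O) ≠ ⊥ := fun h0 => by
    have h1 := centralizer_pCore_le (G := H ⧸ O) (p := 2)
      (isPSolvable_of_isSolvable inferInstance) (by
        rw [pPrimeCore_eq_piCore]; exact piCore_quotient_piCore _)
    rw [h0] at h1
    have h2 : f ⟨a, haH⟩ = 1 := mem_bot.1 (h1 (le_centralizer_iff.1 bot_le (mem_top _)))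
    exact IsInv.not_odd (u := (⟨a, haH⟩ : H)) ⟨Subtype.ext ha.1, fun e => ha.2 (congrArg Subtype.val e)⟩
      h2 hker
  set Z := pCore 2 (H ⧸ O) ⊓ centralizer (pCore 2 (H ⧸ O) : Set _) with hZ
  have hZn : Z.Normal := inferInstance
  obtain ⟨z, hz, hzi⟩ := exists_inv_center (pCore_isPGroup 2) h0
  obtain ⟨z, rfl⟩ := hfs z
  obtain ⟨w, hw, e⟩ := lift_inv hker hzi
  refine ⟨(Z.comap f).map H.subtype, map_mono (QuotientGroup.le_comap_mk' _ _), map_subtype_le _,
    FT.le_normalizer_map_subtype' _, fun u hu hi => ?_, ?_⟩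
  · obtain ⟨d, hd, rfl⟩ := hc w w.2 u hu
      ⟨congrArg Subtype.val hw.1, fun e => hw.2 (Subtype.ext e)⟩ hi
    exact ⟨_, (inferInstance : (Z.comap f).Normal).conj_mem w (show f w ∈ Z from e ▸ hz) ⟨d, hd⟩,
      rfl⟩
  · rintro _ ⟨x, hx, rfl⟩ _ ⟨y, hy, rfl⟩
    refine ⟨⁅x, y⁆, ?_, map_commutatorElement _ _ _⟩
    rw [← hO, ← QuotientGroup.ker_mk' O, SetLike.mem_coe, MonoidHom.mem_ker, map_commutatorElement,
      commutatorElement_eq_one_iff_mul_comm]
    exact hy.2 _ hx.1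

theorem abTwo_sup {O E P : Subgroup G} (hO : Odd (Nat.card O)) (hP : Odd (Nat.card P))
    (hn : P ≤ normalizer (E : Set G)) (hc : ∀ x ∈ E, ∀ y ∈ E, ⁅x, y⁆ ∈ O) :
    AbTwo ↥(P ⊔ E) := fun Q hQ => by
  have : Fact (Nat.Prime 2) := ⟨Nat.prime_two⟩
  have hQ' : IsPGroup 2 (Q.map (P ⊔ E).subtype) := hQ.map _
  have h1 : Q.map (P ⊔ E).subtype ≤ E := by
    refine le_of_coprime_relIndex (map_subtype_le _) (sup_le hn le_normalizer) ?_
    rw [relIndex_sup_of_le_normalizer hn]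
    obtain ⟨k, hk⟩ := hQ'.exists_card_eq
    rw [hk]
    exact (Nat.coprime_two_left.2 (hP.of_dvd_nat (relIndex_dvd_card _ _))).pow_left k
  refine H5.isMulCommutative_iff'.2 fun x hx y hy => Subtype.ext ?_
  have hx' := mem_map_of_mem (P ⊔ E).subtype hx
  have hy' := mem_map_of_mem (P ⊔ E).subtype hy
  refine commutatorElement_eq_one_iff_mul_comm.1 (disjoint_def.1
    (H5.disjoint_of_isPGroup_of_coprime hQ' (Nat.coprime_two_right.2 hO)) ?_
    (hc _ (h1 hx') _ (h1 hy')))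
  exact mul_mem (mul_mem (mul_mem hx' hy') (inv_mem hx')) (inv_mem hy')

/-- a subgroup of odd index inherits four-subgroups -/
theorem Rk2.of_odd_relIndex {X N : Subgroup G} (h : Rk2 X) (hN : N ≤ X)
    (ho : Odd (N.relIndex X)) : Rk2 N := by
  have : Fact (Nat.Prime 2) := ⟨Nat.prime_two⟩
  obtain ⟨a, ha, b, hb, h1, h2, h3, h4⟩ := h
  obtain ⟨T, hT⟩ := IsSylowIn.exists_in (p := 2) N
  have hT' : IsSylowIn 2 T X := by
    refine ⟨hT.le.trans hN, hT.isPGroup, ?_⟩
    rw [← relIndex_mul_relIndex T _ _ hT.le hN, Nat.prime_two.dvd_mul]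
    exact fun e => e.elim hT.not_dvd fun e => Nat.not_even_iff_odd.2 ho (even_iff_two_dvd.2 e)
  have h5 : IsPGroup 2 ↥(zpowers a ⊔ zpowers b) :=
    isPGroup_sup_of_le_normalizer (Invol.isPGroup_zpowers h1.1) (Invol.isPGroup_zpowers h2.1)
      (zpowers_le_of_mem (centralizer_le_normalizer _ (by
        rw [centralizer_zpowers]; exact mem_centralizer_singleton_iff.2 h4)))
  obtain ⟨x, -, hx⟩ := hT'.exists_conj_le h5 (sup_le (zpowers_le_of_mem ha) (zpowers_le_of_mem hb))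
  exact ⟨_, hT.le (hx (conj_mem_map_conj (mem_sup_left (mem_zpowers a)))), _,
    hT.le (hx (conj_mem_map_conj (mem_sup_right (mem_zpowers b)))), h1.conj x, h2.conj x,
    fun e => h3 (by simpa using e), by rw [conj_mul, conj_mul, h4]⟩

omit [Finite G] in
theorem normalizer_ne_top [IsSimpleGroup G] {X : Subgroup G} (h1 : X ≠ ⊥) (h2 : X ≠ ⊤) :
    normalizer (X : Set G) ≠ ⊤ := fun e =>
  (normal_of_le_normalizer_top e.ge).eq_bot_or_eq_top.elim h1 h2

end CfsgLib.SE
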