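import Cfsg.Agent.Lib.SE.T2
import Cfsg.Agent.Lib.H1Offender
import Cfsg.Agent.Lib.FT.Main

/-! Project SE: passing to the permutation group induced by a subgroup on an orbit. -/

set_option autoImplicit false

namespace CfsgLib.SE

open Subgroup MulAction Cfsg CfsgLib.Cop CfsgLib.H1

universe u

variable {G Ω : Type*} [Group G] [MulAction G Ω]

/-- the hypothesis that excludes the non-`3`-stable configuration -/
def H3 (G : Type*) [Group G] : Prop :=
  AbTwo G ∨ ∀ y t : G, orderOf y = 3 → t * y * t⁻¹ ≠ y⁻¹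

theorem H3.of_injective {G' : Type*} [Group G'] (h : H3 G) (f : G' →* G)
    (hf : Function.Injective f) : H3 G' := by
  refine h.imp (fun h => h.of_injective f hf) fun h y t hy e => h (f y) (f t) ?_ ?_
  · rwa [orderOf_injective f hf]
  · rw [← map_inv, ← map_mul, ← map_mul, e, map_inv]

theorem H3.of_surjective [Finite G] {G' : Type*} [Group G'] (h : H3 G) (f : G →* G')
    (hf : Function.Surjective f) : H3 G' := by
  refine h.imp (fun h => h.of_surjective f hf) fun h y t hy e => ?_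
  obtain ⟨d, s, ⟨k, hk⟩, h1, h2⟩ := exists_lift_inverted f hf (d := y) (t := t) (k := 1)
    (by rw [pow_one, ← hy, pow_orderOf_eq_one]) (by rintro rfl; simp at hy) e
  have : Fact (Nat.Prime 3) := ⟨Nat.prime_three⟩
  obtain ⟨j, -, hj⟩ := (Nat.dvd_prime_pow Nat.prime_three).1 (orderOf_dvd_of_pow_eq_one hk)
  have h3 : 3 ∣ Nat.card (zpowers d) := by
    rw [Nat.card_zpowers, hj]
    refine dvd_pow_self 3 ?_
    rintro rfl
    rw [pow_zero, orderOf_eq_one_iff] at hj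
    exact h1 (by rw [hj, map_one])
  obtain ⟨⟨z, hz⟩, hzo⟩ := exists_prime_orderOf_dvd_card' 3 h3
  rw [orderOf_mk] at hzo
  exact h z s hzo (Invol.inverts_of_mem_zpowers h2 hz)

/-- `f` is the action of `M` on the orbit of `α`, with image `G'` -/
structure Red (M : Subgroup G) (α : Ω) {G' Δ : Type*} [Group G'] [MulAction G' Δ]
    (f : M →* G') (j : Δ → Ω) : Prop where
  surj : Function.Surjective f
  inj : Function.Injective j
  equiv : ∀ (m : M) (δ : Δ), j (f m • δ) = (m : G) • j δ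
  base : ∃ δ, j δ = α
  orb : ∀ δ, ∃ m ∈ M, j δ = m • α
  faith : ∀ g : G', (∀ δ : Δ, g • δ = δ) → g = 1

theorem red_orbit (M : Subgroup G) (α : Ω) :
    Red M α (toPermHom M (orbit M α)).rangeRestrict (Subtype.val : orbit M α → Ω) where
  surj := MonoidHom.rangeRestrict_surjective _
  inj := Subtype.val_injective
  equiv := fun _ _ => rfl
  base := ⟨⟨α, mem_orbit_self α⟩, rfl⟩
  orb := fun ⟨_, m, hm⟩ => ⟨m, m.2, hm.symm⟩
  faith := fun _ h => Subtype.ext (Equiv.ext h)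

namespace Red

variable {M : Subgroup G} {α : Ω} {G' Δ : Type*} [Group G'] [MulAction G' Δ]
  {f : M →* G'} {j : Δ → Ω} (R : Red M α f j)
include R

theorem smul_iff {m : M} {δ ε : Δ} : f m • δ = ε ↔ (m : G) • j δ = j ε := by
  rw [← R.equiv, R.inj.eq_iff]

theorem exists_pt {m : G} (hm : m ∈ M) : ∃ δ, j δ = m • α := by
  obtain ⟨δ, h⟩ := R.base
  exact ⟨f ⟨m, hm⟩ • δ, by rw [R.equiv, h]⟩

theorem card_le [Finite G] : Nat.card G' ≤ Nat.card M :=
  Nat.card_le_card_of_surjective f R.surj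

theorem finite [Finite G] : Finite G' := Finite.of_surjective f R.surj

variable (S : SEA G Ω) (hM : ¬ M ≤ stabilizer G α)
include S hM

theorem isInv_map {u : M} (hu : IsInv (u : G)) : IsInv (f u) := by
  refine ⟨by rw [← map_mul, show u * u = 1 from Subtype.ext hu.1, map_one], fun e => hM ?_⟩
  intro m hm
  obtain ⟨δ, h1⟩ := R.base
  obtain ⟨ε, h2⟩ := R.exists_pt hm
  refine S.uniq u hu _ _ ?_ ?_
  · rw [← h2, ← R.smul_iff, e, one_smul]
  · rw [← h1, ← R.smul_iff, e, one_smul]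

variable [Finite G]

theorem odd_ker : Odd (Nat.card f.ker) :=
  odd_of_forall fun u hu hi => (R.isInv_map S hM (u := u)
    ⟨congrArg Subtype.val hi.1, fun e => hi.2 (Subtype.ext e)⟩).2 hu

theorem lift {g : G'} (hg : IsInv g) : ∃ u : M, IsInv (u : G) ∧ f u = g := by
  obtain ⟨x, rfl⟩ := R.surj g
  obtain ⟨n, hn⟩ := odd_orderOf_of_mem (R.odd_ker S hM) (x := x * x)
    (by rw [MonoidHom.mem_ker, map_mul, hg.1])
  have h1 : f (x ^ (2 * n + 1)) = f x := by
    rw [map_pow, pow_succ, pow_mul, pow_two, hg.1, one_pow, one_mul]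
  refine ⟨x ^ (2 * n + 1), ⟨?_, fun e => hg.2 ?_⟩, h1⟩
  · have : x ^ (2 * n + 1) * x ^ (2 * n + 1) = 1 := by
      rw [← (Commute.refl x).mul_pow, ← hn, pow_orderOf_eq_one]
    exact congrArg Subtype.val this
  · rw [← h1, show x ^ (2 * n + 1) = 1 from Subtype.ext e, map_one]

theorem sea {a : G} (ha : IsInv a) (haM : a ∈ M) (h1 : a • α = α) : SEA G' Δ where
  trans := fun δ ε => by
    obtain ⟨m, hm, e1⟩ := R.orb δ
    obtain ⟨n, hn, e2⟩ := R.orb ε
    exact ⟨f ⟨n * m⁻¹, mul_mem hn (inv_mem hm)⟩, R.smul_iff.2 (by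
      rw [e1, e2, mul_smul, inv_smul_smul])⟩
  nontriv := by
    obtain ⟨m, hm, h⟩ := SetLike.not_le_iff_exists.1 hM
    obtain ⟨δ, e1⟩ := R.base
    obtain ⟨ε, e2⟩ := R.exists_pt hm
    exact ⟨δ, ε, fun e => h (by rw [mem_stabilizer_iff, ← e2, ← e, e1])⟩
  fix := fun g hg => by
    obtain ⟨u, hu, rfl⟩ := R.lift S hM hg
    obtain ⟨ω, hω⟩ := S.fix _ hu
    by_cases h : α = ω
    · obtain ⟨δ, e1⟩ := R.base
      exact ⟨δ, R.smul_iff.2 (by rw [e1, h, hω])⟩
    · obtain ⟨t, ht, -, -, e, -⟩ := S.exists_swap_mem ha hu h1 hω h haM u.2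
      obtain ⟨δ, e1⟩ := R.exists_pt ht
      exact ⟨δ, R.smul_iff.2 (by rw [e1, e, hω])⟩
  uniq := fun g hg δ ε a b => by
    obtain ⟨u, hu, rfl⟩ := R.lift S hM hg
    exact R.inj (S.uniq _ hu _ _ (R.smul_iff.1 a) (R.smul_iff.1 b))
  even := ⟨_, R.isInv_map S hM (u := ⟨a, haM⟩) ha⟩

omit [Finite G] in
theorem rk2 (h : Rk2 M) : Rk2 (⊤ : Subgroup G') := by
  obtain ⟨a, ha, b, hb, h1, h2, h3, h4⟩ := h
  have h5 := R.isInv_map S hM (u := ⟨a, ha⟩) h1
  refine ⟨f ⟨a, ha⟩, mem_top _, f ⟨b, hb⟩, mem_top _, h5, R.isInv_map S hM (u := ⟨b, hb⟩) h2,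
    fun e => ?_, by rw [← map_mul, ← map_mul]; exact congrArg f (Subtype.ext h4)⟩
  refine (R.isInv_map S hM (u := ⟨a, ha⟩ * ⟨b, hb⟩) (isInv_mul h1 h2 h3 h4)).2 ?_
  rw [map_mul, ← e, h5.1]

omit S hM [Finite G] in
theorem stab_eq (δ : Δ) : stabilizer G' δ = ((stabilizer G (j δ)).subgroupOf M).map f := by
  ext g
  obtain ⟨m, rfl⟩ := R.surj g
  refine ⟨fun h => ⟨m, R.smul_iff.1 h, rfl⟩, ?_⟩
  rintro ⟨n, hn, e⟩
  rw [← e]; exact R.smul_iff.2 hn

omit S hM [Finite G] in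
theorem solv (h : ∀ ω : Ω, Group.IsSolvable (stabilizer G ω)) (δ : Δ) :
    Group.IsSolvable (stabilizer G' δ) := by
  rw [R.stab_eq]
  exact isSolvable_map (isSolvable_subgroupOf (h _) M) f

theorem tc (hT : Tc G Ω) : Tc G' Δ := fun a b δ ha hb h1 h2 => by
  obtain ⟨u, hu, rfl⟩ := R.lift S hM ha
  obtain ⟨v, hv, rfl⟩ := R.lift S hM hb
  rw [← map_mul, ← map_mul]
  exact congrArg f (Subtype.ext (hT _ _ _ hu hv (R.smul_iff.1 h1) (R.smul_iff.1 h2)))

omit S hM in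
theorem h3 (h : H3 G) : H3 G' := (h.of_injective _ M.subtype_injective).of_surjective f R.surj

omit S hM [Finite G] in
theorem map_le_iff {X : Subgroup G} (hX : X ≤ M) {δ : Δ} :
    (X.subgroupOf M).map f ≤ stabilizer G' δ ↔ X ≤ stabilizer G (j δ) := by
  refine ⟨fun h x hx => R.smul_iff.1 (h (mem_map_of_mem f (show (⟨x, hX hx⟩ : M) ∈ _ from hx))),
    ?_⟩
  rintro h _ ⟨x, hx, rfl⟩
  exact R.smul_iff.2 (h hx)

theorem conc (h : ∀ δ : Δ, Conc (⊤ : Subgroup G') δ) : Conc M α := by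
  obtain ⟨δ, e1⟩ := R.base
  have hodd : ∀ X : Subgroup G, X ≤ M → Odd (Nat.card X) →
      Odd (Nat.card ((X.subgroupOf M).map f)) := fun X h1 h2 =>
    h2.of_dvd_nat ((card_map_dvd _ f).trans (card_subgroupOf_of_le h1).dvd)
  refine ⟨fun p hp hp2 P hP hPp => ?_, fun X hX ho hn m hm => ?_, fun E hE ho ht => ?_⟩
  · have hPM := hP.trans inf_le_left
    obtain ⟨g, -, h1, h2⟩ := (h δ).c1 p hp hp2 ((P.subgroupOf M).map f)
      (le_inf le_top ((R.map_le_iff hPM).2 (e1 ▸ hP.trans inf_le_right)))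
      (hPp.comap_subtype.map f)
    obtain ⟨m, rfl⟩ := R.surj g
    refine ⟨m, m.2, fun e => h1 (R.smul_iff.2 (by rw [e1, e])), ?_⟩
    rwa [R.map_le_iff hPM, R.equiv, e1] at h2
  · have hXM := hX.trans inf_le_left
    have := (h δ).c2 ((X.subgroupOf M).map f)
      (le_inf le_top ((R.map_le_iff hXM).2 (e1 ▸ hX.trans inf_le_right))) (hodd X hXM ho) (by
        rw [top_inf_eq, R.stab_eq, e1]
        refine map_normalizer_le' (fun x hx => ?_) f
        exact mem_normalizer_of_conj_mem fun y hy =>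
          conj_mem_of_mem_normalizer (H := X) (g := (x : G)) (x := (y : G)) (hn ⟨x.2, hx⟩) hy)
      (f ⟨m, hm⟩) (mem_top _)
    rwa [R.map_le_iff hXM, R.equiv, e1] at this
  · refine (h δ).c3 ((E.subgroupOf M).map f) le_top (hodd E hE ho) fun a _ b _ ha hb => ?_
    obtain ⟨u, hu, rfl⟩ := R.lift S hM ha
    obtain ⟨v, hv, rfl⟩ := R.lift S hM hb
    obtain ⟨e, he, h1⟩ := ht u u.2 v v.2 hu hv
    refine ⟨f ⟨e, hE he⟩, mem_map_of_mem f he, ?_⟩
    rw [← map_inv, ← map_mul, ← map_mul]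
    exact congrArg f (Subtype.ext h1)

end Red

/-- Bender step when the involutions of a point stabilizer commute. -/
theorem exists_RO_of_tc (G : Type u) [Group G] [Finite G] :
    ∀ (Ω : Type u) [MulAction G Ω], SEA G Ω → Tc G Ω → Rk2 (⊤ : Subgroup G) →
      (∀ g : G, (∀ ω : Ω, g • ω = ω) → g = 1) → (∀ ω : Ω, Group.IsSolvable (stabilizer G ω)) →
      ∀ α : Ω, ∃ Q t, Suz.RO (stabilizer G α) Q t ∧ Suz.Rank2 Q := by
  revert G
  refine card_induction fun G _ _ ih => ?_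
  intro Ω _ S hT hr hf hs α
  refine S.exists_RO hT hr hf (fun M β hM h1 h2 => ?_) (hs α)
  have R := red_orbit M β
  have := R.finite
  obtain ⟨a, ha, -, -, hai, -⟩ := id h1
  have S' := R.sea S h2 hai ha.1 ha.2
  have hT' := R.tc S h2 hT
  have hr' := R.rk2 S h2 (h1.mono inf_le_left)
  refine R.conc S h2 fun δ => ?_
  obtain ⟨Q, t, h3, h4⟩ := ih _ (R.card_le.trans_lt (card_lt_of_ne_top hM)) _ S' hT' hr' R.faith
    (R.solv hs) δ
  exact S'.conc_of_RO hT' hr' h3 h4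

theorem conc_of_tc {G Ω : Type u} [Group G] [Finite G] [MulAction G Ω] (S : SEA G Ω)
    (hT : Tc G Ω) (hr : Rk2 (⊤ : Subgroup G)) (hf : ∀ g : G, (∀ ω : Ω, g • ω = ω) → g = 1)
    (hs : ∀ ω : Ω, Group.IsSolvable (stabilizer G ω)) (α : Ω) : Conc (⊤ : Subgroup G) α := by
  obtain ⟨Q, t, h3, h4⟩ := exists_RO_of_tc G Ω S hT hr hf hs α
  exact S.conc_of_RO hT hr h3 h4

end CfsgLib.SE
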