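import Cfsg.Agent.Lib.SE.Abs
import Cfsg.Agent.Lib.Suz.Main

/-! Project SE: the case that the involutions of a point stabilizer commute. -/

set_option autoImplicit false

namespace CfsgLib.SE

open Subgroup MulAction Cfsg CfsgLib.Cop CfsgLib.H1

variable {G Ω : Type*} [Group G] [MulAction G Ω]

/-- involutions with the same fixed point commute -/
def Tc (G Ω : Type*) [Group G] [MulAction G Ω] : Prop :=
  ∀ (u v : G) (α : Ω), IsInv u → IsInv v → u • α = α → v • α = α → u * v = v * u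

/-- what is used of the structure of the subgroup `M` acting on the orbit of `α` -/
structure Conc (M : Subgroup G) (α : Ω) : Prop where
  c1 : ∀ p : ℕ, p.Prime → p ≠ 2 → ∀ P : Subgroup G, P ≤ M ⊓ stabilizer G α → IsPGroup p P →
    ∃ m ∈ M, m • α ≠ α ∧ P ≤ stabilizer G (m • α)
  c2 : ∀ X : Subgroup G, X ≤ M ⊓ stabilizer G α → Odd (Nat.card X) →
    M ⊓ stabilizer G α ≤ normalizer (X : Set G) → ∀ m ∈ M, X ≤ stabilizer G (m • α)
  c3 : ∀ E : Subgroup G, E ≤ M → Odd (Nat.card E) →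
    ¬ ∀ u ∈ M, ∀ v ∈ M, IsInv u → IsInv v → ∃ e ∈ E, e * u * e⁻¹ = v

/-- the centralizer in `G_α` of all involutions fixing `α` -/
def CJ (G : Type*) [Group G] [MulAction G Ω] (α : Ω) : Subgroup G :=
  stabilizer G α ⊓ centralizer {u | IsInv u ∧ u • α = α}

theorem mem_CJ {α : Ω} {c : G} :
    c ∈ CJ G α ↔ c • α = α ∧ ∀ u, IsInv u → u • α = α → u * c = c * u :=
  ⟨fun h => ⟨h.1, fun u a b => h.2 u ⟨a, b⟩⟩, fun h => ⟨h.1, fun u a => h.2 u a.1 a.2⟩⟩

theorem CJ_le (α : Ω) : CJ G α ≤ stabilizer G α := inf_le_left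

theorem CJ_le_cent {α : Ω} {u : G} (hu : IsInv u) (h : u • α = α) : CJ G α ≤ centralizer {u} :=
  fun _ hc => mem_centralizer_singleton_iff.2 ((mem_CJ.1 hc).2 u hu h).symm

theorem comm_conj {a b g : G} (h : (g⁻¹ * a * g) * b = b * (g⁻¹ * a * g)) :
    a * (g * b * g⁻¹) = (g * b * g⁻¹) * a := by
  calc a * (g * b * g⁻¹) = g * ((g⁻¹ * a * g) * b) * g⁻¹ := by group
    _ = _ := by rw [h]; group

theorem le_normalizer_CJ [Finite G] (α : Ω) : stabilizer G α ≤ normalizer (CJ G α : Set G) := by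
  intro g hg
  refine mem_normalizer_of_conj_mem fun c hc => mem_CJ.2 ⟨?_, fun u hu h => ?_⟩
  · exact (stabilizer G α).mul_mem (mul_mem hg hc.1) (inv_mem hg)
  · refine comm_conj ((mem_CJ.1 hc).2 _ (by simpa using hu.conj g⁻¹) ?_)
    exact (stabilizer G α).mul_mem (mul_mem (inv_mem hg) h) hg

theorem le_cent_conj {X : Subgroup G} {u g : G} (hg : g ∈ normalizer (X : Set G))
    (h : X ≤ centralizer {u}) : X ≤ centralizer {g * u * g⁻¹} := fun x hx => by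
  rw [mem_centralizer_singleton_iff]
  exact comm_conj (mem_centralizer_singleton_iff.1 (h (conj_mem_of_mem_normalizer' hg hx)))

theorem mem_cent_of_le {X : Subgroup G} {u : G} (h : X ≤ centralizer {u}) :
    u ∈ centralizer (X : Set G) := fun _ hx => mem_centralizer_singleton_iff.1 (h hx)

theorem le_cent_of_mem {X : Subgroup G} {u : G} (h : u ∈ centralizer (X : Set G)) :
    X ≤ centralizer {u} := fun x hx => mem_centralizer_singleton_iff.2 (h x hx)

theorem Tc.eq_one (hT : Tc G Ω) {u y : G} {α : Ω} (hu : IsInv u) (h1 : u • α = α)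
    (h2 : y • α = α) (hy : Odd (orderOf y)) (h : u * y * u⁻¹ = y⁻¹) : y = 1 := by
  obtain ⟨c, hc, e⟩ := Invol.exists_conj_eq_mul h hy
  have h3 : c • α = α := zpowers_le_of_mem (show y ∈ stabilizer G α from h2) hc
  have h4 := hT u _ α hu (hu.conj c) h1 (by simpa [h3] using conj_smul_eq (g := c) h1)
  rw [e, hu.mul_mul] at h4
  rw [hu.inv_eq, ← h4] at h
  exact Invol.eq_one_of_odd hy (by nth_rw 2 [h]; exact mul_inv_cancel y)

theorem Tc.le_cent [Finite G] (hT : Tc G Ω) {u : G} {α : Ω} (hu : IsInv u) (h1 : u • α = α)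
    {X : Subgroup G} (hX : Odd (Nat.card X)) (h2 : X ≤ stabilizer G α)
    (h3 : u ∈ normalizer (X : Set G)) : X ≤ centralizer {u} := by
  by_contra h
  obtain ⟨y, hy, hy1, e⟩ := exists_inverted hu h3 h
  exact hy1 (hT.eq_one hu h1 (h2 hy) (odd_orderOf_of_mem hX hy) e)

namespace SEA

variable (S : SEA G Ω) [Finite G]
include S

theorem swap_unique {u s s' : G} {α β : Ω} (h : α ≠ β) (hu : IsInv u) (hα : u • α = α)
    (hs : IsInv s) (hs' : IsInv s') (h2 : s • α = β) (h3 : s' • α = β)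
    (e : s * u * s⁻¹ = s' * u * s'⁻¹) : s = s' := by
  have h4 : s' * s = 1 := by
    refine S.K_fpf h hs h2 ?_ ?_ ?_ hu hα ?_
    · rw [mul_smul, h2, ← h3, hs'.smul_smul]
    · rw [mul_smul, ← h2, hs.smul_smul, h3, h2]
    · simp [hs.inv_eq, hs'.inv_eq, mul_assoc, hs.1]
    · simp only [hs.inv_eq, hs'.inv_eq] at e
      calc u * (s' * s) = s' * (s' * u * s') * s := by
            simp only [← mul_assoc, hs'.1, one_mul]
        _ = s' * s * u := by rw [← e]; simp only [mul_assoc, hs.1, mul_one]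
  rw [← hs'.inv_eq]; exact (inv_eq_of_mul_eq_one_right h4).symm

/-- a Sylow `p`-subgroup of `G_{αβ}`, `p ∣ |J|`, is not centralized by a swapping involution -/
theorem not_le_cent_swap {p : ℕ} [hp : Fact p.Prime] {α β : Ω} (hd : p ∣ nJ G α) (h : α ≠ β)
    {P : Subgroup G} (hP : IsSylowIn p P (st2 G α β)) {t : G} (ht : IsInv t) (h1 : t • α = β)
    (h2 : t ∈ normalizer (P : Set G)) : ¬ P ≤ centralizer {t} := by
  intro h3
  have h4 := ht.relIndex_sylow (S.odd_st2 h) (mem_normalizer_st2 h1 (by rw [← h1, ht.smul_smul]))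
    hP h2
  rw [relIndex_eq_one.2 h3, S.relIndex_cent_swap h ht h1, eq_comm, Nat.pow_eq_one] at h4
  rcases h4 with h4 | h4
  · exact hp.out.ne_one h4
  · exact (hp.out.factorization_pos_of_dvd (S.nJ_ne_zero α) hd).ne' h4

theorem exists_inv_cent_of_not_dvd {p : ℕ} [hp : Fact p.Prime] {α : Ω} (hd : ¬ p ∣ nJ G α)
    {X : Subgroup G} (hX : IsPGroup p X) (h : X ≤ stabilizer G α) :
    ∃ u, IsInv u ∧ u • α = α ∧ X ≤ centralizer {u} := by
  obtain ⟨u, hu, h1⟩ := S.exists_inv α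
  obtain ⟨P, hP⟩ := IsSylowIn.exists_in (p := p) (centralizer {u} : Subgroup G)
  have hP' : IsSylowIn p P (stabilizer G α) := by
    refine ⟨hP.le.trans (S.cent_le hu h1), hP.isPGroup, ?_⟩
    rw [← relIndex_mul_relIndex P _ _ hP.le (S.cent_le hu h1), S.relIndex_cent_stab hu h1,
      hp.out.dvd_mul]
    exact fun e => e.elim hP.not_dvd hd
  obtain ⟨x, hx, h2⟩ := hP'.exists_conj_le hX h
  refine ⟨x⁻¹ * u * x⁻¹⁻¹, hu.conj _, ?_, fun y hy => ?_⟩
  · exact (stabilizer G α).mul_mem (mul_mem (inv_mem hx) h1) (inv_mem (inv_mem hx))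
  · rw [mem_centralizer_singleton_iff]
    refine comm_conj ?_
    rw [inv_inv]
    exact mem_centralizer_singleton_iff.1 (hP.le (h2 (conj_mem_map_conj hy)))

section T

variable (hT : Tc G Ω)
include hT

theorem exists_inv_cent_max3 {p : ℕ} [Fact p.Prime] (hp2 : p ≠ 2) {Y : Subgroup G}
    (hY : Max3 Ω p Y) :
    ∃ w, IsInv w ∧ Y ≤ centralizer {w} ∧ ∃ δ : Ω, Y ≤ stabilizer G δ ∧ w • δ = δ := by
  obtain ⟨w, hwN, hw, δ, h1, h2⟩ := S.exists_inv_max3 hp2 hY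
  exact ⟨w, hw, hT.le_cent hw h2 (odd_card_of_isPGroup hp2 hY.isPGroup) h1 hwN, δ, h1, h2⟩

theorem le_cent_of_fix3 {p : ℕ} [Fact p.Prime] (hp2 : p ≠ 2) {P : Subgroup G}
    (hP : IsPGroup p P) (h3 : Fix3 Ω P) {t : G} (ht : IsInv t) (h : t ∈ normalizer (P : Set G)) :
    P ≤ centralizer {t} := by
  by_contra h1
  obtain ⟨y, hy, hy1, e⟩ := exists_inverted ht h h1
  obtain ⟨Y, hPY, hY⟩ := exists_max3 hP h3
  obtain ⟨w, hw, h2, δ, h4, h5⟩ := S.exists_inv_cent_max3 hT hp2 hY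
  obtain ⟨γ, hγ⟩ := S.fix t ht
  have hodd := odd_orderOf_of_mem (odd_card_of_isPGroup hp2 hP) hy
  obtain rfl := S.eq_of_inverts_of_comm hodd hy1 ht hw hγ h5 e
    (mem_centralizer_singleton_iff.1 (h2 (hPY hy))).symm
  exact hy1 (hT.eq_one ht hγ (h4 (hPY hy)) hodd e)

theorem not_fix3_sylow {p : ℕ} [Fact p.Prime] {α β : Ω} (hd : p ∣ nJ G α) (h : α ≠ β)
    {P : Subgroup G} (hP : IsSylowIn p P (st2 G α β)) : ¬ Fix3 Ω P := by
  intro h3
  have hp2 : p ≠ 2 := by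
    rintro rfl
    exact (Nat.not_even_iff_odd.2 (S.odd_nJ α)) (even_iff_two_dvd.2 hd)
  obtain ⟨t, h1, ht, h2, -⟩ := S.exists_swap_normalizer h hP
  exact S.not_le_cent_swap hd h hP ht h2 h1 (S.le_cent_of_fix3 hT hp2 hP.isPGroup h3 ht h1)

theorem sylow_stab {p : ℕ} [Fact p.Prime] {α β : Ω} (hd : p ∣ nJ G α) (h : α ≠ β)
    {P : Subgroup G} (hP : IsSylowIn p P (st2 G α β)) : IsSylowIn p P (stabilizer G α) := by
  have := sylow_of_not_fix3 (N := ⊤) h.symm (by rwa [top_inf_eq]) (S.not_fix3_sylow hT hd h hP)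
  rwa [top_inf_eq] at this

theorem exists_second {p : ℕ} [Fact p.Prime] {α : Ω} (hd : p ∣ nJ G α) {B : Subgroup G}
    (hB : IsPGroup p B) (h : B ≤ stabilizer G α) : ∃ β, β ≠ α ∧ B ≤ stabilizer G β := by
  obtain ⟨β, hβ⟩ := S.exists_ne α
  obtain ⟨P, hP⟩ := IsSylowIn.exists_in (p := p) (st2 G α β)
  obtain ⟨x, hx, h1⟩ := (S.sylow_stab hT hd hβ.symm hP).exists_conj_le hB h
  refine ⟨x⁻¹ • β, smul_ne_of_fix (inv_mem hx : x⁻¹ ∈ stabilizer G α) hβ, ?_⟩
  have := map_conj_le_stab (g := x⁻¹) (h1.trans (hP.le.trans inf_le_right))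
  rwa [map_conj_inv_map_conj] at this

variable (hr : Rk2 (⊤ : Subgroup G))
include hr

theorem two_trans {α β β' : Ω} (h : β ≠ α) (h' : β' ≠ α) : ∃ g : G, g • α = α ∧ g • β = β' := by
  obtain ⟨p, hp, -, hd⟩ := S.exists_prime hr α
  have : Fact p.Prime := ⟨hp⟩
  obtain ⟨P, hP⟩ := IsSylowIn.exists_in (p := p) (st2 G α β)
  obtain ⟨P', hP'⟩ := IsSylowIn.exists_in (p := p) (st2 G α β')
  obtain ⟨g, -, hg⟩ := exists_smul_of_not_fix3 (N := ⊤) h h' (by rwa [top_inf_eq])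
    (S.not_fix3_sylow hT hd h.symm hP) (by rwa [top_inf_eq]) (S.not_fix3_sylow hT hd h'.symm hP')
  exact ⟨g, hg⟩

theorem card_st2_eq {α β γ δ : Ω} (h : α ≠ β) (h' : γ ≠ δ) :
    Nat.card (st2 G α β) = Nat.card (st2 G γ δ) := by
  obtain ⟨g, rfl⟩ := S.trans α γ
  obtain ⟨x, h1, h2⟩ := S.two_trans hT hr (α := g • α) (β := g • β)
    (fun e => h (smul_left_cancel g e).symm) h'.symm
  rw [← h2, ← h1, st2_smul, card_map_conj, st2_smul, card_map_conj]

theorem card_V_eq {α β : Ω} {w v : G} (hw : IsInv w) (hv : IsInv v) (h : α ≠ w • α)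
    (h' : β ≠ v • β) : Nat.card ↥(st2 G α (w • α) ⊓ centralizer {w}) =
      Nat.card ↥(st2 G β (v • β) ⊓ centralizer {v}) := by
  have h1 := card_inf_mul_relIndex (centralizer {w}) (st2 G α (w • α))
  have h2 := card_inf_mul_relIndex (centralizer {v}) (st2 G β (v • β))
  rw [S.relIndex_cent_swap h hw rfl] at h1
  rw [S.relIndex_cent_swap h' hv rfl, S.nJ_eq β α, S.card_st2_eq hT hr h' h, ← h1] at h2
  exact (Nat.eq_of_mul_eq_mul_right (Nat.pos_of_ne_zero (S.nJ_ne_zero α)) h2).symm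

omit hr in
theorem exists_inv_cent_of_max3 {p : ℕ} [Fact p.Prime] (hp2 : p ≠ 2) {Y : Subgroup G}
    (hY : Max3 Ω p Y) {δ : Ω} (hd : p ∣ nJ G δ) (h : Y ≤ stabilizer G δ) :
    ∃ u, IsInv u ∧ u • δ = δ ∧ Y ≤ centralizer {u} := by
  obtain ⟨w, hw, h1, ε, h2, h3⟩ := S.exists_inv_cent_max3 hT hp2 hY
  by_cases e : ε = δ
  · exact ⟨w, hw, e ▸ h3, h1⟩
  obtain ⟨η, a, b, h4⟩ := hY.fix3.exists_third δ ε
  have hty : ∀ ω : Ω, η ≠ ω → Y ≤ stabilizer G ω → Ty2 p Y η ω := fun ω a b =>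
    (hY.sylow_or h4 b).resolve_left fun hs =>
      S.not_fix3_sylow hT (S.nJ_eq δ η ▸ hd) a hs hY.fix3
  obtain ⟨n, hn, -, rfl⟩ := (hty ε b h2).exists_smul (hty δ a h) b.symm a.symm
  exact ⟨_, hw.conj n, conj_smul_eq h3, le_cent_conj hn h1⟩

/-- a `p`-subgroup with at least three fixed points centralizes an involution at each of them -/
theorem exists_inv_cent {p : ℕ} [Fact p.Prime] (hp2 : p ≠ 2) {X : Subgroup G}
    (hX : IsPGroup p X) (h3 : Fix3 Ω X) {δ : Ω} (h : X ≤ stabilizer G δ) :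
    ∃ u, IsInv u ∧ u • δ = δ ∧ X ≤ centralizer {u} := by
  by_cases hd : p ∣ nJ G δ
  swap
  · exact S.exists_inv_cent_of_not_dvd hd hX h
  obtain ⟨Y, hXY, hY⟩ := exists_max3 hX h3
  obtain ⟨w, hw, h1, ε, h2, h4⟩ := S.exists_inv_cent_max3 hT hp2 hY
  by_cases e : δ = ε
  · exact ⟨w, hw, e ▸ h4, hXY.trans h1⟩
  have hwX : w ∈ normalizer (X : Set G) :=
    centralizer_le_normalizer _ (mem_cent_of_le (hXY.trans h1))
  have hne : δ ≠ w • δ := (S.smul_ne hw h4 e).symm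
  obtain ⟨P, hXP, hP⟩ := IsSylowIn.exists_ge hX
    (le_inf (le_inf h (le_stab_smul hwX h)) (hXY.trans h1) :
      X ≤ st2 G δ (w • δ) ⊓ centralizer {w})
  have hPδ : P ≤ stabilizer G δ := hP.le.trans (inf_le_left.trans inf_le_left)
  obtain ⟨Y', hPY, hY'⟩ := exists_max3 (Ω := Ω) hP.isPGroup ⟨δ, w • δ, ε, hne, e,
    smul_ne_of_fix h4 e, hPδ, hP.le.trans (inf_le_left.trans inf_le_right),
    hP.le.trans (inf_le_right.trans (S.cent_le hw h4))⟩
  obtain ⟨w', hw', h5, ε', -, h6⟩ := S.exists_inv_cent_max3 hT hp2 hY'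
  obtain ⟨η, h7, -, h8⟩ := hY'.fix3.exists_third ε' ε'
  obtain ⟨P', hP1, hP'⟩ := IsSylowIn.exists_ge hY'.isPGroup
    (le_inf (le_inf h8 (le_stab_smul (centralizer_le_normalizer _ (mem_cent_of_le h5)) h8)) h5 :
      Y' ≤ st2 G η (w' • η) ⊓ centralizer {w'})
  have h9 : P = Y' := eq_of_le_of_card_le hPY (by
    refine (card_le_of_le hP1).trans (le_of_eq ?_)
    rw [hP.card_eq_ordProj, hP'.card_eq_ordProj,
      S.card_V_eq hT hr hw hw' hne (S.smul_ne hw' h6 h7).symm])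
  subst h9
  obtain ⟨u, hu, a, b⟩ := S.exists_inv_cent_of_max3 hT hp2 hY' hd hPδ
  exact ⟨u, hu, a, hXP.trans b⟩

theorem cent_trans {p : ℕ} [Fact p.Prime] (hp2 : p ≠ 2) {X : Subgroup G}
    (hX : IsPGroup p X) (h3 : Fix3 Ω X) {α β : Ω} (h : α ≠ β) (h1 : X ≤ stabilizer G α)
    (h2 : X ≤ stabilizer G β) : ∃ c ∈ centralizer (X : Set G), c • α = β := by
  obtain ⟨u, hu, a, b⟩ := S.exists_inv_cent hT hr hp2 hX h3 h1
  obtain ⟨v, hv, c, d⟩ := S.exists_inv_cent hT hr hp2 hX h3 h2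
  obtain ⟨t, ht, -, -, e, -⟩ := S.exists_swap_mem hu hv a c h (mem_cent_of_le b) (mem_cent_of_le d)
  exact ⟨t, ht, e⟩

omit hT hr [Finite G] in
theorem fix3_of_le {α β : Ω} (h : α ≠ β) {X : Subgroup G} (hX : X ≤ CJ G α ⊓ st2 G α β) :
    Fix3 Ω X := by
  obtain ⟨u, hu, h1⟩ := S.exists_inv α
  have h2 : X ≤ stabilizer G β := hX.trans (inf_le_right.trans inf_le_right)
  exact ⟨α, β, u • β, h, (smul_ne_of_fix h1 h.symm).symm, (S.smul_ne hu h1 h.symm).symm,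
    hX.trans (inf_le_right.trans inf_le_left), h2, le_stab_smul (centralizer_le_normalizer _
      (mem_cent_of_le (hX.trans (inf_le_left.trans (CJ_le_cent hu h1))))) h2⟩

/-- every involution swapping `α` and `β` centralizes `W = C_{G_{αβ}}(J_α)` -/
theorem W_le_cent {α β : Ω} (h : α ≠ β) {t : G} (ht : IsInv t) (h1 : t • α = β) :
    CJ G α ⊓ st2 G α β ≤ centralizer {t} := by
  refine le_of_forall_sylow_le fun p _ hp => ?_
  have hp2 : p ≠ 2 := by
    rintro rfl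
    exact (Nat.not_even_iff_odd.2 ((S.odd_st2 h).of_dvd_nat (card_dvd_of_le inf_le_right)))
      (even_iff_two_dvd.2 hp)
  obtain ⟨P⟩ : Nonempty (Sylow p ↥(CJ G α ⊓ st2 G α β)) := inferInstance
  refine ⟨P, ?_⟩
  have hP := IsSylowIn.of_sylow_subgroup P
  set X := (P : Subgroup ↥(CJ G α ⊓ st2 G α β)).map (CJ G α ⊓ st2 G α β).subtype
  obtain ⟨c, hc, e⟩ := S.cent_trans hT hr hp2 hP.isPGroup (S.fix3_of_le h hP.le) h
    (hP.le.trans (inf_le_right.trans inf_le_left)) (hP.le.trans (inf_le_right.trans inf_le_right))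
  obtain ⟨u, hu, h2⟩ := S.exists_inv α
  have h3 : ∀ u, IsInv u → u • α = α → u ∈ centralizer (X : Set G) := fun u a b =>
    mem_cent_of_le (hP.le.trans (inf_le_left.trans (CJ_le_cent a b)))
  have h4 : t * u * t⁻¹ ∈ centralizer (X : Set G) := by
    have := h3 (c⁻¹ * (t * u * t⁻¹) * c⁻¹⁻¹) ((hu.conj t).conj _) (by
      have := conj_smul_eq (g := c⁻¹) (conj_smul_eq (g := t) h2)
      rwa [h1, ← e, inv_smul_smul] at this)
    have h5 := mul_mem (mul_mem hc this) (inv_mem hc)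
    simpa [mul_assoc] using h5
  obtain ⟨s, hs, hsi, e1, e2, -⟩ := S.exists_swap_mem hu (hu.conj t) h2 (h1 ▸ conj_smul_eq h2) h
    (h3 u hu h2) h4
  rw [← S.swap_unique h hu h2 hsi ht e2 h1 e1]
  exact le_cent_of_mem hs

theorem stab_le_sup {α β : Ω} (hs : Group.IsSolvable (stabilizer G α)) (h : α ≠ β) :
    stabilizer G α ≤ CJ G α ⊔ st2 G α β := by
  by_cases h0 : stabilizer G α ≤ CJ G α
  · exact h0.trans le_sup_left
  obtain ⟨ℓ, L, hℓ, hCL, hLH, hLC, hLn, k, hk⟩ :=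
    exists_prime_ext hs (CJ_le α) (le_normalizer_CJ α) h0
  have : Fact ℓ.Prime := ⟨hℓ⟩
  have h1 : ∀ u, IsInv u → u • α = α → ¬ L ≤ centralizer {u} := fun u hu hα e => by
    refine hLC fun x hx => mem_CJ.2 ⟨hLH hx, fun v hv hv' => ?_⟩
    obtain ⟨d, hd, rfl⟩ := S.exists_conj_stab hu hv hα hv'
    exact (mem_centralizer_singleton_iff.1 (le_cent_conj (hLn hd) e hx)).symm
  have hd : ℓ ∣ nJ G α := by
    obtain ⟨u, hu, hα⟩ := S.exists_inv α
    have h2 : (centralizer {u}).relIndex L ∣ ℓ ^ k := by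
      rw [← hk, ← inf_relIndex_right]
      exact relIndex_dvd_of_le_left _ (le_inf (CJ_le_cent hu hα) hCL)
    obtain ⟨j, -, hj⟩ := (Nat.dvd_prime_pow hℓ).1 h2
    have h3 : j ≠ 0 := by
      rintro rfl
      exact h1 u hu hα (relIndex_eq_one.1 hj)
    refine (dvd_pow_self ℓ h3).trans ?_
    have := normal_subgroupOf_of_le_normalizer hLn
    rw [← hj, ← S.relIndex_cent_stab hu hα, ← relIndex_subgroupOf hLH]
    exact OrbitRep.relIndex_dvd_index_of_normal_right _ _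
  have hℓ2 : ℓ ≠ 2 := by
    rintro rfl
    exact (Nat.not_even_iff_odd.2 (S.odd_nJ α)) (even_iff_two_dvd.2 hd)
  obtain ⟨P, hP⟩ := IsSylowIn.exists_in (p := ℓ) (st2 G α β)
  have hP' := S.sylow_stab hT hd h hP
  have hL := hP'.inf_of_le_normalizer hLH (hP'.le.trans hLn)
  have hsup := hL.sup_eq_of_relIndex_eq_pow hCL hk
  have h2 : P ⊓ L ≤ st2 G α β := inf_le_left.trans hP.le
  have h3 : ¬ Fix3 Ω (P ⊓ L) := fun h3 => by
    obtain ⟨u, hu, a, b⟩ := S.exists_inv_cent hT hr hℓ2 hL.isPGroup h3 (h2.trans inf_le_left)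
    exact h1 u hu a (hsup.ge.trans (sup_le (CJ_le_cent hu a) b))
  refine (hL.frattini_le hLH hLn).trans (sup_le (hsup.ge.trans (sup_le_sup_left h2 _))
    (le_sup_of_le_right ?_))
  rintro g ⟨hg, hgn⟩
  exact ⟨hg, eq_of_not_fix3 h3 (smul_ne_of_fix hg h.symm) h.symm (h2.trans inf_le_left)
    (le_stab_smul hgn (h2.trans inf_le_right)) (h2.trans inf_le_right)⟩

theorem CJ_trans {α β β' : Ω} (hs : Group.IsSolvable (stabilizer G α)) (h : β ≠ α)
    (h' : β' ≠ α) : ∃ c ∈ CJ G α, c • β = β' := by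
  obtain ⟨g, h1, h2⟩ := S.two_trans hT hr h h'
  have h3 := S.stab_le_sup hT hr hs h.symm h1
  have h4 : st2 G α β ≤ normalizer (CJ G α : Set G) := inf_le_left.trans (le_normalizer_CJ α)
  obtain ⟨c, hc, d, hd, e⟩ := (mem_sup_iff_of_le_normalizer' h4).1 h3
  exact ⟨c, hc, by rw [← h2, ← e, mul_smul, show d • β = β from hd.2]⟩

end T

end SEA

end CfsgLib.SE
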