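import Cfsg.Agent.Lib.SE.T

/-! Project SE: construction of the regular normal subgroup of the point stabilizer. -/

set_option autoImplicit false

namespace CfsgLib.SE

open Subgroup MulAction Cfsg CfsgLib.Cop CfsgLib.H1

variable {G Ω : Type*} [Group G] [MulAction G Ω]

theorem Dg_eq {t : G} {α β : Ω} (ht : IsInv t) (h : t • α = β) :
    Suz.Dg (stabilizer G α) t = st2 G α β := by
  ext d
  rw [Suz.mem_Dg_iff, mem_inf, mem_stabilizer_iff, mem_stabilizer_iff, mem_stabilizer_iff,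
    ht.inv_eq, mul_smul, mul_smul, h]
  refine and_congr_right fun _ => ⟨fun e => ?_, fun e => ?_⟩
  · have := congrArg (t • ·) e
    simpa only [ht.smul_smul, h] using this
  · rw [e, ← h, ht.smul_smul]

/-- the induction hypothesis for proper subgroups -/
def IH (G Ω : Type*) [Group G] [MulAction G Ω] : Prop :=
  ∀ (M : Subgroup G) (α : Ω), M ≠ ⊤ → Rk2 (M ⊓ stabilizer G α) → ¬ M ≤ stabilizer G α → Conc M α

namespace SEA

variable (S : SEA G Ω) [Finite G] (hT : Tc G Ω) (hr : Rk2 (⊤ : Subgroup G))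
include S hT hr

theorem coprime_W (hf : ∀ g : G, (∀ ω : Ω, g • ω = ω) → g = 1) (ih : IH G Ω) {α β : Ω}
    (hs : Group.IsSolvable (stabilizer G α)) (h : α ≠ β) :
    (Nat.card ↥(CJ G α ⊓ st2 G α β)).Coprime ((st2 G α β).relIndex (stabilizer G α)) := by
  set W := CJ G α ⊓ st2 G α β with hW
  have e1 : (st2 G α β).relIndex (stabilizer G α) = W.relIndex (CJ G α) := by
    have h1 := card_mul_relIndex (inf_le_left : W ≤ CJ G α)
    have h2 := card_mul_relIndex (inf_le_left : st2 G α β ≤ stabilizer G α)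
    have h3 := card_sup_mul_card_inf (H := st2 G α β) (N := CJ G α)
      (inf_le_left.trans (le_normalizer_CJ α))
    rw [le_antisymm (sup_le inf_le_left (CJ_le α)) ((S.stab_le_sup hT hr hs h).trans
      (sup_comm _ _).le), inf_comm, ← h1, ← h2, mul_assoc, mul_comm (Nat.card W)] at h3
    exact Nat.eq_of_mul_eq_mul_right Nat.card_pos (Nat.eq_of_mul_eq_mul_left Nat.card_pos h3)
  rw [e1]
  refine Nat.coprime_of_dvd fun p hp h1 h2 => ?_
  have : Fact p.Prime := ⟨hp⟩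
  have hp2 : p ≠ 2 := by
    rintro rfl
    exact (Nat.not_even_iff_odd.2 ((S.odd_st2 h).of_dvd_nat (card_dvd_of_le inf_le_right)))
      (even_iff_two_dvd.2 h1)
  obtain ⟨X, hX⟩ := IsSylowIn.exists_in (p := p) W
  have hXα : X ≤ stabilizer G α := hX.le.trans (inf_le_right.trans inf_le_left)
  have hXβ : X ≤ stabilizer G β := hX.le.trans (inf_le_right.trans inf_le_right)
  have hN : normalizer (X : Set G) ≠ ⊤ := fun e => hX.ne_bot h1 (eq_bot_iff.2 fun x hx =>
    mem_bot.2 (hf x fun ω => by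
      obtain ⟨g, rfl⟩ := S.trans α ω
      exact le_stab_smul (e ▸ mem_top g) hXα hx))
  have hJ : ∀ u, IsInv u → u • α = α → u ∈ normalizer (X : Set G) := fun u a b =>
    centralizer_le_normalizer _ (mem_cent_of_le (hX.le.trans (inf_le_left.trans (CJ_le_cent a b))))
  have hc := ih _ α hN (by
    obtain ⟨a, ha, b, hb, h3, h4, h5⟩ := S.rk2_stab hr α
    exact ⟨a, ⟨hJ a h3 ha, ha⟩, b, ⟨hJ b h4 hb, hb⟩, h3, h4, h5⟩) (fun e => by
    obtain ⟨c, hc, e1⟩ := S.cent_trans hT hr hp2 hX.isPGroup (S.fix3_of_le h hX.le) h hXα hXβ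
    exact h ((e (centralizer_le_normalizer _ hc)).symm.trans e1))
  obtain ⟨Y, hXY, hY⟩ := IsSylowIn.exists_ge hX.isPGroup
    (le_inf (hX.le.trans inf_le_left) le_normalizer : X ≤ CJ G α ⊓ normalizer (X : Set G))
  obtain ⟨m, -, h3, h4⟩ := hc.c1 p hp hp2 Y (le_inf (hY.le.trans inf_le_right)
    (hY.le.trans (inf_le_left.trans (CJ_le α)))) hY.isPGroup
  obtain ⟨c, hc, e⟩ := S.CJ_trans hT hr hs h3 h.symm
  have h5 : Y.map (MulAut.conj c).toMonoidHom ≤ W := by
    refine le_inf ?_ (le_inf ?_ (e ▸ map_conj_le_stab h4))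
    · rintro _ ⟨y, hy, rfl⟩
      exact mul_mem (mul_mem hc (hY.le hy).1) (inv_mem hc)
    · rintro _ ⟨y, hy, rfl⟩
      exact mul_mem (mul_mem hc.1 (hY.le hy).1.1) (inv_mem hc.1)
  have h6 := hX.card_le (hY.isPGroup.map _) h5
  rw [card_map_conj] at h6
  obtain rfl := eq_of_le_of_card_le hXY h6
  refine (sylow_of_normalizer hY).not_dvd ?_
  rw [← relIndex_mul_relIndex X W _ hX.le inf_le_left]
  exact h2.mul_left _

theorem exists_Q (hf : ∀ g : G, (∀ ω : Ω, g • ω = ω) → g = 1) (ih : IH G Ω) {α β : Ω}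
    (hs : Group.IsSolvable (stabilizer G α)) (h : α ≠ β) :
    ∃ Q : Subgroup G, Q ≤ stabilizer G α ∧ stabilizer G α ≤ normalizer (Q : Set G) ∧
      Q ⊓ st2 G α β = ⊥ ∧ stabilizer G α ≤ Q ⊔ st2 G α β := by
  obtain ⟨p, hp, hp2, hd⟩ := S.exists_prime hr α
  have : Fact p.Prime := ⟨hp⟩
  obtain ⟨P, hP⟩ := IsSylowIn.exists_in (p := p) (st2 G α β)
  obtain ⟨t, h1, ht, h2, h3⟩ := S.exists_swap_normalizer h hP
  obtain ⟨k, hk, hk1, e⟩ := exists_inverted ht h1 (S.not_le_cent_swap hd h hP ht h2 h1)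
  have hkD := hP.le hk
  have hkp : IsPGroup p (zpowers k) := hP.isPGroup.to_le (zpowers_le_of_mem hk)
  have hk3 : ¬ Fix3 Ω (zpowers k) := fun h3 => by
    have h4 := mem_centralizer_singleton_iff.1 (S.le_cent_of_fix3 hT hp2 hkp h3 ht
      (mem_normalizer_of_conj_mem fun y hy =>
        Invol.inverts_of_mem_zpowers e hy ▸ inv_mem hy) (mem_zpowers k))
    exact hk1 (Invol.eq_one_of_odd (odd_orderOf_of_mem (S.odd_st2 h) hkD) (by
      rw [← h4, mul_inv_cancel_right] at e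
      nth_rw 2 [e]; exact mul_inv_cancel k))
  have htk : IsInv (t * k) := ⟨Invol.mul_mul_self ht.1 e, fun e' => h (by
    rw [← h2, ← show k • α = α from hkD.1, ← mul_smul, e', one_smul]; exact hkD.1)⟩
  have hkc : k ∈ centralizer ((CJ G α ⊓ st2 G α β : Subgroup G) : Set G) := by
    have := mul_mem (mem_cent_of_le (S.W_le_cent hT hr h ht h2)) (mem_cent_of_le
      (S.W_le_cent hT hr h htk (by rw [mul_smul, show k • α = α from hkD.1, h2])))
    rwa [ht.mul_mul] at this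
  refine exists_complement_in hs (CJ_le α) inf_le_left (le_normalizer_CJ α)
    (S.stab_le_sup hT hr hs h) (S.coprime_W hT hr hf ih hs h) hkD hkp hkc fun B hB hBp hkB => ?_
  obtain ⟨β', h4, h5⟩ := S.exists_second hT hd hBp hB
  have h6 := zpowers_le_of_mem hkB
  obtain rfl := eq_of_not_fix3 hk3 h4 h.symm (h6.trans hB) (h6.trans h5)
    (zpowers_le_of_mem hkD.2)
  rintro g ⟨hg, hgn⟩
  exact ⟨hg, eq_of_not_fix3 hk3 (smul_ne_of_fix hg h4) h4 (h6.trans hB)
    (h6.trans (le_stab_smul hgn h5)) (h6.trans h5)⟩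

theorem exists_RO (hf : ∀ g : G, (∀ ω : Ω, g • ω = ω) → g = 1) (ih : IH G Ω) {α : Ω}
    (hs : Group.IsSolvable (stabilizer G α)) :
    ∃ Q t, Suz.RO (stabilizer G α) Q t ∧ Suz.Rank2 Q := by
  obtain ⟨β, hβ⟩ := S.exists_ne α
  obtain ⟨Q, h1, h2, h3, h4⟩ := S.exists_Q hT hr hf ih hs hβ.symm
  obtain ⟨t, ht, e1, e2⟩ := S.exists_swap hβ.symm
  have hD : st2 G α β ≤ normalizer (Q : Set G) := inf_le_left.trans h2
  have hdec : ∀ h ∈ stabilizer G α, ∃ x ∈ Q, ∃ d ∈ st2 G α β, x * d = h := fun h hh =>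
    (mem_sup_iff_of_le_normalizer' hD).1 (h4 hh)
  have R : Suz.RO (stabilizer G α) Q t := by
    refine ⟨ht.1, fun e => hβ (e1.symm.trans e), h1,
      fun h hh x hx => conj_mem_of_mem_normalizer' (h2 hh) hx, fun x hx e => ?_, fun h hh => ?_,
      fun g hg => ?_, ?_, ?_⟩
    · have : x ∈ Q ⊓ st2 G α β := mem_inf.2 ⟨hx, by
        rw [← Dg_eq ht e1, Suz.mem_Dg_iff, ht.inv_eq]; exact ⟨h1 hx, e⟩⟩
      rwa [h3, mem_bot] at this
    · obtain ⟨x, hx, d, hd, e⟩ := hdec h hh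
      exact ⟨x, hx, d, Dg_eq ht e1 ▸ hd, e.symm⟩
    · obtain ⟨h, a, b⟩ := S.two_trans hT hr hβ (β' := g⁻¹ • α) (fun e => hg (by
        rw [inv_smul_eq_iff] at e; exact e.symm))
      obtain ⟨x, hx, d, hd, rfl⟩ := hdec h a
      refine ⟨g * x * t, ?_, x⁻¹, inv_mem hx, by simp [mul_assoc, ht.mul_mul]⟩
      rw [mul_smul, show d • β = β from hd.2] at b
      rw [mem_stabilizer_iff, mul_smul, mul_smul, e1, b, smul_inv_smul]
    · by_contra h5
      obtain ⟨u, hu, h6⟩ := S.exists_inv α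
      have h7 := odd_sup hD (S.odd_st2 hβ.symm) (Nat.not_even_iff_odd.1 h5)
      rw [sup_comm] at h7
      exact hu.not_odd (h4 h6) h7
    · rw [Dg_eq ht e1]; exact S.odd_st2 hβ.symm
  obtain ⟨a, ha, b, hb, h5, h6, h7, -⟩ := S.rk2_stab hr α
  exact ⟨Q, t, R, a, R.mem_Q_of_invol ha h5.1, b, R.mem_Q_of_invol hb h6.1, h5.2, h6.2, h7, h5.1,
    h6.1⟩

theorem conc_of_RO {α : Ω} {Q : Subgroup G} {t : G} (R : Suz.RO (stabilizer G α) Q t)
    (h2 : Suz.Rank2 Q) : Conc (⊤ : Subgroup G) α := by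
  have ht : IsInv t := ⟨R.tt, R.t_ne⟩
  have hβ : t • α ≠ α := R.t_notMem
  obtain ⟨k, hk⟩ := (R.isPGroup_two h2).exists_card_eq
  have hi : (st2 G α (t • α)).relIndex (stabilizer G α) = 2 ^ k := by
    have h1 := card_mul_relIndex (inf_le_left : st2 G α (t • α) ≤ stabilizer G α)
    rw [R.card_H, Dg_eq ht rfl, hk, mul_comm (2 ^ k)] at h1
    exact Nat.eq_of_mul_eq_mul_left Nat.card_pos h1
  have c1 : ∀ p : ℕ, p.Prime → p ≠ 2 → ∀ P : Subgroup G, P ≤ stabilizer G α → IsPGroup p P →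
      ∃ β, β ≠ α ∧ P ≤ stabilizer G β := by
    intro p hp hp2 B h hB
    have : Fact p.Prime := ⟨hp⟩
    obtain ⟨P, hP⟩ := IsSylowIn.exists_in (p := p) (st2 G α (t • α))
    have hP' : IsSylowIn p P (stabilizer G α) := by
      refine ⟨hP.le.trans inf_le_left, hP.isPGroup, ?_⟩
      rw [← relIndex_mul_relIndex P _ _ hP.le inf_le_left, hi, hp.dvd_mul]
      exact fun e => e.elim hP.not_dvd fun e =>
        hp2 ((Nat.prime_dvd_prime_iff_eq hp Nat.prime_two).1 (hp.dvd_of_dvd_pow e))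
    obtain ⟨x, hx, h1⟩ := hP'.exists_conj_le hB h
    refine ⟨x⁻¹ • t • α, smul_ne_of_fix (inv_mem hx : x⁻¹ ∈ stabilizer G α) hβ, ?_⟩
    have := map_conj_le_stab (g := x⁻¹) (h1.trans (hP.le.trans inf_le_right))
    rwa [map_conj_inv_map_conj] at this
  refine ⟨fun p hp hp2 P h hP => ?_, fun X h hX hn m _ => ?_, fun E _ hE h => ?_⟩
  · obtain ⟨β, h1, h3⟩ := c1 p hp hp2 P (h.trans inf_le_right) hP
    obtain ⟨m, rfl⟩ := S.trans α β
    exact ⟨m, mem_top m, h1, h3⟩
  · rw [top_inf_eq] at h hn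
    by_cases h1 : m • α = α
    · rwa [h1]
    have h3 : X ≤ st2 G α (t • α) := by
      have := normal_subgroupOf_of_le_normalizer hn
      have h4 := le_of_coprime_index (N := X.subgroupOf (stabilizer G α))
        (D := (st2 G α (t • α)).subgroupOf (stabilizer G α)) (by
          rw [card_subgroupOf_of_le h]
          change Nat.Coprime _ (relIndex _ _)
          rw [hi]; exact (Nat.coprime_two_right.2 hX).pow_right k)
      exact fun x hx => h4 (show (⟨x, h hx⟩ : stabilizer G α) ∈ _ from hx)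
    obtain ⟨g, a, b⟩ := S.two_trans hT hr hβ h1
    exact b ▸ le_stab_smul (hn a) (h3.trans inf_le_right)
  · obtain ⟨p, hp, hp2, hd⟩ := S.exists_prime hr α
    have : Fact p.Prime := ⟨hp⟩
    obtain ⟨P, hP⟩ := IsSylowIn.exists_in (p := p) (E ⊓ stabilizer G α)
    have hPα : P ≤ stabilizer G α := hP.le.trans inf_le_right
    have h3 : ¬ Fix3 Ω P := fun h3 => by
      obtain ⟨u, hu, a, b⟩ := S.exists_inv_cent hT hr hp2 hP.isPGroup h3 hPα
      have h4 : (centralizer {u}).relIndex (E ⊓ stabilizer G α) = nJ G α := by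
        rw [← Frob.ncard_conj_subgroup, nJ]
        congr 1
        ext v
        constructor
        · rintro ⟨x, hx, rfl⟩
          refine ⟨hu.conj x, ?_⟩
          have := conj_smul_eq (g := x) a
          rwa [show x • α = α from hx.2] at this
        · rintro ⟨hv, h5⟩
          obtain ⟨e, he, rfl⟩ := h u (mem_top _) v (mem_top _) hu hv
          exact ⟨e, ⟨he, S.fix_of_conj hu a h5⟩, rfl⟩
      refine hP.not_dvd (hd.trans ?_)
      rw [← h4, ← inf_relIndex_right]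
      exact relIndex_dvd_of_le_left _ (le_inf b hP.le)
    obtain ⟨β, h4, h5⟩ := c1 p hp hp2 P hPα hP.isPGroup
    obtain ⟨u, hu, a⟩ := S.exists_inv α
    obtain ⟨v, hv, b⟩ := S.exists_inv β
    obtain ⟨e, he, rfl⟩ := h u (mem_top _) v (mem_top _) hu hv
    have h6 : e • α = β := S.uniq _ hv _ _ (conj_smul_eq a) b
    have hP1 := hP.map_conj e
    rw [map_conj_inf, map_conj_eq_of_mem_normalizer (le_normalizer he), ← stab_smul, h6] at hP1
    obtain ⟨x, hx, h7⟩ := (hP1.of_card_le hP.isPGroup (le_inf (hP.le.trans inf_le_left) h5)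
      (card_map_conj _ _).le).exists_conj_eq hP1
    rw [← map_conj_mul] at h7
    have h8 : (x * e) • α = β := by rw [mul_smul, h6]; exact hx.2
    refine not_odd_of_swap h4.symm h8 ?_ (odd_orderOf_of_mem hE (mul_mem hx.1 he))
    by_contra h9
    exact h4 (smul_left_cancel (x * e) ((eq_of_not_fix3 h3 h9 h4 hPα
      (le_stab_smul (mem_normalizer_of_map_conj_eq h7) h5) h5).trans h8.symm))

end SEA

end CfsgLib.SE
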